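import Cfsg.Agent.LFourA.SylPsl
import Cfsg.Agent.GH.Defs

/-!
# GH-L2: `D ≀ 2`, `D` dihedral of order at least 8, is a 2-group of type `PSL(4, q)`, `q = 3 mod 4`
-/

set_option autoImplicit false

open Subgroup

namespace Cfsg.Agent.GH.L2.TypeL4Of

open Cfsg.Agent.LFourA.Model Cfsg.Agent.GH.Defs

/-- Two bijective parametrisations with the same multiplication table. -/
theorem nonempty_equiv {ι S S' : Type*} [Mul S] [Mul S'] (p : ι → S) (p' : ι → S')
    (hp : Function.Bijective p) (hp' : Function.Bijective p') (m : ι → ι → ι)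
    (hm : ∀ i j, p i * p j = p (m i j)) (hm' : ∀ i j, p' i * p' j = p' (m i j)) :
    Nonempty (S ≃* S') := by
  refine ⟨{ (Equiv.ofBijective p hp).symm.trans (Equiv.ofBijective p' hp') with
    map_mul' := ?_ }⟩
  intro a b
  obtain ⟨i, rfl⟩ := hp.2 a
  obtain ⟨j, rfl⟩ := hp.2 b
  have h1 : ∀ k, (Equiv.ofBijective p hp).symm (p k) = k := fun k => by
    rw [Equiv.symm_apply_eq]; rfl
  show (Equiv.ofBijective p' hp') ((Equiv.ofBijective p hp).symm (p i * p j)) =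
    (Equiv.ofBijective p' hp') ((Equiv.ofBijective p hp).symm (p i)) *
      (Equiv.ofBijective p' hp') ((Equiv.ofBijective p hp).symm (p j))
  rw [hm, h1, h1, h1]
  exact (hm' i j).symm

/-! ### Two 2-groups `D k ≀ 2` are isomorphic -/

section dwr

variable {G : Type*} [Group G] {S : Subgroup G} {k : ℕ} {f : D k → D k → G} {w : G}

theorem f_mem (h : DWr S k f w) (a b : D k) : f a b ∈ S := (h.mem_iff _).2 (Or.inl ⟨a, b, rfl⟩)

theorem fw_mem (h : DWr S k f w) (a b : D k) : f a b * w ∈ S :=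
  (h.mem_iff _).2 (Or.inr ⟨a, b, rfl⟩)

theorem f_one (h : DWr S k f w) : f 1 1 = 1 := by
  have h1 := h.f_mul 1 1 1 1
  rw [show (1 : D k) * 1 = 1 from mul_one 1] at h1
  exact mul_eq_left.1 h1

theorem f_injective (h : DWr S k f w) {a b a' b' : D k} (e : f a b = f a' b') : a = a' ∧ b = b' := by
  have h1 : f a'⁻¹ b'⁻¹ * f a' b' = 1 := by
    rw [h.f_mul, inv_mul_cancel, inv_mul_cancel, f_one h]
  have h2 : f (a'⁻¹ * a) (b'⁻¹ * b) = 1 := by
    rw [← h.f_mul, e, h1]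
  obtain ⟨h3, h4⟩ := h.f_inj _ _ h2
  exact ⟨(inv_mul_eq_one.1 h3).symm, (inv_mul_eq_one.1 h4).symm⟩

theorem f_ne_fw (h : DWr S k f w) (a b a' b' : D k) : f a b ≠ f a' b' * w := by
  intro e
  apply h.w_ne (a'⁻¹ * a) (b'⁻¹ * b)
  have h1 : f a'⁻¹ b'⁻¹ * f a' b' = 1 := by
    rw [h.f_mul, inv_mul_cancel, inv_mul_cancel, f_one h]
  rw [← h.f_mul, e, ← mul_assoc, h1, one_mul]

/-- the parametrisation -/
def pt (h : DWr S k f w) : (D k × D k) × Bool → S
  | (p, false) => ⟨f p.1 p.2, f_mem h _ _⟩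
  | (p, true) => ⟨f p.1 p.2 * w, fw_mem h _ _⟩

/-- the table -/
def tab (k : ℕ) : (D k × D k) × Bool → (D k × D k) × Bool → (D k × D k) × Bool
  | (p, false), (q, e) => (p * q, e)
  | (p, true), (q, e) => (p * q.swap, !e)

theorem pt_bijective (h : DWr S k f w) : Function.Bijective (pt h) := by
  constructor
  · rintro ⟨⟨a, b⟩, _ | _⟩ ⟨⟨c, d⟩, _ | _⟩ hab
    · obtain ⟨h1, h2⟩ := f_injective h (congrArg Subtype.val hab)
      dsimp only at h1 h2
      rw [h1, h2]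
    · exact absurd (congrArg Subtype.val hab) (f_ne_fw h a b c d)
    · exact absurd (congrArg Subtype.val hab).symm (f_ne_fw h c d a b)
    · obtain ⟨h1, h2⟩ := f_injective h (mul_right_cancel
        (show f a b * w = f c d * w from congrArg Subtype.val hab))
      rw [h1, h2]
  · rintro ⟨s, hs⟩
    rcases (h.mem_iff s).1 hs with ⟨x, y, rfl⟩ | ⟨x, y, rfl⟩
    · exact ⟨((x, y), false), rfl⟩
    · exact ⟨((x, y), true), rfl⟩

theorem pt_mul (h : DWr S k f w) (i j : (D k × D k) × Bool) : pt h i * pt h j = pt h (tab k i j) := by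
  rcases i with ⟨⟨a, b⟩, _ | _⟩ <;> rcases j with ⟨⟨c, d⟩, _ | _⟩ <;> apply Subtype.ext
  · show f a b * f c d = f (a * c) (b * d)
    exact h.f_mul _ _ _ _
  · show f a b * (f c d * w) = f (a * c) (b * d) * w
    rw [← mul_assoc, h.f_mul]
  · show f a b * w * f c d = f (a * d) (b * c) * w
    rw [mul_assoc, h.w_f, ← mul_assoc, h.f_mul]
  · show f a b * w * (f c d * w) = f (a * d) (b * c)
    rw [mul_assoc, ← mul_assoc w, h.w_f, mul_assoc _ w w, h.w_w, mul_one, h.f_mul]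

theorem equiv_of_dwr {G' : Type*} [Group G'] {S' : Subgroup G'} {f' : D k → D k → G'} {w' : G'}
    (h : DWr S k f w) (h' : DWr S' k f' w') : Nonempty (S ≃* S') :=
  nonempty_equiv _ _ (pt_bijective h) (pt_bijective h') (tab k) (pt_mul h) (pt_mul h')

end dwr

/-! ### The field -/

/-- Dirichlet: for every `k` there are a prime `p = 3 mod 4` and an odd `m` with `p + 1 = 4 * 2 ^ k * m`. -/
theorem exists_prime (k : ℕ) : ∃ p m : ℕ, p.Prime ∧ p % 4 = 3 ∧ p + 1 = 4 * 2 ^ k * m ∧ Odd m := by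
  have h0 : (2 : ℕ) ^ (k + 3) = 8 * 2 ^ k := by rw [pow_add]; norm_num; ring
  have h1 : 1 ≤ 2 ^ k := Nat.one_le_two_pow
  have hodd : Odd (4 * 2 ^ k - 1) := ⟨2 * 2 ^ k - 1, by omega⟩
  have hcop : Nat.Coprime (4 * 2 ^ k - 1) (2 ^ (k + 3)) := by
    apply Nat.Coprime.pow_right
    exact (Nat.coprime_two_right).2 hodd
  have : NeZero (2 ^ (k + 3) : ℕ) := ⟨by positivity⟩
  obtain ⟨p, -, hp, hpm⟩ := Nat.forall_exists_prime_gt_and_eq_mod
    (q := 2 ^ (k + 3)) (a := ((4 * 2 ^ k - 1 : ℕ) : ZMod (2 ^ (k + 3))))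
    ((ZMod.isUnit_iff_coprime _ _).2 hcop) 0
  rw [ZMod.natCast_eq_natCast_iff', h0] at hpm
  have h2 : (4 * 2 ^ k - 1) % (8 * 2 ^ k) = 4 * 2 ^ k - 1 := Nat.mod_eq_of_lt (by omega)
  rw [h2] at hpm
  have h3 := Nat.div_add_mod p (8 * 2 ^ k)
  have h4 : p + 1 = 4 * 2 ^ k * (2 * (p / (8 * 2 ^ k)) + 1) := by
    rw [hpm] at h3
    have h5 : 8 * 2 ^ k * (p / (8 * 2 ^ k)) + 4 * 2 ^ k = p + 1 := by omega
    rw [← h5]
    ring
  refine ⟨p, 2 * (p / (8 * 2 ^ k)) + 1, hp, ?_, h4, ⟨_, rfl⟩⟩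
  have h5 : p + 1 = 4 * (2 ^ k * (2 * (p / (8 * 2 ^ k)) + 1)) := by rw [h4]; ring
  omega

theorem typeL4_of_dwr {G : Type*} [Group G] {S : Subgroup G} {k : ℕ} {f : D k → D k → G} {w : G}
    (h : DWr S k f w) : TypeL4 S := by
  obtain ⟨p, m, hp, hp4, hpk, hm⟩ := exists_prime k
  have : Fact p.Prime := ⟨hp⟩
  obtain ⟨P⟩ : Nonempty (Sylow 2 (Matrix.ProjectiveSpecialLinearGroup (Fin 4) (ZMod p))) := inferInstance
  obtain ⟨f', w', h'⟩ := Cfsg.Agent.LFourA.SylPsl.exists_dwr_psl (F := ZMod p) (k := k) (m := m)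
    (by rw [ZMod.card]; exact hp4) (by rw [ZMod.card]; exact hpk) hm P
  exact ⟨ZMod p, inferInstance, inferInstance, by rw [ZMod.card, Nat.odd_iff]; omega, P,
    equiv_of_dwr h h'⟩

/-! ### From subgroups -/

/-- `S` is the wreath product of `W` (a subgroup) with `⟨t⟩`. -/
structure WrSub {G : Type*} [Group G] (S W : Subgroup G) (t : G) : Prop where
  tt : t * t = 1
  tne : t ≠ 1
  W_le : W ≤ S
  t_mem : t ∈ S
  comm : ∀ x ∈ W, ∀ y ∈ W, x * (t * y * t⁻¹) = (t * y * t⁻¹) * x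
  inf : ∀ x ∈ W, ∀ y ∈ W, x = t * y * t⁻¹ → x = 1
  cov : ∀ s ∈ S, ∃ x ∈ W, ∃ y ∈ W, s = x * (t * y * t⁻¹) ∨ s = x * (t * y * t⁻¹) * t

namespace WrSub

variable {G : Type*} [Group G] {S W : Subgroup G} {t : G}

theorem tinv (h : WrSub S W t) : t⁻¹ = t := inv_eq_of_mul_eq_one_left h.tt

theorem t_nmem (h : WrSub S W t) : t ∉ W := fun h1 => h.tne (h.inf t h1 t h1 (by group))

/-- the homomorphism `W × W → S` -/
def hom (h : WrSub S W t) : W × W →* G where
  toFun p := (p.1 : G) * (t * p.2 * t⁻¹)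
  map_one' := by simp
  map_mul' := by
    rintro ⟨a, b⟩ ⟨c, d⟩
    show ((a * c : W) : G) * (t * ((b * d : W) : G) * t⁻¹) =
      (a : G) * (t * b * t⁻¹) * ((c : G) * (t * d * t⁻¹))
    have h1 := h.comm c c.2 b b.2
    calc ((a * c : W) : G) * (t * ((b * d : W) : G) * t⁻¹)
        = (a : G) * (c * (t * b * t⁻¹)) * (t * d * t⁻¹) := by
          push_cast; group
      _ = (a : G) * ((t * b * t⁻¹) * c) * (t * d * t⁻¹) := by rw [h1]
      _ = _ := by group

theorem hom_apply (h : WrSub S W t) (a b : W) : h.hom (a, b) = (a : G) * (t * b * t⁻¹) := rfl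

theorem hom_inj (h : WrSub S W t) : Function.Injective h.hom := by
  rw [injective_iff_map_eq_one]
  rintro ⟨a, b⟩ hab
  rw [hom_apply] at hab
  have h1 : (a : G) = t * ((b⁻¹ : W) : G) * t⁻¹ := by
    rw [eq_inv_of_mul_eq_one_left hab]
    push_cast
    group
  have h2 := h.inf a a.2 _ (b⁻¹).2 h1
  have h3 : (b : G) = 1 := by
    rw [h2, one_mul] at hab
    exact conj_eq_one_iff.1 hab
  exact Prod.ext (Subtype.ext h2) (Subtype.ext h3)

theorem t_hom (h : WrSub S W t) (x y : W) : t * h.hom (x, y) = h.hom (y, x) * t := by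
  rw [hom_apply, hom_apply]
  have h1 := h.comm y y.2 x x.2
  calc t * ((x : G) * (t * y * t⁻¹)) = (t * x * t⁻¹) * (t * t) * y * t⁻¹ := by group
    _ = (t * x * t⁻¹) * y * t⁻¹ := by rw [h.tt, mul_one]
    _ = (y * (t * x * t⁻¹)) * t⁻¹ := by rw [h1]
    _ = _ := by rw [h.tinv]

theorem hom_ne (h : WrSub S W t) (p : W × W) : t ≠ h.hom p := by
  rcases p with ⟨a, b⟩
  intro hab
  have h1 := h.t_hom a b
  rw [← hab] at h1
  have h2 : h.hom (b, a) = h.hom (a, b) := by rw [← hab]; exact (mul_right_cancel h1).symm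
  have h3 : b = a := congrArg Prod.fst (h.hom_inj h2)
  subst h3
  rw [hom_apply] at hab
  have h4 : (b : G) * t * b = 1 := by
    calc (b : G) * t * b = ((b : G) * (t * b * t⁻¹)) * t := by group
      _ = 1 := by rw [← hab, h.tt]
  have h5 : t = (b : G)⁻¹ * (b : G)⁻¹ := by
    calc t = (b : G)⁻¹ * ((b : G) * t * b) * (b : G)⁻¹ := by group
      _ = _ := by rw [h4, mul_one]
  apply h.t_nmem
  rw [h5]; exact mul_mem (inv_mem b.2) (inv_mem b.2)

theorem dwr (h : WrSub S W t) {k : ℕ} (e : W ≃* D k) :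
    DWr S k (fun a b => h.hom (e.symm a, e.symm b)) t where
  f_mul a b a' b' := by
    show h.hom (e.symm a, e.symm b) * h.hom (e.symm a', e.symm b') =
      h.hom (e.symm (a * a'), e.symm (b * b'))
    rw [← map_mul, map_mul e.symm, map_mul e.symm]
    rfl
  f_inj a b hab := by
    have h1 : (e.symm a, e.symm b) = (1 : W × W) := h.hom_inj (by rw [map_one]; exact hab)
    have h2 : e.symm a = 1 := congrArg Prod.fst h1
    have h3 : e.symm b = 1 := congrArg Prod.snd h1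
    exact ⟨(MulEquiv.map_eq_one_iff _).1 h2, (MulEquiv.map_eq_one_iff _).1 h3⟩
  w_w := h.tt
  w_f a b := h.t_hom _ _
  w_ne a b := h.hom_ne _
  mem_iff g := by
    constructor
    · intro hg
      obtain ⟨x, hx, y, hy, h1 | h1⟩ := h.cov g hg
      · exact Or.inl ⟨e ⟨x, hx⟩, e ⟨y, hy⟩, by
          show g = h.hom (e.symm (e ⟨x, hx⟩), e.symm (e ⟨y, hy⟩))
          rw [e.symm_apply_apply, e.symm_apply_apply]; exact h1⟩
      · exact Or.inr ⟨e ⟨x, hx⟩, e ⟨y, hy⟩, by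
          show g = h.hom (e.symm (e ⟨x, hx⟩), e.symm (e ⟨y, hy⟩)) * t
          rw [e.symm_apply_apply, e.symm_apply_apply]; exact h1⟩
    · have h2 : ∀ p, h.hom p ∈ S := by
        rintro ⟨a, b⟩
        exact mul_mem (h.W_le a.2) (mul_mem (mul_mem h.t_mem (h.W_le b.2)) (inv_mem h.t_mem))
      rintro (⟨a, b, rfl⟩ | ⟨a, b, rfl⟩)
      · exact h2 _
      · exact mul_mem (h2 _) h.t_mem

end WrSub

/-- **`D ≀ 2` is of type `PSL(4, q)`.** -/
theorem typeL4_of_wr {G : Type*} [Group G] {S W : Subgroup G} {t : G} (h : WrSub S W t) {n : ℕ}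
    (hn : 2 ≤ n) (e : Nonempty (W ≃* DihedralGroup (2 ^ n))) : TypeL4 S := by
  obtain ⟨k, rfl⟩ : ∃ k, n = k + 2 := ⟨n - 2, by omega⟩
  obtain ⟨e⟩ := e
  have h1 : 2 ^ (k + 2) = 4 * 2 ^ k := by rw [pow_add]; norm_num; ring
  rw [h1] at e
  exact typeL4_of_dwr (h.dwr e)

end Cfsg.Agent.GH.L2.TypeL4Of
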