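import Cfsg.Agent.GH.L2.TypeSp4Rel
import Cfsg.Agent.GH.L2.TypeL4Of
import Cfsg.Agent.GH.L2One.Dbl
import Cfsg.Agent.GH.Q2.ModelSp4
import Cfsg.Agent.LFourA.SylDih

/-!
# GH-L2, `m_2(Q) = 1`, CASE I: the identification

`typeL4_of_dbl`: `Dbl`, `T ≤ T0`, `s` an involution: `S` is of type `PSL(4, q)`.
`typeSp4_of_dbl`: `Dbl`, `s` an involution, `a ∈ T - T0` an involution commuting with `s`: `S` is of type `PSp(4, q)`.
-/

set_option autoImplicit false

open Subgroup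

namespace Cfsg.Agent.GH.L2.TypeSp4Of

open Cfsg.Agent.GH.L2.TypeSp4Rel Cfsg.Agent.GH.L2.TypeL4Of Cfsg.Agent.GH.L2One
open Cfsg.Agent.GH.Defs Cfsg.Agent.GH.Q2.Rel

variable {G : Type*} [Group G]

/-! ### The relations of `(Q * Q)⟨t⟩` -/

section rel

variable {n : ℕ} {ρ c ρ' c' a s e e' : G}

theorem relR (h : DD n ρ c ρ' c' a s e e') :
    RelR n (e * e') (e * e' * a * c * ρ' * c') (e * s) (e * e' * a * c * c') (e' * c * c' * s) where
  zz := by
    calc e * e' * (e * e') = e * (e' * e) * e' := by group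
      _ = (e * e) * (e' * e') := by rw [h.e'e]; group
      _ = 1 := by rw [h.ee, h.e'e', one_mul]
  r₁n := by
    rw [pow_succ', pow_mul, pow_two, R_sq1 h, Commute.mul_pow, inv_pow, ← h.he, ← h.he', h.e'inv]
    exact (Commute.inv_left (show Commute ρ' ρ from h.ρρ')).symm
  r₂n := by
    rw [pow_succ', pow_mul, pow_two, R_sq2 h, Commute.mul_pow, ← h.he, ← h.he']
    exact (show Commute ρ' ρ from h.ρρ').symm
  y₁y := R_y₁y h
  y₂y := R_y₂y h
  yr₁ := by
    rw [eq_inv_mul_iff_mul_eq, ← mul_assoc]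
    exact R_ry1 h
  yr₂ := by
    rw [eq_inv_mul_iff_mul_eq, ← mul_assoc]
    exact R_ry2 h
  rr := (R_prod h).trans (R_prod' h).symm
  ry := R_ry h
  yr := R_yr h
  yy := R_yy h

theorem relT (h : DD n ρ c ρ' c' a s e e') :
    RelT (e * e' * a * c * ρ' * c') (e * s) (e * e' * a * c * c') (e' * c * c' * s) (e * c') where
  tt := R_tt h
  tr := R_tr h
  ty := R_ty h

/-- The original elements lie in the subgroup generated by the new ones. -/
theorem gens (h : DD n ρ c ρ' c' a s e e') {K : Subgroup G} (h1 : e * e' * a * c * ρ' * c' ∈ K)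
    (h2 : e * e' * a * c * c' ∈ K) (h3 : e * s ∈ K) (h4 : e * c' ∈ K) :
    ρ ∈ K ∧ c ∈ K ∧ s ∈ K ∧ a ∈ K := by
  have hρ : ρ ∈ K := by rw [← R_prod h]; exact K.mul_mem h1 h2
  have he : e ∈ K := by rw [h.he]; exact K.pow_mem hρ _
  have hs : s ∈ K := by rw [← R_gs h]; exact K.mul_mem he h3
  have hc' : c' ∈ K := by rw [← R_gc' h]; exact K.mul_mem he h4
  have hsi : s⁻¹ = s := inv_eq_of_mul_eq_one_left h.ss
  have hc : c ∈ K := by
    have h5 : c = s * c' * s⁻¹ := by rw [h.sc']; group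
    rw [h5]; exact K.mul_mem (K.mul_mem hs hc') (K.inv_mem hs)
  have he' : e' ∈ K := by
    have h5 : e' = s * e * s⁻¹ := by rw [h.se]; group
    rw [h5]; exact K.mul_mem (K.mul_mem hs he) (K.inv_mem hs)
  refine ⟨hρ, hc, hs, ?_⟩
  rw [← R_ga h]
  exact K.mul_mem (K.mul_mem h2 (K.mul_mem hc' hc)) (K.mul_mem he he')

end rel

/-! ### `Dbl` -/

section dbl

variable {x z : G} {S T T0 D : Subgroup G} {d : ℕ} {r c s : G}

theorem cinv (h : Dbl x z S T T0 D d r c s) : c⁻¹ = c := inv_eq_of_mul_eq_one_left h.cc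

theorem r_pow (h : Dbl x z S T T0 D d r c s) : r ^ 2 ^ (d - 1) = 1 := by
  rw [← h.or_eq]; exact pow_orderOf_eq_one r

theorem c_rk (h : Dbl x z S T T0 D d r c s) (k : ℤ) : c * r ^ k = r ^ (-k) * c := by
  have h1 : c * r ^ k * c⁻¹ = (r⁻¹) ^ k := by rw [← h.crc, conj_zpow]
  calc c * r ^ k = c * r ^ k * c⁻¹ * c := by group
    _ = r ^ (-k) * c := by rw [h1, inv_zpow']

theorem rkc_sq (h : Dbl x z S T T0 D d r c s) (k : ℤ) : (r ^ k * c) * (r ^ k * c) = 1 := by
  calc (r ^ k * c) * (r ^ k * c) = r ^ k * (c * r ^ k) * c := by group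
    _ = r ^ k * r ^ (-k) * (c * c) := by rw [c_rk h]; group
    _ = 1 := by rw [h.cc]; group

theorem rr_ne (h : Dbl x z S T T0 D d r c s) : r * r ≠ 1 := by
  intro h1
  have h2 := orderOf_dvd_of_pow_eq_one (show r ^ 2 = 1 by rw [pow_two, h1])
  rw [h.or_eq] at h2
  have h3 : (2 : ℕ) ^ 2 ∣ 2 ^ (d - 1) := pow_dvd_pow 2 (by have := h.d_ge; omega)
  have := Nat.le_of_dvd (by norm_num) (h3.trans h2)
  omega

/-- an element of `T` maps `r` to a power of `r` with odd exponent -/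
theorem conj_r (h : Dbl x z S T T0 D d r c s) {t : G} (ht : t ∈ T) :
    ∃ j : ℤ, Odd j ∧ t * r * t⁻¹ = r ^ j := by
  obtain ⟨j, hj | hj⟩ := h.D_form _ (h.D_norm t ht r h.r_mem)
  · refine ⟨j, ?_, hj⟩
    by_contra h1
    rw [Int.not_odd_iff_even] at h1
    obtain ⟨i, rfl⟩ := h1
    -- `(t r t⁻¹) ^ 2 ^ (d - 2) = 1`
    have h2 : (t * r * t⁻¹) ^ 2 ^ (d - 2) = 1 := by
      have h3 : (2 : ℕ) ^ (d - 1) = 2 * 2 ^ (d - 2) := by
        rw [← pow_succ']; congr 1; have := h.d_ge; omega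
      rw [hj, ← zpow_natCast, ← zpow_mul]
      have h4 : (i + i) * ((2 ^ (d - 2) : ℕ) : ℤ) = ((2 ^ (d - 1) : ℕ) : ℤ) * i := by
        rw [h3]; push_cast; ring
      rw [h4, zpow_mul, zpow_natCast, r_pow h, one_zpow]
    rw [conj_pow, conj_eq_one_iff] at h2
    have h3 := orderOf_dvd_of_pow_eq_one h2
    rw [h.or_eq] at h3
    have h4 := (Nat.pow_dvd_pow_iff_le_right (by norm_num : 1 < 2)).1 h3
    have := h.d_ge
    omega
  · exfalso
    have h1 : (t * r * t⁻¹) * (t * r * t⁻¹) = 1 := by rw [hj]; exact rkc_sq h j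
    have h2 : t * (r * r) * t⁻¹ = 1 := by rw [← h1]; group
    rw [conj_eq_one_iff] at h2
    exact rr_ne h h2

theorem conj_c (h : Dbl x z S T T0 D d r c s) {t : G} (ht : t ∈ T) :
    ∃ k : ℤ, t * c * t⁻¹ = r ^ k * c := by
  obtain ⟨k, hk | hk⟩ := h.D_form _ (h.D_norm t ht c h.c_mem)
  · exfalso
    obtain ⟨j, -, hj⟩ := conj_r h (T.inv_mem ht)
    have h1 : c = (t⁻¹ * r * t⁻¹⁻¹) ^ k := by
      rw [conj_zpow, ← hk]; group
    rw [hj, ← zpow_mul] at h1
    exact h.c_not _ h1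
  · exact ⟨k, hk⟩

/-- `T0` has index at most 2 in `T` -/
theorem T_form (h : Dbl x z S T T0 D d r c s) {a g : G} (ha : a ∈ T) (ha0 : a ∉ T0) (hg : g ∈ T)
    (hg0 : g ∉ T0) : a⁻¹ * g ∈ T0 := by
  obtain ⟨k, hk⟩ := conj_c h hg
  obtain ⟨m, hm⟩ := conj_c h (T.inv_mem ha)
  obtain ⟨j, hj, hr⟩ := conj_r h (T.inv_mem ha)
  have hk1 : Odd k := by
    rw [← Int.not_even_iff_odd]; exact fun h1 => hg0 ((h.swap g hg k hk).2 h1)
  have hm1 : Odd m := by
    rw [← Int.not_even_iff_odd]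
    intro h1
    apply ha0
    rw [← inv_inv a]
    exact T0.inv_mem ((h.swap a⁻¹ (T.inv_mem ha) m hm).2 h1)
  refine (h.swap (a⁻¹ * g) (T.mul_mem (T.inv_mem ha) hg) (j * k + m) ?_).2 ?_
  · calc a⁻¹ * g * c * (a⁻¹ * g)⁻¹ = a⁻¹ * (g * c * g⁻¹) * a⁻¹⁻¹ := by group
      _ = (a⁻¹ * r ^ k * a⁻¹⁻¹) * (a⁻¹ * c * a⁻¹⁻¹) := by rw [hk]; group
      _ = (a⁻¹ * r * a⁻¹⁻¹) ^ k * (a⁻¹ * c * a⁻¹⁻¹) := by rw [conj_zpow]
      _ = r ^ (j * k + m) * c := by rw [hr, hm, ← zpow_mul, zpow_add]; group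
  · exact (hj.mul hk1).add_odd hm1

theorem T0_le (h : Dbl x z S T T0 D d r c s) (hD : ∀ f ∈ D, s * f * s⁻¹ ∈ T) : T0 ≤ T := by
  intro g hg
  obtain ⟨e, he, f, hf, rfl⟩ := (h.mem_T0 g).1 hg
  exact T.mul_mem (h.D_le he) (hD f hf)

/-- `s` normalises `T` -/
theorem s_norm (h : Dbl x z S T T0 D d r c s) {t : G} (ht : t ∈ T) : s * t * s⁻¹ ∈ T := by
  have hS : s * t * s⁻¹ ∈ S := S.mul_mem (S.mul_mem h.s_mem (h.T_le ht)) (S.inv_mem h.s_mem)
  by_contra h1
  have h2 := h.S_form _ hS h1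
  have h3 : s⁻¹ * (s * t * s⁻¹) = t * s⁻¹ := by group
  rw [h3] at h2
  have h4 := T.mul_mem (T.inv_mem ht) h2
  rw [inv_mul_cancel_left] at h4
  exact h.s_not (inv_inv s ▸ T.inv_mem h4)

theorem T0_le' (h : Dbl x z S T T0 D d r c s) : T0 ≤ T :=
  T0_le h fun _ hf => s_norm h (h.D_le hf)

/-- two cosets -/
theorem card_two {H K : Subgroup G} (hle : H ≤ K) {a : G} (ha : a ∈ K) (haH : a ∉ H)
    (hf : ∀ g ∈ K, g ∉ H → a⁻¹ * g ∈ H) : Nat.card K = Nat.card H * 2 := by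
  let f : H × Bool → K := fun p => match p with
    | (t, false) => ⟨t, hle t.2⟩
    | (t, true) => ⟨a * t, K.mul_mem ha (hle t.2)⟩
  have hb : Function.Bijective f := by
    constructor
    · rintro ⟨⟨t, ht⟩, _ | _⟩ ⟨⟨u, hu⟩, _ | _⟩ h1
      · have h2 : t = u := congrArg Subtype.val h1
        subst h2; rfl
      · exfalso
        have h2 : t = a * u := congrArg Subtype.val h1
        apply haH
        have h3 : a = t * u⁻¹ := by rw [h2]; group
        rw [h3]; exact H.mul_mem ht (H.inv_mem hu)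
      · exfalso
        have h2 : a * t = u := congrArg Subtype.val h1
        apply haH
        have h3 : a = u * t⁻¹ := by rw [← h2]; group
        rw [h3]; exact H.mul_mem hu (H.inv_mem ht)
      · have h2 : a * t = a * u := congrArg Subtype.val h1
        have h3 := mul_left_cancel h2
        subst h3; rfl
    · rintro ⟨g, hg⟩
      by_cases h1 : g ∈ H
      · exact ⟨(⟨g, h1⟩, false), rfl⟩
      · exact ⟨(⟨a⁻¹ * g, hf g hg h1⟩, true), Subtype.ext (by
          show a * (a⁻¹ * g) = g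
          group)⟩
  rw [← Nat.card_congr (Equiv.ofBijective f hb), Nat.card_prod, Nat.card_eq_fintype_card (α := Bool),
    Fintype.card_bool]

/-- `D` is dihedral -/
theorem D_equiv (h : Dbl x z S T T0 D d r c s) : Nonempty (D ≃* DihedralGroup (2 ^ (d - 1))) := by
  have : NeZero (2 ^ (d - 1)) := ⟨by positivity⟩
  have hcr : c * r * c = r⁻¹ := by
    have := h.crc
    rwa [cinv h] at this
  let φ : DihedralGroup (2 ^ (d - 1)) →* G := Cfsg.Agent.LFourA.SylDih.dih r c (r_pow h) h.cc hcr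
  have hinj : Function.Injective φ := by
    rw [injective_iff_map_eq_one]
    rintro (i | i) h1
    · have h2 : r ^ i.val = 1 := h1
      have h3 := orderOf_dvd_of_pow_eq_one h2
      rw [h.or_eq] at h3
      have h4 : i.val < 2 ^ (d - 1) := ZMod.val_lt i
      have h5 : i.val = 0 := Nat.eq_zero_of_dvd_of_lt h3 h4
      have h6 : i = 0 := (ZMod.val_eq_zero i).1 h5
      rw [h6]; rfl
    · exfalso
      have h2 : c * r ^ i.val = 1 := h1
      apply h.c_not (-(i.val : ℤ))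
      rw [zpow_neg, zpow_natCast]
      exact eq_inv_of_mul_eq_one_left h2
  have hr : φ.range = D := by
    apply le_antisymm
    · rintro _ ⟨i | i, rfl⟩
      · exact D.pow_mem h.r_mem _
      · exact D.mul_mem h.c_mem (D.pow_mem h.r_mem _)
    · have hrm : r ∈ φ.range := ⟨DihedralGroup.r 1, by
        show r ^ (1 : ZMod (2 ^ (d - 1))).val = r
        have : Fact (1 < 2 ^ (d - 1)) := ⟨Nat.one_lt_two_pow (by have := h.d_ge; omega)⟩
        rw [ZMod.val_one, pow_one]⟩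
      have hcm : c ∈ φ.range := ⟨DihedralGroup.sr 0, by
        show c * r ^ (0 : ZMod (2 ^ (d - 1))).val = c
        rw [ZMod.val_zero, pow_zero, mul_one]⟩
      intro g hg
      obtain ⟨k, rfl | rfl⟩ := h.D_form g hg
      · exact zpow_mem hrm _
      · exact mul_mem (zpow_mem hrm _) hcm
  exact ⟨(MulEquiv.subgroupCongr hr.symm).trans (MonoidHom.ofInjective hinj).symm⟩

theorem card_D (h : Dbl x z S T T0 D d r c s) : Nat.card D = 2 ^ d := by
  obtain ⟨e⟩ := D_equiv h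
  have : NeZero (2 ^ (d - 1)) := ⟨by positivity⟩
  rw [Nat.card_congr e.toEquiv, DihedralGroup.nat_card, ← pow_succ']
  congr 1
  have := h.d_ge
  omega

theorem card_T0 (h : Dbl x z S T T0 D d r c s) : Nat.card T0 = 2 ^ d * 2 ^ d := by
  let f : D × D → T0 := fun p => ⟨p.1 * (s * p.2 * s⁻¹), (h.mem_T0 _).2 ⟨p.1, p.1.2, p.2, p.2.2, rfl⟩⟩
  have hb : Function.Bijective f := by
    constructor
    · rintro ⟨⟨e, he⟩, ⟨g, hg⟩⟩ ⟨⟨e', he'⟩, ⟨g', hg'⟩⟩ h1
      have h2 : e * (s * g * s⁻¹) = e' * (s * g' * s⁻¹) := congrArg Subtype.val h1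
      have h3 : e'⁻¹ * e = s * (g' * g⁻¹) * s⁻¹ := by
        calc e'⁻¹ * e = e'⁻¹ * (e * (s * g * s⁻¹)) * (s * g * s⁻¹)⁻¹ := by group
          _ = s * (g' * g⁻¹) * s⁻¹ := by rw [h2]; group
      have h4 := h.disj _ (D.mul_mem (D.inv_mem he') he) _ (D.mul_mem hg' (D.inv_mem hg)) h3
      have h5 : e' = e := inv_mul_eq_one.1 h4
      subst h5
      rw [inv_mul_cancel, eq_comm, conj_eq_one_iff, mul_inv_eq_one] at h3
      subst h3
      rfl
    · rintro ⟨g, hg⟩
      obtain ⟨e, he, f', hf', rfl⟩ := (h.mem_T0 g).1 hg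
      exact ⟨(⟨e, he⟩, ⟨f', hf'⟩), rfl⟩
  rw [← Nat.card_congr (Equiv.ofBijective f hb), Nat.card_prod, card_D h]

/-- **Type `PSL(4, q)`.** -/
theorem typeL4_of_dbl (h : Dbl x z S T T0 D d r c s) (hT : T ≤ T0) (ss : s * s = 1) : TypeL4 S := by
  have si : s⁻¹ = s := inv_eq_of_mul_eq_one_left ss
  have hw : WrSub S D s :=
    { tt := ss
      tne := fun h1 => h.s_not (h1 ▸ T.one_mem)
      W_le := h.D_le.trans h.T_le
      t_mem := h.s_mem
      comm := h.comm
      inf := h.disj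
      cov := by
        intro g hg
        by_cases h1 : g ∈ T
        · obtain ⟨e, he, f, hf, h2⟩ := (h.mem_T0 g).1 (hT h1)
          exact ⟨e, he, f, hf, Or.inl h2⟩
        · obtain ⟨e, he, f, hf, h2⟩ := (h.mem_T0 _).1 (hT (h.S_form g hg h1))
          refine ⟨f, hf, e, he, Or.inr ?_⟩
          have h3 := h.comm f hf e he
          rw [h3]
          calc g = s * (s⁻¹ * g) := by group
            _ = (s * e) * (s * f * s⁻¹) := by rw [h2]; group
            _ = (s * e * s⁻¹) * (s * s) * f * s⁻¹ := by group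
            _ = (s * e * s⁻¹) * f * s := by rw [ss, si, mul_one] }
  exact typeL4_of_wr hw (n := d - 1) (by have := h.d_ge; omega) (D_equiv h)

/-- the relations -/
theorem dd_of_dbl (h : Dbl x z S T T0 D d r c s) (ss : s * s = 1) {a : G} (ha : a ∈ T)
    (ha0 : a ∉ T0) (aa : a * a = 1) (sa : a * s = s * a) :
    ∃ m : ℤ, Odd m ∧ DD (d - 2) (r ^ m) c (s * r ^ m * s⁻¹) (s * c * s⁻¹) a s
      ((r ^ m) ^ 2 ^ (d - 2)) ((s * r ^ m * s⁻¹) ^ 2 ^ (d - 2)) := by
  obtain ⟨m, hm⟩ := conj_c h ha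
  have hm1 : Odd m := by
    rw [← Int.not_even_iff_odd]; exact fun h1 => ha0 ((h.swap a ha m hm).2 h1)
  refine ⟨m, hm1, ?_⟩
  have hρ : r ^ m ∈ D := D.zpow_mem h.r_mem m
  exact
    { ss := ss
      aa := aa
      sa := sa.symm
      sρ := by group
      sc := by group
      cc := h.cc
      cρ := by rw [c_rk h, zpow_neg]
      ac := by
        calc a * c = a * c * a⁻¹ * a := by group
          _ = r ^ m * c * a := by rw [hm]
      ρρ' := (h.comm _ hρ _ hρ).symm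
      ρc' := (h.comm _ hρ _ h.c_mem).symm
      cc' := (h.comm _ h.c_mem _ h.c_mem).symm
      he := rfl
      he' := rfl
      ee := by
        have h3 : (2 : ℕ) ^ (d - 1) = 2 ^ (d - 2) + 2 ^ (d - 2) := by
          rw [← two_mul, ← pow_succ']; congr 1; have := h.d_ge; omega
        rw [← pow_add, ← h3, ← zpow_natCast, ← zpow_mul, mul_comm, zpow_mul, zpow_natCast, r_pow h,
          one_zpow] }

/-- an odd power of `r` generates `⟨r⟩` -/
theorem r_mem_of (h : Dbl x z S T T0 D d r c s) {m : ℤ} (hm : Odd m) {K : Subgroup G}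
    (hK : r ^ m ∈ K) : r ∈ K := by
  have hc : IsCoprime m ((2 ^ (d - 1) : ℕ) : ℤ) := by
    push_cast
    apply IsCoprime.pow_right
    rw [Int.isCoprime_iff_gcd_eq_one]
    obtain ⟨k, rfl⟩ := hm
    rw [← Int.isCoprime_iff_gcd_eq_one]
    exact ⟨1, -k, by ring⟩
  obtain ⟨u, v, huv⟩ := hc
  have h1 : r = (r ^ m) ^ u := by
    calc r = r ^ (1 : ℤ) := (zpow_one r).symm
      _ = r ^ (m * u + ((2 ^ (d - 1) : ℕ) : ℤ) * v) := by rw [← huv]; congr 1; ring
      _ = (r ^ m) ^ u := by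
        rw [zpow_add, zpow_mul, zpow_mul, zpow_natCast, r_pow h, one_zpow, mul_one]
  rw [h1]
  exact K.zpow_mem hK u

/-- **Type `PSp(4, q)`.** -/
theorem typeSp4_of_dbl (h : Dbl x z S T T0 D d r c s) (ss : s * s = 1) {a : G} (ha : a ∈ T)
    (ha0 : a ∉ T0) (aa : a * a = 1) (sa : a * s = s * a) : TypeSp4 S := by
  obtain ⟨m, hm, hdd⟩ := dd_of_dbl h ss ha ha0 aa sa
  set ρ := r ^ m with hρdef
  set ρ' := s * ρ * s⁻¹ with hρ'def
  set c' := s * c * s⁻¹ with hc'def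
  set e := ρ ^ 2 ^ (d - 2) with hedef
  set e' := ρ' ^ 2 ^ (d - 2) with he'def
  have hrS : ρ ∈ S := h.T_le (h.D_le (D.zpow_mem h.r_mem m))
  have hcS : c ∈ S := h.T_le (h.D_le h.c_mem)
  have hsS := h.s_mem
  have haS : a ∈ S := h.T_le ha
  have hρ'S : ρ' ∈ S := S.mul_mem (S.mul_mem hsS hrS) (S.inv_mem hsS)
  have hc'S : c' ∈ S := S.mul_mem (S.mul_mem hsS hcS) (S.inv_mem hsS)
  have heS : e ∈ S := S.pow_mem hrS _
  have he'S : e' ∈ S := S.pow_mem hρ'S _
  let E : S := ⟨e, heS⟩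
  let E' : S := ⟨e', he'S⟩
  let A : S := ⟨a, haS⟩
  let C : S := ⟨c, hcS⟩
  let R : S := ⟨ρ, hrS⟩
  let R' : S := ⟨ρ', hρ'S⟩
  let C' : S := ⟨c', hc'S⟩
  let U : S := ⟨s, hsS⟩
  have hD' : DD (d - 2) R C R' C' A U E E' :=
    { ss := Subtype.ext hdd.ss
      aa := Subtype.ext hdd.aa
      sa := Subtype.ext hdd.sa
      sρ := Subtype.ext hdd.sρ
      sc := Subtype.ext hdd.sc
      cc := Subtype.ext hdd.cc
      cρ := Subtype.ext hdd.cρ
      ac := Subtype.ext hdd.ac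
      ρρ' := Subtype.ext hdd.ρρ'
      ρc' := Subtype.ext hdd.ρc'
      cc' := Subtype.ext hdd.cc'
      he := Subtype.ext hdd.he
      he' := Subtype.ext hdd.he'
      ee := Subtype.ext hdd.ee }
  refine Cfsg.Agent.GH.Q2.ModelSp4.typeSp4 (relR hD') (relT hD') ?_ ?_
  · -- generation
    rw [eq_top_iff]
    set K := closure ({E * C', E' * C * C' * U, E * U, E * E' * A * C * C',
      E * E' * A * C * R' * C'} : Set S) with hK
    have hsub : ∀ g ∈ ({E * C', E' * C * C' * U, E * U, E * E' * A * C * C',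
      E * E' * A * C * R' * C'} : Set S), g ∈ K := fun g hg => subset_closure hg
    obtain ⟨h1, h2, h3, h4⟩ := gens hD' (K := K) (hsub _ (by simp)) (hsub _ (by simp))
      (hsub _ (by simp)) (hsub _ (by simp))
    have key : S ≤ K.map S.subtype := by
      set M := K.map S.subtype with hM
      have hRM : ρ ∈ M := ⟨R, h1, rfl⟩
      have hCM : c ∈ M := ⟨C, h2, rfl⟩
      have hUM : s ∈ M := ⟨U, h3, rfl⟩
      have hAM : a ∈ M := ⟨A, h4, rfl⟩
      have hrM : r ∈ M := r_mem_of h hm hRM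
      have hDM : D ≤ M := by
        intro g hg
        obtain ⟨k, rfl | rfl⟩ := h.D_form g hg
        · exact M.zpow_mem hrM _
        · exact M.mul_mem (M.zpow_mem hrM _) hCM
      have hT0M : T0 ≤ M := by
        intro g hg
        obtain ⟨u, hu, v, hv, rfl⟩ := (h.mem_T0 g).1 hg
        exact M.mul_mem (hDM hu) (M.mul_mem (M.mul_mem hUM (hDM hv)) (M.inv_mem hUM))
      have hTM : T ≤ M := by
        intro g hg
        by_cases hg0 : g ∈ T0
        · exact hT0M hg0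
        · have h5 := M.mul_mem hAM (hT0M (T_form h ha ha0 hg hg0))
          rwa [mul_inv_cancel_left] at h5
      intro g hg
      by_cases hg0 : g ∈ T
      · exact hTM hg0
      · have h5 := M.mul_mem hUM (hTM (h.S_form g hg hg0))
        rwa [mul_inv_cancel_left] at h5
    intro g _
    obtain ⟨k, hk, hkg⟩ := key g.2
    rwa [show g = k from Subtype.ext hkg.symm]
  · rw [card_two h.T_le h.s_mem h.s_not h.S_form,
      card_two (T0_le' h) ha ha0 (fun g hg hg0 => T_form h ha ha0 hg hg0), card_T0 h]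
    rw [← pow_add, ← pow_succ, ← pow_succ]
    congr 1
    have := h.d_ge
    omega

end dbl

end Cfsg.Agent.GH.L2.TypeSp4Of
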