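import Mathlib

/-!
# Project GH, branch GH-L2: Sylow tools

Small conjugation lemmas used in the exclusion of small Sylow 2-subgroups.
-/

set_option autoImplicit false

namespace Cfsg.Agent.GH.L2.Tool

open Subgroup

variable {G : Type*} [Group G] [Finite G]

/-- Sylow's theorem in a subgroup `H` containing a Sylow subgroup `S` of `G`. -/
theorem conj_into {p : ℕ} [Fact p.Prime] (S : Sylow p G) {H P : Subgroup G} (hSH : (S : Subgroup G) ≤ H)
    (hP : IsPGroup p P) (hPH : P ≤ H) : ∃ h ∈ H, ∀ x ∈ P, h * x * h⁻¹ ∈ (S : Subgroup G) := by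
  have hP' : IsPGroup p (P.subgroupOf H) := hP.comap_subtype
  obtain ⟨S2, hS2⟩ := hP'.exists_le_sylow
  obtain ⟨c, hc⟩ := MulAction.exists_smul_eq H S2 (S.subtype hSH)
  refine ⟨c, c.2, fun x hx => ?_⟩
  have h1 : (⟨x, hPH hx⟩ : H) ∈ (S2 : Subgroup H) := hS2 (mem_subgroupOf.mpr hx)
  have h2 : c * ⟨x, hPH hx⟩ * c⁻¹ ∈ ((S.subtype hSH : Sylow p H) : Subgroup H) := by
    rw [← hc, Sylow.coe_subgroup_smul]
    exact smul_mem_pointwise_smul _ (MulAut.conj c) _ h1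
  rw [Sylow.coe_subtype] at h2
  exact h2

/-- A `p`-subgroup is conjugate into a Sylow subgroup. -/
theorem conj_sylow {p : ℕ} [Fact p.Prime] (S : Sylow p G) {P : Subgroup G} (hP : IsPGroup p P) :
    ∃ h : G, ∀ x ∈ P, h * x * h⁻¹ ∈ (S : Subgroup G) := by
  obtain ⟨h, -, hh⟩ := conj_into S (H := ⊤) le_top hP le_top
  exact ⟨h, hh⟩

/-- Two `p`-subgroups `A`, `P` of `H`: after conjugating `P` in `H`, both are conjugate into `S` by the same
element. -/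
theorem conj_two {p : ℕ} [Fact p.Prime] (S : Sylow p G) {H A P : Subgroup G} (hA : IsPGroup p A) (hAH : A ≤ H)
    (hP : IsPGroup p P) (hPH : P ≤ H) : ∃ h ∈ H, ∃ k : G, (∀ a ∈ A, k * a * k⁻¹ ∈ (S : Subgroup G)) ∧
      ∀ x ∈ P, (k * h) * x * (k * h)⁻¹ ∈ (S : Subgroup G) := by
  have hA' : IsPGroup p (A.subgroupOf H) := hA.comap_subtype
  have hP' : IsPGroup p (P.subgroupOf H) := hP.comap_subtype
  obtain ⟨S1, hS1⟩ := hA'.exists_le_sylow
  obtain ⟨S2, hS2⟩ := hP'.exists_le_sylow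
  obtain ⟨c, hc⟩ := MulAction.exists_smul_eq H S2 S1
  have hT : IsPGroup p ((S1 : Subgroup H).map H.subtype) := S1.isPGroup'.map _
  obtain ⟨k, hk⟩ := conj_sylow S hT
  refine ⟨c, c.2, k, fun a ha => hk a ⟨⟨a, hAH ha⟩, hS1 (mem_subgroupOf.mpr ha), rfl⟩, fun x hx => ?_⟩
  have h1 : (⟨x, hPH hx⟩ : H) ∈ (S2 : Subgroup H) := hS2 (mem_subgroupOf.mpr hx)
  have h2 : c * ⟨x, hPH hx⟩ * c⁻¹ ∈ (S1 : Subgroup H) := by
    rw [← hc, Sylow.coe_subgroup_smul]
    exact smul_mem_pointwise_smul _ (MulAut.conj c) _ h1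
  have h3 := hk _ ⟨_, h2, rfl⟩
  have e : k * ((c * ⟨x, hPH hx⟩ * c⁻¹ : H) : G) * k⁻¹ = (k * c) * x * (k * c)⁻¹ := by
    push_cast
    group
  rw [← e]
  exact h3

/-- Sylow's theorem in `D`: `M ≤ D` a `p`-subgroup of maximal order among those containing it. -/
theorem conj_into_max {p : ℕ} [Fact p.Prime] {D M P : Subgroup G} (hMD : M ≤ D) (hM : IsPGroup p M)
    (hmax : ∀ T : Subgroup G, IsPGroup p T → M ≤ T → T ≤ D → Nat.card T ≤ Nat.card M)
    (hP : IsPGroup p P) (hPD : P ≤ D) : ∃ h ∈ D, ∀ x ∈ P, h * x * h⁻¹ ∈ M := by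
  have hM' : IsPGroup p (M.subgroupOf D) := hM.comap_subtype
  have hP' : IsPGroup p (P.subgroupOf D) := hP.comap_subtype
  obtain ⟨S1, hS1⟩ := hM'.exists_le_sylow
  obtain ⟨S2, hS2⟩ := hP'.exists_le_sylow
  obtain ⟨c, hc⟩ := MulAction.exists_smul_eq D S2 S1
  have hle : M ≤ (S1 : Subgroup D).map D.subtype := fun x hx =>
    ⟨⟨x, hMD hx⟩, hS1 (mem_subgroupOf.mpr hx), rfl⟩
  have heq : M = (S1 : Subgroup D).map D.subtype := by
    apply Subgroup.eq_of_le_of_card_ge hle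
    refine hmax _ (S1.isPGroup'.map _) hle ?_
    rintro _ ⟨y, -, rfl⟩
    exact y.2
  refine ⟨c, c.2, fun x hx => ?_⟩
  have h1 : (⟨x, hPD hx⟩ : D) ∈ (S2 : Subgroup D) := hS2 (mem_subgroupOf.mpr hx)
  have h2 : c * ⟨x, hPD hx⟩ * c⁻¹ ∈ (S1 : Subgroup D) := by
    rw [← hc, Sylow.coe_subgroup_smul]
    exact smul_mem_pointwise_smul _ (MulAut.conj c) _ h1
  rw [heq]
  exact ⟨_, h2, rfl⟩

omit [Finite G] in
theorem isPGroup_conj {p : ℕ} {P : Subgroup G} (hP : IsPGroup p P) (g : G) :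
    IsPGroup p (P.map (MulAut.conj g).toMonoidHom) := hP.map _

omit [Finite G] in
theorem mem_map_conj {P : Subgroup G} {g x : G} :
    x ∈ P.map (MulAut.conj g).toMonoidHom ↔ g⁻¹ * x * g ∈ P := by
  constructor
  · rintro ⟨y, hy, rfl⟩
    simpa [mul_assoc] using hy
  · intro h
    exact ⟨_, h, by simp [mul_assoc]⟩

end Cfsg.Agent.GH.L2.Tool
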