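import Cfsg.Agent.GH.L2.CaseIStruct

/-!
# GH-L2, Case I: `P` acts on `⟨aᵢ⟩` as `± 1` (section 3 of blueprints/GH-L2-CaseI-helper153.md)
-/

set_option autoImplicit false

open Subgroup
open Cfsg.Agent.GH.L2One.DihD
open Cfsg.Agent.GH.L2.CaseIDih
open Cfsg.Agent.GH.L2.CaseISitu
open Cfsg.Agent.GH.L2.CaseIEntry
open Cfsg.Agent.GH.L2.CaseIStruct

namespace Cfsg.Agent.GH.L2.CaseIAct

variable {G : Type*} [Group G]
variable {S P D Q : Subgroup G} {a b x s : G} {m : ℕ}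

theorem odd_sq_ne {j : ℤ} {m : ℕ} (hm : 2 ≤ m) (hj : Odd j) : ¬ (2 : ℤ) ^ m ∣ j * j - -1 := by
  intro hd
  obtain ⟨l, rfl⟩ := Nat.exists_eq_add_of_le hm
  have h4 : (4 : ℤ) ∣ j * j - -1 := dvd_trans ⟨2 ^ l, by ring⟩ hd
  obtain ⟨i, rfl⟩ := hj
  obtain ⟨c, hc⟩ := h4
  have e : (2 * i + 1) * (2 * i + 1) - -1 = 4 * (i * i + i) + 2 := by ring
  omega

theorem pow_sq_action {a p : G} {D : Subgroup G} {b : G} (hd : Dih D a b m) {j : ℤ} (hj : Odd j)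
    (hp : p * a * p⁻¹ = a ^ j)
    (h2 : (p * p) * a * (p * p)⁻¹ = a ∨ (p * p) * a * (p * p)⁻¹ = a⁻¹) : (p * p) * a * (p * p)⁻¹ = a := by
  rcases h2 with h2 | h2
  · exact h2
  · exfalso
    have e : (p * p) * a * (p * p)⁻¹ = a ^ (j * j) := by
      calc (p * p) * a * (p * p)⁻¹ = p * (p * a * p⁻¹) * p⁻¹ := by group
        _ = a ^ (j * j) := by rw [hp, ← conj_zpow, hp, ← zpow_mul]
    rw [e, ← zpow_neg_one, hd.rpow_eq] at h2
    exact odd_sq_ne hd.two_le hj h2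

theorem ev_sq {a p : G} {b : G} {j l : ℤ} (hj : Odd j)
    (hp : p * a * p⁻¹ = a ^ j) (hb : p * b * p⁻¹ = a ^ l * b) :
    ∃ t : ℤ, (p * p) * b * (p * p)⁻¹ = a ^ (2 * t) * b := by
  obtain ⟨i, rfl⟩ := hj
  refine ⟨l * (i + 1), ?_⟩
  calc (p * p) * b * (p * p)⁻¹ = p * (p * b * p⁻¹) * p⁻¹ := by group
    _ = p * (a ^ l * b) * p⁻¹ := by rw [hb]
    _ = (p * a ^ l * p⁻¹) * (p * b * p⁻¹) := by group
    _ = a ^ (2 * (l * (i + 1))) * b := by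
        rw [← conj_zpow, hp, hb, ← zpow_mul, ← mul_assoc, ← zpow_add]
        congr 2
        ring

/-- `InB` as a subgroup. -/
theorem inB_iff {A B : Subgroup G} (hc : ∀ a ∈ A, ∀ b ∈ B, a * b = b * a) {g : G} :
    InB A B g ↔ g ∈ prodSub A B hc := Iff.rfl

section
variable (h : Entry S P D Q a b x s m)
include h

theorem inQD_conj {p g : G} (hp : p ∈ P) (hg : InB Q D g) : InB Q D (p * g * p⁻¹) := by
  obtain ⟨q, hq, d, hd, rfl⟩ := hg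
  refine ⟨p * q * p⁻¹, h.nQ p hp q hq, p * d * p⁻¹, h.nD p hp d hd, by group⟩

variable [Finite G]

theorem rot_of_sq (hr : Cfsg.SectionalPRankLE 2 4 G) (hS : IsPGroup 2 S) {p : G} (hp : p ∈ P)
    (h1 : (p * p) * a * (p * p)⁻¹ = a ∨ (p * p) * a * (p * p)⁻¹ = a⁻¹)
    (h2 : (p * p) * (s * a * s⁻¹) * (p * p)⁻¹ = s * a * s⁻¹ ∨
      (p * p) * (s * a * s⁻¹) * (p * p)⁻¹ = (s * a * s⁻¹)⁻¹) :
    p * a * p⁻¹ = a ∨ p * a * p⁻¹ = a⁻¹ := by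
  obtain ⟨j, l, hj, hja, hlb⟩ := conj_data h.dih h.dih (h.nD p hp)
  obtain ⟨j₁, l₁, hj₁, hja₁, hlb₁⟩ := conj_data h.dih₁ h.dih₁ (h.n₁ p hp)
  set a₁ : G := s * a * s⁻¹ with ha₁
  set b₁ : G := s * b * s⁻¹ with hb₁
  have hd₁ := h.dih₁
  rw [← ha₁, ← hb₁] at hd₁
  by_cases hm : 3 ≤ m
  swap
  · -- `m = 2`
    have hm2 : m = 2 := by have := h.dih.two_le; omega
    have key : (4 : ℤ) ∣ j - 1 ∨ (4 : ℤ) ∣ j - -1 := by
      obtain ⟨i, rfl⟩ := hj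
      rcases Int.even_or_odd' i with ⟨c, rfl | rfl⟩
      · left; exact ⟨c, by ring⟩
      · right; exact ⟨c + 1, by ring⟩
    rcases key with hk | hk
    · left
      rw [hja]
      have : a ^ j = a ^ (1 : ℤ) := by rw [h.dih.rpow_eq, hm2]; exact hk
      rw [this, zpow_one]
    · right
      rw [hja, ← zpow_neg_one, h.dih.rpow_eq, hm2]
      exact hk
  by_contra hcon
  have c1 := pow_sq_action h.dih hj hja h1
  have c2 := pow_sq_action hd₁ hj₁ hja₁ h2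
  have hpp : p * p ∈ P := P.mul_mem hp hp
  -- `p * p` is a product of powers
  have A1 : Act a b (p * p) := by
    refine ⟨Or.inl c1, ?_⟩
    obtain ⟨t, ht⟩ := ev_sq hj hja hlb
    exact ⟨2 * t, ht⟩
  have A2 : Act a₁ b₁ (p * p) := by
    refine ⟨Or.inl c2, ?_⟩
    obtain ⟨t, ht⟩ := ev_sq hj₁ hja₁ hlb₁
    exact ⟨2 * t, ht⟩
  have inB_of : ∀ q ∈ P, Act a b q → Act a₁ b₁ q → Ev a b q → Ev a₁ b₁ q → InB h.D₁ D q := by
    intro q hq B1 B2 E1 E2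
    obtain ⟨d, hd, hd'⟩ := exists_inner h.dih B1 E1
    obtain ⟨e, he, he'⟩ := exists_inner hd₁ B2 E2
    have hde := h.comm₁ e he d hd
    have hqd : InB h.D₁ D ((e * d)⁻¹ * q) := by
      refine h.cent_inB hr hS (S.mul_mem (S.inv_mem (S.mul_mem (h.P_le (h.D₁_le he)) (h.P_le (h.D_le hd))))
        (h.P_le hq)) ?_ ?_
      · intro g hg
        have h3 := he' g hg
        have h4 := h.comm₁ g hg d hd
        have h5 : d⁻¹ * g = g * d⁻¹ := by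
          rw [inv_mul_eq_iff_eq_mul, ← mul_assoc, ← h4]; group
        have h6 : q * g = e * g * e⁻¹ * q := by rw [← h3]; group
        have h7 : d⁻¹ * (e⁻¹) = e⁻¹ * d⁻¹ := by rw [← mul_inv_rev, ← mul_inv_rev, hde]
        calc (e * d)⁻¹ * q * g = (d⁻¹ * e⁻¹) * (q * g) := by group
          _ = (e⁻¹ * d⁻¹) * (e * g * e⁻¹ * q) := by rw [h6, h7]
          _ = e⁻¹ * (d⁻¹ * (e * g)) * e⁻¹ * q := by group
          _ = e⁻¹ * ((e * g) * d⁻¹) * e⁻¹ * q := by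
            have h8 := h.comm₁ (e * g) (mul_mem he hg) d hd
            have h9 : d⁻¹ * (e * g) = (e * g) * d⁻¹ := by
              rw [inv_mul_eq_iff_eq_mul, ← mul_assoc, ← h8]; group
            rw [h9]
          _ = g * (d⁻¹ * e⁻¹) * q := by group
          _ = g * ((e * d)⁻¹ * q) := by rw [mul_inv_rev]; group
      · intro g hg
        have h3 := hd' g hg
        have h6 : q * g = d * g * d⁻¹ * q := by rw [← h3]; group
        calc (e * d)⁻¹ * q * g = (e * d)⁻¹ * (q * g) := by group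
          _ = (d * e)⁻¹ * (d * g * d⁻¹ * q) := by rw [h6, hde]
          _ = e⁻¹ * (g * (d⁻¹ * q)) := by group
          _ = (g * e⁻¹) * (d⁻¹ * q) := by
            have h8 := h.comm₁ e⁻¹ (h.D₁.inv_mem he) g hg
            rw [← mul_assoc, h8]
          _ = g * ((d * e)⁻¹ * q) := by group
          _ = g * ((e * d)⁻¹ * q) := by rw [hde]
    have e1 : q = (e * d) * ((e * d)⁻¹ * q) := by group
    rw [e1]
    exact (prodSub h.D₁ D h.comm₁).mul_mem ⟨e, he, d, hd, rfl⟩ hqd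
  have hppB := inB_of _ hpp A1 A2 (ev_sq hj hja hlb) (ev_sq hj₁ hja₁ hlb₁)
  -- the components are rotations
  obtain ⟨d₁, hd1, d, hd, hppe⟩ := hppB
  have cd := h.comm₁ d₁ hd1 d hd
  have hda : d * a = a * d := by
    have h3 : (p * p) * a = a * (p * p) := mul_inv_eq_iff_eq_mul.mp c1
    rw [hppe] at h3
    have h4 := h.comm₁ d₁ hd1 a h.dih.r_mem
    apply mul_left_cancel (a := d₁)
    calc d₁ * (d * a) = d₁ * d * a := by group
      _ = a * (d₁ * d) := h3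
      _ = (d₁ * a) * d := by rw [h4]; group
      _ = d₁ * (a * d) := by group
  have hd1a : d₁ * a₁ = a₁ * d₁ := by
    have h3 : (p * p) * a₁ = a₁ * (p * p) := mul_inv_eq_iff_eq_mul.mp c2
    rw [hppe] at h3
    have h4 := h.comm₁ a₁ hd₁.r_mem d hd
    apply mul_right_cancel (b := d)
    calc d₁ * a₁ * d = d₁ * (d * a₁) := by rw [← h4]; group
      _ = d₁ * d * a₁ := by group
      _ = a₁ * (d₁ * d) := h3
      _ = a₁ * d₁ * d := by group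
  obtain ⟨v, hv⟩ := rot_of_comm h.dih hd hda
  obtain ⟨u, hu⟩ := rot_of_comm hd₁ hd1 hd1a
  -- (K2)
  have hnot : ¬ InB Q D (p * p) := fun hc => hcon (h.act hm p hp hc)
  have hnu : ¬ InB Q D (a₁ ^ u) := by
    rintro ⟨q, hq, e, he, hqe⟩
    apply hnot
    refine ⟨q, hq, e * d, D.mul_mem he hd, ?_⟩
    rw [hppe, hu, hqe]; group
  have hcQ : ∀ q ∈ Q, ∀ d ∈ D, q * d = d * q := h.comm
  have ca₁ : ∀ d ∈ D, a₁ * d = d * a₁ := fun d hd => h.comm₁ a₁ hd₁.r_mem d hd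
  have cb₁ : ∀ d ∈ D, b₁ * d = d * b₁ := fun d hd => h.comm₁ b₁ hd₁.c_mem d hd
  have ha₁P : a₁ ∈ P := h.D₁_le hd₁.r_mem
  have hb₁P : b₁ ∈ P := h.D₁_le hd₁.c_mem
  have haa : InB Q D (a₁ * a₁) := by
    by_cases h3 : InB Q D a₁
    · exact (prodSub Q D hcQ).mul_mem h3 h3
    · exact h.idxQ a₁ ha₁P a₁ ha₁P ca₁ ca₁ h3 h3
  have heven : ∀ i : ℤ, InB Q D (a₁ ^ (2 * i)) := by
    intro i
    have e : a₁ ^ (2 * i) = (a₁ * a₁) ^ i := by rw [zpow_mul, zpow_two]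
    rw [e]
    exact (prodSub Q D hcQ).zpow_mem haa i
  have huo : Odd u := by
    rw [← Int.not_even_iff_odd]
    rintro ⟨i, hi⟩
    apply hnu
    rw [hi, ← two_mul]
    exact heven i
  have hna : ¬ InB Q D a₁ := fun h3 => hnu ((prodSub Q D hcQ).zpow_mem h3 u)
  have hodd : ∀ i : ℤ, Odd i → ¬ InB Q D (a₁ ^ i) := by
    rintro i ⟨c, rfl⟩ h3
    apply hna
    have e : a₁ = a₁ ^ (2 * c + 1) * (a₁ ^ (2 * c))⁻¹ := by
      rw [zpow_add, zpow_one, (Commute.zpow_self a₁ (2 * c)).eq]; group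
    rw [e]
    exact (prodSub Q D hcQ).mul_mem h3 ((prodSub Q D hcQ).inv_mem (heven c))
  -- `p` centralises `a₁`
  have hpd₁ : p * d₁ * p⁻¹ = d₁ := by
    have h3 : (p * d₁ * p⁻¹) * (p * d * p⁻¹) = d₁ * d := by
      calc (p * d₁ * p⁻¹) * (p * d * p⁻¹) = p * (d₁ * d) * p⁻¹ := by group
        _ = p * (p * p) * p⁻¹ := by rw [← hppe]
        _ = p * p := by group
        _ = d₁ * d := hppe
    have h4 : d₁⁻¹ * (p * d₁ * p⁻¹) = d * (p * d * p⁻¹)⁻¹ := by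
      calc d₁⁻¹ * (p * d₁ * p⁻¹) = d₁⁻¹ * ((p * d₁ * p⁻¹) * (p * d * p⁻¹)) * (p * d * p⁻¹)⁻¹ := by group
        _ = _ := by rw [h3]; group
    have h5 := h.disj₁ _ (h.D₁.mul_mem (h.D₁.inv_mem hd1) (h.n₁ p hp _ hd1))
      (h4 ▸ D.mul_mem hd (D.inv_mem (h.nD p hp _ hd)))
    exact (inv_mul_eq_one.1 h5).symm
  have hpa₁ : p * a₁ * p⁻¹ = a₁ := by
    rw [hu, ← conj_zpow, hja₁, ← zpow_mul, hd₁.rpow_eq] at hpd₁
    rw [hja₁]
    have h3 : (2 : ℤ) ^ m ∣ (j₁ - 1) * u := by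
      have e : (j₁ - 1) * u = j₁ * u - u := by ring
      rw [e]; exact hpd₁
    have h4 : IsCoprime ((2 : ℤ) ^ m) u := by
      apply IsCoprime.pow_left
      rw [Int.isCoprime_iff_gcd_eq_one]
      obtain ⟨c, hc⟩ := huo
      have : IsCoprime (2 : ℤ) u := ⟨-c, 1, by rw [hc]; ring⟩
      exact Int.isCoprime_iff_gcd_eq_one.1 this
    have h5 := h4.dvd_of_dvd_mul_right h3
    have h6 : a₁ ^ j₁ = a₁ ^ (1 : ℤ) := by rw [hd₁.rpow_eq]; exact h5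
    rw [h6, zpow_one]
  -- `l₁` is even
  have hl₁ : Even l₁ := by
    by_contra hl
    rw [Int.not_even_iff_odd] at hl
    apply hodd l₁ hl
    obtain ⟨b', hb', hpb'⟩ : ∃ b', InB Q D b' ∧ p * b' * p⁻¹ = a₁ ^ l₁ * b' := by
      by_cases h3 : InB Q D b₁
      · exact ⟨b₁, h3, hlb₁⟩
      · refine ⟨a₁ * b₁, h.idxQ a₁ ha₁P b₁ hb₁P ca₁ cb₁ hna h3, ?_⟩
        calc p * (a₁ * b₁) * p⁻¹ = (p * a₁ * p⁻¹) * (p * b₁ * p⁻¹) := by group
          _ = a₁ * (a₁ ^ l₁ * b₁) := by rw [hpa₁, hlb₁]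
          _ = a₁ ^ l₁ * (a₁ * b₁) := by
              rw [← mul_assoc, (Commute.self_zpow a₁ l₁).eq, mul_assoc]
    have h3 := inQD_conj h hp hb'
    rw [hpb'] at h3
    have e : a₁ ^ l₁ = a₁ ^ l₁ * b' * b'⁻¹ := by group
    rw [e]
    exact (prodSub Q D hcQ).mul_mem h3 ((prodSub Q D hcQ).inv_mem hb')
  obtain ⟨t₁, ht₁⟩ := hl₁
  -- the element `p'`
  set p' : G := a₁ ^ (-t₁) * p with hp'
  have hp'P : p' ∈ P := P.mul_mem (P.zpow_mem ha₁P _) hp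
  have hp'c : ∀ d ∈ D, p' * d * p'⁻¹ = p * d * p⁻¹ := by
    intro e he
    have h3 : a₁ ^ (-t₁) * (p * e * p⁻¹) = (p * e * p⁻¹) * a₁ ^ (-t₁) :=
      h.comm₁ _ (h.D₁.zpow_mem hd₁.r_mem _) _ (h.nD p hp e he)
    calc p' * e * p'⁻¹ = a₁ ^ (-t₁) * (p * e * p⁻¹) * (a₁ ^ (-t₁))⁻¹ := by
          rw [hp']; simp only [mul_assoc, mul_inv_rev]
      _ = p * e * p⁻¹ := by rw [h3, mul_inv_cancel_right]
  have hp'a : p' * a * p'⁻¹ = a ^ j := by rw [hp'c a h.dih.r_mem, hja]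
  have hp'b : p' * b * p'⁻¹ = a ^ l * b := by rw [hp'c b h.dih.c_mem, hlb]
  have hp'1 : p' * a₁ * p'⁻¹ = a₁ := by
    calc p' * a₁ * p'⁻¹ = a₁ ^ (-t₁) * (p * a₁ * p⁻¹) * (a₁ ^ (-t₁))⁻¹ := by
          rw [hp']; simp only [mul_assoc, mul_inv_rev]
      _ = a₁ := by rw [hpa₁, (Commute.zpow_self a₁ (-t₁)).eq, mul_inv_cancel_right]
  have hp'2 : p' * b₁ * p'⁻¹ = b₁ := by
    calc p' * b₁ * p'⁻¹ = a₁ ^ (-t₁) * (p * b₁ * p⁻¹) * (a₁ ^ (-t₁))⁻¹ := by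
          rw [hp']; simp only [mul_assoc, mul_inv_rev]
      _ = a₁ ^ (-t₁) * (a₁ ^ l₁ * b₁) * (a₁ ^ (-t₁))⁻¹ := by rw [hlb₁]
      _ = a₁ ^ (-t₁ + l₁) * (b₁ * (a₁ ^ (-t₁))⁻¹) := by rw [zpow_add]; group
      _ = b₁ := by
          rw [← zpow_neg, hd₁.c_rpow, ← mul_assoc, ← zpow_add, ht₁]
          simp
  have hcon' : ¬ (p' * a * p'⁻¹ = a ∨ p' * a * p'⁻¹ = a⁻¹) := by
    rw [hp'c a h.dih.r_mem]; exact hcon
  have c1' : (p' * p') * a * (p' * p')⁻¹ = a := by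
    calc (p' * p') * a * (p' * p')⁻¹ = p' * (p' * a * p'⁻¹) * p'⁻¹ := by group
      _ = p * (p * a * p⁻¹) * p⁻¹ := by
          rw [hp'c a h.dih.r_mem, hp'c _ (h.nD p hp a h.dih.r_mem)]
      _ = (p * p) * a * (p * p)⁻¹ := by group
      _ = a := c1
  have c2' : (p' * p') * a₁ * (p' * p')⁻¹ = a₁ := by
    calc (p' * p') * a₁ * (p' * p')⁻¹ = p' * (p' * a₁ * p'⁻¹) * p'⁻¹ := by group
      _ = a₁ := by rw [hp'1, hp'1]
  have c3' : (p' * p') * b₁ * (p' * p')⁻¹ = b₁ := by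
    calc (p' * p') * b₁ * (p' * p')⁻¹ = p' * (p' * b₁ * p'⁻¹) * p'⁻¹ := by group
      _ = b₁ := by rw [hp'2, hp'2]
  have hpp' : p' * p' ∈ P := P.mul_mem hp'P hp'P
  have hB' := inB_of _ hpp' ⟨Or.inl c1', by
      obtain ⟨t, ht⟩ := ev_sq hj hp'a hp'b
      exact ⟨2 * t, ht⟩⟩ ⟨Or.inl c2', ⟨0, by rw [c3', zpow_zero, one_mul]⟩⟩
    (ev_sq hj hp'a hp'b) ⟨0, by rw [c3', mul_zero, zpow_zero, one_mul]⟩
  obtain ⟨e₁, he1, e, he, heq⟩ := hB'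
  have he1c : ∀ d ∈ h.D₁, e₁ * d = d * e₁ := by
    have hc : ∀ g ∈ h.D₁, (p' * p') * g = g * (p' * p') :=
      comm_gen hd₁ (mul_inv_eq_iff_eq_mul.mp c2') (mul_inv_eq_iff_eq_mul.mp c3')
    intro g hg
    have h3 := hc g hg
    rw [heq] at h3
    have h4 := h.comm₁ g hg e he
    apply mul_right_cancel (b := e)
    calc e₁ * g * e = e₁ * (e * g) := by rw [← h4]; group
      _ = e₁ * e * g := by group
      _ = g * (e₁ * e) := h3
      _ = g * e₁ * e := by group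
  have he1Q : e₁ ∈ Q := by
    have h3 := h.dih₁.center_of_comm he1 he1c
    rw [h.zz₁] at h3
    rcases h3 with rfl | rfl
    · exact Q.one_mem
    · exact h.xQ
  exact hcon' (h.act hm p' hp'P ⟨e₁, he1Q, e, he, heq⟩)

omit h [Finite G] in
/-- conjugation by an element acting on `⟨a⟩` as a power does not change the power -/
theorem rot_conj {D : Subgroup G} {a b : G} (_hd : Dih D a b m) {p q : G} {i : ℤ} (hq : q⁻¹ * a * q = a ^ i)
    (hp : p * a * p⁻¹ = a ∨ p * a * p⁻¹ = a⁻¹) :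
    (q * p * q⁻¹) * a * (q * p * q⁻¹)⁻¹ = a ∨ (q * p * q⁻¹) * a * (q * p * q⁻¹)⁻¹ = a⁻¹ := by
  have e : (q * p * q⁻¹) * a * (q * p * q⁻¹)⁻¹ = q * (p * (q⁻¹ * a * q) * p⁻¹) * q⁻¹ := by group
  have e2 : q * a ^ i * q⁻¹ = a := by rw [← hq]; group
  rw [e, hq]
  rcases hp with h1 | h1
  · left
    rw [← conj_zpow, h1, e2]
  · right
    rw [← conj_zpow, h1, inv_zpow, ← conj_inv, e2]

/-- **Section 3.** -/
theorem act_all (hr : Cfsg.SectionalPRankLE 2 4 G) (hS : IsPGroup 2 S) (k : ℕ) : ∀ p ∈ P, p ^ 2 ^ k = 1 →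
    (p * a * p⁻¹ = a ∨ p * a * p⁻¹ = a⁻¹) ∧
    (p * (s * a * s⁻¹) * p⁻¹ = s * a * s⁻¹ ∨ p * (s * a * s⁻¹) * p⁻¹ = (s * a * s⁻¹)⁻¹) := by
  induction k with
  | zero =>
    intro p _ hp
    rw [pow_zero, pow_one] at hp
    subst hp
    constructor <;> left <;> group
  | succ k ih =>
    intro p hp hpk
    have hpp : (p * p) ^ 2 ^ k = 1 := by
      rw [← pow_two, ← pow_mul, ← pow_succ']
      exact hpk
    obtain ⟨h1, h2⟩ := ih (p * p) (P.mul_mem hp hp) hpp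
    have h3 := rot_of_sq h hr hS hp h1 h2
    refine ⟨h3, ?_⟩
    -- the conjugate `s⁻¹ p s`
    have hp' : s⁻¹ * p * s ∈ P := h.nP' p hp
    have hpp' : ((s⁻¹ * p * s) * (s⁻¹ * p * s)) ^ 2 ^ k = 1 := by
      have e : (s⁻¹ * p * s) * (s⁻¹ * p * s) = s⁻¹ * (p * p) * s⁻¹⁻¹ := by group
      rw [e, conj_pow, hpp]
      group
    obtain ⟨h4, h5⟩ := ih _ (P.mul_mem hp' hp') hpp'
    have h6 := rot_of_sq h hr hS hp' h4 h5
    have e : p * (s * a * s⁻¹) * p⁻¹ = s * ((s⁻¹ * p * s) * a * (s⁻¹ * p * s)⁻¹) * s⁻¹ := by group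
    rw [e]
    rcases h6 with h6 | h6
    · left; rw [h6]
    · right; rw [h6]; group

theorem act' (hr : Cfsg.SectionalPRankLE 2 4 G) (hS : IsPGroup 2 S) {p : G} (hp : p ∈ P) :
    (p * a * p⁻¹ = a ∨ p * a * p⁻¹ = a⁻¹) ∧
    (p * (s * a * s⁻¹) * p⁻¹ = s * a * s⁻¹ ∨ p * (s * a * s⁻¹) * p⁻¹ = (s * a * s⁻¹)⁻¹) := by
  obtain ⟨k, hk⟩ := hS ⟨p, h.P_le hp⟩
  have hk' : p ^ 2 ^ k = 1 := by
    have := congrArg Subtype.val hk
    simpa using this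
  exact act_all h hr hS k p hp hk'

/-- **The structure after section 3.** -/
theorem toSitu (hr : Cfsg.SectionalPRankLE 2 4 G) (hS : IsPGroup 2 S) :
    Situ S P h.D₁ D (s * a * s⁻¹) (s * b * s⁻¹) a b m where
  dih₁ := h.dih₁
  dih₂ := h.dih
  P_le := h.P_le
  D₁_le := h.D₁_le
  D₂_le := h.D_le
  idx := fun g hg hgP k hk hkP => by
    rw [← h.S₁_eq hr hS] at hg hk
    exact h.idx₁ hg hgP hk hkP
  comm := h.comm₁
  disj := h.disj₁
  n₁ := h.n₁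
  n₂ := h.nD
  s₁ := fun y hy hyP => by
    rw [← h.S₁_eq hr hS] at hy
    exact (h.swap₁ hy hyP).1
  s₂ := fun y hy hyP => by
    rw [← h.S₁_eq hr hS] at hy
    exact (h.swap₁ hy hyP).2
  act₁ := fun p hp => (act' h hr hS hp).2
  act₂ := fun p hp => (act' h hr hS hp).1
  cent := fun y hy h1 h2 => h.cent_inB hr hS hy h1 h2

end

end Cfsg.Agent.GH.L2.CaseIAct
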