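import Cfsg.Agent.GH.L2.CaseISitu
import Cfsg.Agent.GH.L2One.Dbl
import Cfsg.Agent.S1241

/-!
# GH-L2, Case I, section 5B (blueprints/GH-L2-CaseI-helper153.md)

`Fus`: the situation of Case I with the fusion facts, and no involution in `S - P`. The main theorem
`Fus.false`: then `G' ≠ G`.
-/

set_option autoImplicit false

open Subgroup
open Cfsg.Agent.GH.L2One Cfsg.Agent.GH.L2One.DihD
open Cfsg.Agent.GH.L2.CaseIDih Cfsg.Agent.GH.L2.CaseISitu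

namespace Cfsg.Agent.GH.L2.CaseIB

variable {G : Type*} [Group G]

section aux

theorem conj_zz {D D' : Subgroup G} {a b a' b' : G} {m : ℕ} (h : Dih D a b m) (h' : Dih D' a' b' m)
    {y : G} (hy : ∀ d ∈ D, y * d * y⁻¹ ∈ D') : y * zz a m * y⁻¹ = zz a' m := by
  obtain ⟨l, j, hl, h1, -⟩ := conj_data h h' hy
  obtain ⟨k, rfl⟩ := hl
  rw [zz, ← conj_pow, h1, Dih.zz_eq, ← zpow_natCast, ← zpow_mul, h'.rpow_eq, h'.two_pow]
  exact ⟨k, by push_cast; ring⟩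

theorem eq_one_of_odd_two {N S : Subgroup G} (hN : Odd (Nat.card N)) (hS : IsPGroup 2 S) {g : G}
    (h1 : g ∈ N) (h2 : g ∈ S) : g = 1 := by
  obtain ⟨k, hk⟩ := hS ⟨g, h2⟩
  have hk' : g ^ 2 ^ k = 1 := by simpa using congrArg Subtype.val hk
  have h3 : orderOf (⟨g, h1⟩ : N) ∣ Nat.card N := orderOf_dvd_natCard _
  rw [Subgroup.orderOf_mk] at h3
  have h4 : orderOf g ∣ 2 ^ k := orderOf_dvd_of_pow_eq_one hk'
  have h5 : Nat.Coprime (orderOf g) (2 ^ k) :=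
    Nat.Coprime.pow_right k (Nat.coprime_two_right.2 (Odd.of_dvd_nat hN h3))
  have h6 : orderOf g = 1 := Nat.eq_one_of_dvd_coprimes h5 dvd_rfl h4
  exact orderOf_eq_one_iff.1 h6

/-- involutions congruent modulo a subgroup of odd order are conjugate -/
theorem exists_conj_odd [Finite G] {N : Subgroup G} (hodd : Odd (Nat.card N)) {a b : G} (ha : a * a = 1)
    (hb : b * b = 1) (hab : b * a ∈ N) : ∃ k ∈ N, k * a * k⁻¹ = b := by
  set u : G := b * a with hu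
  have hinv : a * u * a⁻¹ = u⁻¹ := by
    have ha' : a⁻¹ = a := inv_eq_of_mul_eq_one_left ha
    have hb' : b⁻¹ = b := inv_eq_of_mul_eq_one_left hb
    rw [hu, mul_inv_rev, ha', hb']
    calc a * (b * a) * a = a * b * (a * a) := by group
      _ = a * b := by rw [ha, mul_one]
  have hord : Odd (orderOf u) := by
    have h1 : orderOf (⟨u, hab⟩ : N) ∣ Nat.card N := orderOf_dvd_natCard _
    rw [Subgroup.orderOf_mk] at h1
    exact Odd.of_dvd_nat hodd h1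
  obtain ⟨m, hm⟩ := hord
  have hk : ∀ n : ℕ, u ^ n * a * (u ^ n)⁻¹ = u ^ (2 * n) * a := by
    intro n
    have h1 : a * (u ^ n)⁻¹ * a⁻¹ = u ^ n := by
      have h2 : a * u ^ n * a⁻¹ = (u ^ n)⁻¹ := by
        rw [← conj_pow, hinv, inv_pow]
      have h3 : a * (u ^ n)⁻¹ * a⁻¹ = (a * u ^ n * a⁻¹)⁻¹ := by group
      rw [h3, h2, inv_inv]
    calc u ^ n * a * (u ^ n)⁻¹ = u ^ n * (a * (u ^ n)⁻¹ * a⁻¹) * a := by group
      _ = u ^ n * u ^ n * a := by rw [h1]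
      _ = u ^ (2 * n) * a := by rw [← pow_add, two_mul]
  refine ⟨u ^ (m + 1), N.pow_mem hab _, ?_⟩
  rw [hk, show 2 * (m + 1) = (2 * m + 1) + 1 by ring, pow_succ, ← hm, pow_orderOf_eq_one, one_mul,
    hu, mul_assoc, ha, mul_one]

/-- A 2-subgroup of `C` is conjugate in `C` into a 2-subgroup of odd index. -/
theorem exists_conj_le [Finite G] {C S X : Subgroup G}
    (hX : X ≤ C) (hSp : IsPGroup 2 S) (hXp : IsPGroup 2 X)
    (hidx : ¬ 2 ∣ S.relIndex C) : ∃ c ∈ C, ∀ x ∈ X, c * x * c⁻¹ ∈ S := by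
  have hS' : IsPGroup 2 (S.subgroupOf C) := hSp.comap_of_injective C.subtype Subtype.val_injective
  have hX' : IsPGroup 2 (X.subgroupOf C) := hXp.comap_of_injective C.subtype Subtype.val_injective
  obtain ⟨Q, hQ⟩ := hX'.exists_le_sylow
  have hS2 : ¬ 2 ∣ (S.subgroupOf C).index := hidx
  let T : Sylow 2 C := IsPGroup.toSylow hS' hS2
  obtain ⟨c, hc⟩ := MulAction.exists_smul_eq C Q T
  refine ⟨c, c.2, fun x hx => ?_⟩
  have h1 : (⟨x, hX hx⟩ : C) ∈ X.subgroupOf C := hx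
  have h2 : (⟨x, hX hx⟩ : C) ∈ (Q : Subgroup C) := hQ h1
  have h3 : c * ⟨x, hX hx⟩ * c⁻¹ ∈ (T : Subgroup C) := by
    rw [← hc]
    exact ⟨⟨x, hX hx⟩, h2, rfl⟩
  exact h3

/-- a reflection and an odd element -/
theorem refl_odd {D : Subgroup G} {a b : G} {m : ℕ} (h : Dih D a b m) {p : G} (hp : Act a b p)
    (ho : ¬ Ev a b p) {y : G} (hy : y ∈ D) (hyy : y * y = 1) (hy1 : y ≠ 1) (hyz : y ≠ zz a m) :
    (p * y * p⁻¹ * y⁻¹) * y * (p * y * p⁻¹ * y⁻¹)⁻¹ * y⁻¹ ≠ 1 ∧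
      (p * y * p⁻¹ * y⁻¹) * y * (p * y * p⁻¹ * y⁻¹)⁻¹ * y⁻¹ ∈ D := by
  rcases h.sq_one hy hyy with h1 | h1 | ⟨i, rfl⟩
  · exact absurd h1 hy1
  · exact absurd h1 hyz
  obtain ⟨k, hk⟩ := hp.refl
  have hkk : Odd k := by
    rw [← Int.not_even_iff_odd, ← ev_iff h hk]; exact ho
  obtain ⟨j, hj, hj2⟩ := hp.exists_zpow i
  have h1 : p * (a ^ i * b) * p⁻¹ * (a ^ i * b)⁻¹ = a ^ (j + k - i) := by
    have h2 : p * (a ^ i * b) * p⁻¹ = a ^ (j + k) * b := by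
      calc p * (a ^ i * b) * p⁻¹ = (p * a ^ i * p⁻¹) * (p * b * p⁻¹) := by group
        _ = _ := by rw [hj2, hk, zpow_add, mul_assoc]
    rw [h2, inv_eq_of_mul_eq_one_left (h.refl_sq i), h.refl_mul]
  have hodd : Odd (j + k - i) := by
    have h2 : j + k - i = k - (i - j) := by ring
    rw [h2]
    exact hkk.sub_even hj
  have h2 := h.conj_refl i (-(j + k - i))
  rw [neg_neg] at h2
  have h3 : (p * (a ^ i * b) * p⁻¹ * (a ^ i * b)⁻¹) * (a ^ i * b) *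
      (p * (a ^ i * b) * p⁻¹ * (a ^ i * b)⁻¹)⁻¹ * (a ^ i * b)⁻¹ = a ^ (j + k - i) * a ^ (j + k - i) := by
    rw [h1]
    calc a ^ (j + k - i) * (a ^ i * b) * (a ^ (j + k - i))⁻¹ * (a ^ i * b)⁻¹
        = a ^ (j + k - i) * ((a ^ i * b) * a ^ (-(j + k - i)) * (a ^ i * b)⁻¹) := by
          rw [zpow_neg]; group
      _ = _ := by rw [h2]
  rw [h3]
  exact ⟨h.odd_sq hodd, mul_mem (h.rpow_mem _) (h.rpow_mem _)⟩

end aux

/-- The situation of Case I with its fusion; no involution in `S - P`. -/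
structure Fus (S P D₁ D₂ : Subgroup G) (a₁ b₁ a₂ b₂ : G) (m : ℕ) (N R : Subgroup G) : Prop extends
    Situ S P D₁ D₂ a₁ b₁ a₂ b₂ m where
  core : CoreH S N R (zz a₁ m) (zz a₁ m * zz a₂ m)
  two : IsPGroup 2 S
  conj_r : ∀ i : ℤ, IsConj (a₁ ^ i * b₁) (zz a₁ m)
  conj_rz : ∀ i : ℤ, IsConj (a₁ ^ i * b₁ * zz a₂ m) (zz a₁ m * zz a₂ m)
  conj_rr : ∃ i j : ℤ, IsConj (a₁ ^ i * b₁ * (a₂ ^ j * b₂)) (zz a₁ m * zz a₂ m)
  ne : ¬ IsConj (zz a₁ m * zz a₂ m) (zz a₁ m)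
  sylx : ¬ 2 ∣ P.relIndex (centralizer {zz a₁ m})
  syle : ¬ 2 ∣ S.relIndex (centralizer {zz a₁ m * zz a₂ m})
  no : ∀ y ∈ S, y ∉ P → y * y ≠ 1
  proper : ∃ y ∈ S, y ∉ P

namespace Fus

variable {S P D₁ D₂ : Subgroup G} {a₁ b₁ a₂ b₂ : G} {m : ℕ} {N R : Subgroup G}

local notation "X" => zz a₁ m
local notation "Z" => zz a₂ m

theorem xD (h : Fus S P D₁ D₂ a₁ b₁ a₂ b₂ m N R) : X ∈ D₁ := h.dih₁.z_mem
theorem zD (h : Fus S P D₁ D₂ a₁ b₁ a₂ b₂ m N R) : Z ∈ D₂ := h.dih₂.z_mem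
theorem xP (h : Fus S P D₁ D₂ a₁ b₁ a₂ b₂ m N R) : X ∈ P := h.D₁_le h.xD
theorem zP (h : Fus S P D₁ D₂ a₁ b₁ a₂ b₂ m N R) : Z ∈ P := h.D₂_le h.zD

theorem conj_x (h : Fus S P D₁ D₂ a₁ b₁ a₂ b₂ m N R) {p : G} (hp : p ∈ P) : p * X * p⁻¹ = X :=
  conj_zz h.dih₁ h.dih₁ (h.n₁ p hp)

theorem conj_z (h : Fus S P D₁ D₂ a₁ b₁ a₂ b₂ m N R) {p : G} (hp : p ∈ P) : p * Z * p⁻¹ = Z :=
  conj_zz h.dih₂ h.dih₂ (h.n₂ p hp)

theorem comm_x (h : Fus S P D₁ D₂ a₁ b₁ a₂ b₂ m N R) {p : G} (hp : p ∈ P) : p * X = X * p := by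
  have := h.conj_x hp
  calc p * X = p * X * p⁻¹ * p := by group
    _ = _ := by rw [this]

theorem comm_z (h : Fus S P D₁ D₂ a₁ b₁ a₂ b₂ m N R) {p : G} (hp : p ∈ P) : p * Z = Z * p := by
  have := h.conj_z hp
  calc p * Z = p * Z * p⁻¹ * p := by group
    _ = _ := by rw [this]

theorem swap_x (h : Fus S P D₁ D₂ a₁ b₁ a₂ b₂ m N R) {y : G} (hy : y ∈ S) (hyP : y ∉ P) :
    y * X * y⁻¹ = Z := conj_zz h.dih₁ h.dih₂ (h.s₁ y hy hyP)

theorem swap_z (h : Fus S P D₁ D₂ a₁ b₁ a₂ b₂ m N R) {y : G} (hy : y ∈ S) (hyP : y ∉ P) :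
    y * Z * y⁻¹ = X := conj_zz h.dih₂ h.dih₁ (h.s₂ y hy hyP)

theorem xz_comm (h : Fus S P D₁ D₂ a₁ b₁ a₂ b₂ m N R) : X * Z = Z * X := h.comm X h.xD Z h.zD

theorem e_sq (h : Fus S P D₁ D₂ a₁ b₁ a₂ b₂ m N R) : X * Z * (X * Z) = 1 := by
  calc X * Z * (X * Z) = X * (Z * X) * Z := by group
    _ = (X * X) * (Z * Z) := by rw [← h.xz_comm]; group
    _ = 1 := by rw [h.dih₁.z_sq, h.dih₂.z_sq, one_mul]

theorem z_notMem (h : Fus S P D₁ D₂ a₁ b₁ a₂ b₂ m N R) : Z ∉ D₁ := fun h1 =>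
  h.dih₂.z_ne_one (h.disj _ h1 h.zD)

theorem x_notMem (h : Fus S P D₁ D₂ a₁ b₁ a₂ b₂ m N R) : X ∉ D₂ := fun h1 =>
  h.dih₁.z_ne_one (h.disj _ h.xD h1)

theorem e_notMem (h : Fus S P D₁ D₂ a₁ b₁ a₂ b₂ m N R) : X * Z ∉ D₁ := fun h1 =>
  h.z_notMem ((mul_mem_cancel_left h.xD).1 h1)

theorem e_notMem' (h : Fus S P D₁ D₂ a₁ b₁ a₂ b₂ m N R) : X * Z ∉ D₂ := fun h1 =>
  h.x_notMem ((mul_mem_cancel_right h.zD).1 h1)

theorem e_ne_one (h : Fus S P D₁ D₂ a₁ b₁ a₂ b₂ m N R) : X * Z ≠ 1 := fun h1 =>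
  h.e_notMem (h1 ▸ one_mem _)

/-- `S` centralises `e = x z` -/
theorem comm_e (h : Fus S P D₁ D₂ a₁ b₁ a₂ b₂ m N R) {s : G} (hs : s ∈ S) : s * (X * Z) = X * Z * s := by
  by_cases hP : s ∈ P
  · rw [← mul_assoc, h.comm_x hP, mul_assoc, h.comm_z hP, mul_assoc]
  · have h1 : s * (X * Z) * s⁻¹ = X * Z := by
      calc s * (X * Z) * s⁻¹ = (s * X * s⁻¹) * (s * Z * s⁻¹) := by group
        _ = Z * X := by rw [h.swap_x hs hP, h.swap_z hs hP]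
        _ = X * Z := h.xz_comm.symm
    calc s * (X * Z) = s * (X * Z) * s⁻¹ * s := by group
      _ = _ := by rw [h1]

/-- (B1) -/
theorem odd_sq₁ (h : Fus S P D₁ D₂ a₁ b₁ a₂ b₂ m N R) {y : G} (hy : y ∈ S) (hyP : y ∉ P) :
    ¬ Ev a₁ b₁ (y * y) := by
  intro h1
  have hyy := h.idx y hy hyP y hy hyP
  have h2 := h.ev_conj hy hyP hyy
  have e : y * (y * y) * y⁻¹ = y * y := by group
  rw [e] at h2
  obtain ⟨d, -, h3, h4, h5⟩ := h.exists_invol hy hyP (h.inB_of_ev hyy h1 (h2.2 h1))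
  exact h.no _ h3 h4 h5

theorem odd_sq₂ (h : Fus S P D₁ D₂ a₁ b₁ a₂ b₂ m N R) {y : G} (hy : y ∈ S) (hyP : y ∉ P) :
    ¬ Ev a₂ b₂ (y * y) := by
  have hyy := h.idx y hy hyP y hy hyP
  have h2 := h.ev_conj hy hyP hyy
  have e : y * (y * y) * y⁻¹ = y * y := by group
  rw [e] at h2
  rw [h2]
  exact h.odd_sq₁ hy hyP

/-- (B1): the two parities coincide -/
theorem ev_iff_ev (h : Fus S P D₁ D₂ a₁ b₁ a₂ b₂ m N R) {p : G} (hp : p ∈ P) :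
    Ev a₁ b₁ p ↔ Ev a₂ b₂ p := by
  obtain ⟨y, hy, hyP⟩ := h.proper
  have hyy := h.idx y hy hyP y hy hyP
  have h1 := h.odd_sq₁ (mul_mem hy (h.P_le hp)) (h.mul_notMem hyP hp)
  have e : y * p * (y * p) = (y * p * y⁻¹) * (y * y) * p := by group
  rw [e, h.ev₁_mul (mul_mem (h.nP hy hp) hyy) hp, h.ev₁_mul (h.nP hy hp) hyy,
    h.ev_conj' hy hyP hp] at h1
  have h2 := h.odd_sq₁ hy hyP
  tauto

theorem inB_iff' (h : Fus S P D₁ D₂ a₁ b₁ a₂ b₂ m N R) {p : G} (hp : p ∈ P) :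
    InB D₁ D₂ p ↔ Ev a₁ b₁ p := by
  rw [h.inB_iff hp, ← h.ev_iff_ev hp, and_self_iff]

/-- an involution of `P` outside `B₀` -/
structure Out (P D₁ D₂ : Subgroup G) (t : G) : Prop where
  mem : t ∈ P
  notMem : ¬ InB D₁ D₂ t
  sq : t * t = 1

theorem out_ev₁ (h : Fus S P D₁ D₂ a₁ b₁ a₂ b₂ m N R) {t : G} (ht : Out P D₁ D₂ t) : ¬ Ev a₁ b₁ t := by
  rw [← h.inB_iff' ht.mem]; exact ht.notMem

theorem out_ev₂ (h : Fus S P D₁ D₂ a₁ b₁ a₂ b₂ m N R) {t : G} (ht : Out P D₁ D₂ t) : ¬ Ev a₂ b₂ t := by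
  rw [← h.ev_iff_ev ht.mem]; exact h.out_ev₁ ht

theorem out_inv₁ (h : Fus S P D₁ D₂ a₁ b₁ a₂ b₂ m N R) {t : G} (ht : Out P D₁ D₂ t) :
    t * a₁ * t⁻¹ = a₁⁻¹ := inv_of_odd h.dih₁ (h.A₁ ht.mem) (h.out_ev₁ ht) ht.sq

theorem out_inv₂ (h : Fus S P D₁ D₂ a₁ b₁ a₂ b₂ m N R) {t : G} (ht : Out P D₁ D₂ t) :
    t * a₂ * t⁻¹ = a₂⁻¹ := inv_of_odd h.dih₂ (h.A₂ ht.mem) (h.out_ev₂ ht) ht.sq

/-- (5.1) -/
theorem out_cent (h : Fus S P D₁ D₂ a₁ b₁ a₂ b₂ m N R) {t g : G} (ht : Out P D₁ D₂ t)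
    (hg : InB D₁ D₂ g) (hc : t * g = g * t) : g = 1 ∨ g = X ∨ g = Z ∨ g = X * Z := by
  obtain ⟨d, hd, e, he, rfl⟩ := hg
  have h1 : (t * d * t⁻¹) * (t * e * t⁻¹) = d * e := by
    calc (t * d * t⁻¹) * (t * e * t⁻¹) = t * (d * e) * t⁻¹ := by group
      _ = d * e := by rw [hc]; group
  obtain ⟨h2, h3⟩ := h.unique (h.n₁ t ht.mem d hd) (h.n₂ t ht.mem e he) hd he h1
  have h4 : t * d = d * t := by
    calc t * d = t * d * t⁻¹ * t := by group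
      _ = _ := by rw [h2]
  have h5 : t * e = e * t := by
    calc t * e = t * e * t⁻¹ * t := by group
      _ = _ := by rw [h3]
  rcases cent_of_odd h.dih₁ (h.A₁ ht.mem) (h.out_ev₁ ht) (h.out_inv₁ ht) hd h4 with rfl | rfl <;>
    rcases cent_of_odd h.dih₂ (h.A₂ ht.mem) (h.out_ev₂ ht) (h.out_inv₂ ht) he h5 with rfl | rfl <;>
    simp

/-- all involutions of `P - B₀` are conjugate -/
theorem out_conj (h : Fus S P D₁ D₂ a₁ b₁ a₂ b₂ m N R) {t t' : G} (ht : Out P D₁ D₂ t)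
    (ht' : Out P D₁ D₂ t') : IsConj t t' := by
  have ti : t⁻¹ = t := inv_eq_of_mul_eq_one_left ht.sq
  have h1 : InB D₁ D₂ (t * t') := by
    rw [h.inB_iff' (mul_mem ht.mem ht'.mem), h.ev₁_mul ht.mem ht'.mem]
    exact iff_of_false (h.out_ev₁ ht) (h.out_ev₁ ht')
  obtain ⟨d, hd, e, he, hde⟩ := h1
  have h2 : t' = t * (d * e) := by
    rw [← hde, ← mul_assoc, ht.sq, one_mul]
  have h3 : (t * d * t⁻¹ * d) * (t * e * t⁻¹ * e) = 1 * 1 := by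
    have h4 := ht'.sq
    rw [h2] at h4
    have h5 := h.comm d hd (t * e * t⁻¹) (h.n₂ t ht.mem e he)
    calc (t * d * t⁻¹ * d) * (t * e * t⁻¹ * e) = t * d * t⁻¹ * (d * (t * e * t⁻¹)) * e := by group
      _ = t * (d * e) * t⁻¹ * d * e := by rw [h5]; group
      _ = t * (d * e) * (t * (d * e)) := by rw [ti]; group
      _ = 1 * 1 := by rw [h4, one_mul]
  obtain ⟨h4, h5⟩ := h.unique (mul_mem (h.n₁ t ht.mem d hd) hd) (mul_mem (h.n₂ t ht.mem e he) he)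
    (one_mem _) (one_mem _) h3
  obtain ⟨c₁, hc₁, e₁⟩ := exists_conj_of_odd h.dih₁ (h.A₁ ht.mem) (h.out_ev₁ ht) ht.sq hd
    (eq_inv_of_mul_eq_one_left h4)
  obtain ⟨c₂, hc₂, e₂⟩ := exists_conj_of_odd h.dih₂ (h.A₂ ht.mem) (h.out_ev₂ ht) ht.sq he
    (eq_inv_of_mul_eq_one_left h5)
  rw [isConj_iff]
  refine ⟨c₂ * c₁, ?_⟩
  have h6 := h.comm d hd c₂ hc₂
  calc c₂ * c₁ * t * (c₂ * c₁)⁻¹ = c₂ * (c₁ * t * c₁⁻¹) * c₂⁻¹ := by group
    _ = c₂ * (t * d) * c₂⁻¹ := by rw [e₁]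
    _ = c₂ * t * (d * c₂) * c₂⁻¹ * c₂⁻¹ := by group
    _ = (c₂ * t * c₂⁻¹) * (c₂ * (c₂ * d)) * c₂⁻¹ * c₂⁻¹ := by rw [h6]; group
    _ = (c₂ * t * c₂⁻¹) * (c₂ * (d * c₂)) * c₂⁻¹ * c₂⁻¹ := by rw [h6]
    _ = (c₂ * t * c₂⁻¹) * (c₂ * d) * c₂⁻¹ := by group
    _ = (c₂ * t * c₂⁻¹) * (d * c₂) * c₂⁻¹ := by rw [h6]
    _ = t * (e * d) := by rw [e₂]; group
    _ = t' := by rw [h2, h.comm d hd e he]

theorem isConj_z (h : Fus S P D₁ D₂ a₁ b₁ a₂ b₂ m N R) : IsConj Z X := by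
  obtain ⟨y, hy, hyP⟩ := h.proper
  exact isConj_iff.2 ⟨y, h.swap_z hy hyP⟩

theorem conj_D₁ (h : Fus S P D₁ D₂ a₁ b₁ a₂ b₂ m N R) {d : G} (hd : d ∈ D₁) (hdd : d * d = 1)
    (hd1 : d ≠ 1) : IsConj d X := by
  rcases h.dih₁.sq_one hd hdd with h1 | h1 | ⟨i, rfl⟩
  · exact absurd h1 hd1
  · rw [h1]
  · exact h.conj_r i

theorem conj_D₂ (h : Fus S P D₁ D₂ a₁ b₁ a₂ b₂ m N R) {d : G} (hd : d ∈ D₂) (hdd : d * d = 1)
    (hd1 : d ≠ 1) : IsConj d X := by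
  obtain ⟨y, hy, hyP⟩ := h.proper
  have h1 : IsConj d (y * d * y⁻¹) := isConj_iff.2 ⟨y, rfl⟩
  refine h1.trans (h.conj_D₁ (h.s₂ y hy hyP d hd) ?_ ?_)
  · calc y * d * y⁻¹ * (y * d * y⁻¹) = y * (d * d) * y⁻¹ := by group
      _ = 1 := by rw [hdd]; group
  · intro h2
    apply hd1
    calc d = y⁻¹ * (y * d * y⁻¹) * y := by group
      _ = 1 := by rw [h2]; group

/-- (B2): products of two reflections -/
theorem conj_rr' (h : Fus S P D₁ D₂ a₁ b₁ a₂ b₂ m N R) (i j : ℤ) :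
    IsConj (a₁ ^ i * b₁ * (a₂ ^ j * b₂)) (X * Z) := by
  obtain ⟨i₀, j₀, h0⟩ := h.conj_rr
  have key : ∀ i j i' j' : ℤ, Even (i + i') → Even (j + j') →
      IsConj (a₁ ^ i * b₁ * (a₂ ^ j * b₂)) (X * Z) →
      IsConj (a₁ ^ i' * b₁ * (a₂ ^ j' * b₂)) (X * Z) := by
    intro i j i' j' hi hj hc
    refine IsConj.trans ?_ hc
    obtain ⟨k, hk⟩ := hi
    obtain ⟨l, hl⟩ := hj
    rw [isConj_iff]
    refine ⟨a₁ ^ (i - k) * a₂ ^ (j - l), ?_⟩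
    have c1 := h.comm (a₁ ^ i' * b₁) (mul_mem (h.dih₁.rpow_mem _) h.dih₁.c_mem)
      (a₂ ^ (j - l)) (h.dih₂.rpow_mem _)
    have c2 := h.comm (a₁ ^ (i - k))⁻¹ (inv_mem (h.dih₁.rpow_mem _))
      (a₂ ^ (j - l) * (a₂ ^ j' * b₂) * (a₂ ^ (j - l))⁻¹)
      (mul_mem (mul_mem (h.dih₂.rpow_mem _) (mul_mem (h.dih₂.rpow_mem _) h.dih₂.c_mem))
        (inv_mem (h.dih₂.rpow_mem _)))
    have e1 : a₁ ^ (i - k) * (a₁ ^ i' * b₁) * (a₁ ^ (i - k))⁻¹ = a₁ ^ i * b₁ := by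
      calc a₁ ^ (i - k) * (a₁ ^ i' * b₁) * (a₁ ^ (i - k))⁻¹
          = a₁ ^ i' * (a₁ ^ (i - k) * b₁ * (a₁ ^ (i - k))⁻¹) := by
            rw [← mul_assoc, ← mul_assoc, ← mul_assoc, ← zpow_add, ← zpow_add, add_comm]
        _ = a₁ ^ i' * (a₁ ^ (2 * (i - k)) * b₁) := by rw [conj_a_b h.dih₁]
        _ = a₁ ^ i * b₁ := by
          rw [← mul_assoc, ← zpow_add]
          congr 2; omega
    have e2 : a₂ ^ (j - l) * (a₂ ^ j' * b₂) * (a₂ ^ (j - l))⁻¹ = a₂ ^ j * b₂ := by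
      calc a₂ ^ (j - l) * (a₂ ^ j' * b₂) * (a₂ ^ (j - l))⁻¹
          = a₂ ^ j' * (a₂ ^ (j - l) * b₂ * (a₂ ^ (j - l))⁻¹) := by
            rw [← mul_assoc, ← mul_assoc, ← mul_assoc, ← zpow_add, ← zpow_add, add_comm]
        _ = a₂ ^ j' * (a₂ ^ (2 * (j - l)) * b₂) := by rw [conj_a_b h.dih₂]
        _ = a₂ ^ j * b₂ := by
          rw [← mul_assoc, ← zpow_add]
          congr 2; omega
    calc a₁ ^ (i - k) * a₂ ^ (j - l) * (a₁ ^ i' * b₁ * (a₂ ^ j' * b₂)) * (a₁ ^ (i - k) * a₂ ^ (j - l))⁻¹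
        = a₁ ^ (i - k) * (a₂ ^ (j - l) * (a₁ ^ i' * b₁)) * (a₂ ^ j' * b₂) * (a₂ ^ (j - l))⁻¹ *
            (a₁ ^ (i - k))⁻¹ := by group
      _ = a₁ ^ (i - k) * (a₁ ^ i' * b₁) * ((a₂ ^ (j - l) * (a₂ ^ j' * b₂) * (a₂ ^ (j - l))⁻¹) *
            (a₁ ^ (i - k))⁻¹) := by rw [← c1]; group
      _ = (a₁ ^ (i - k) * (a₁ ^ i' * b₁) * (a₁ ^ (i - k))⁻¹) *
            (a₂ ^ (j - l) * (a₂ ^ j' * b₂) * (a₂ ^ (j - l))⁻¹) := by rw [← c2]; group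
      _ = a₁ ^ i * b₁ * (a₂ ^ j * b₂) := by rw [e1, e2]
  obtain ⟨y, hy, hyP⟩ := h.proper
  obtain ⟨l, u, hl, hl1, hl2⟩ := conj_data h.dih₁ h.dih₂ (h.s₁ y hy hyP)
  obtain ⟨l', v, hl', hl1', hl2'⟩ := conj_data h.dih₂ h.dih₁ (h.s₂ y hy hyP)
  have huv : Odd (u + v) := by
    have h1 := h.odd_sq₁ hy hyP
    have h2 : y * y * b₁ * (y * y)⁻¹ = a₁ ^ (l' * u + v) * b₁ := by
      calc y * y * b₁ * (y * y)⁻¹ = y * (y * b₁ * y⁻¹) * y⁻¹ := by group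
        _ = (y * a₂ ^ u * y⁻¹) * (y * b₂ * y⁻¹) := by rw [hl2]; group
        _ = a₁ ^ (l' * u + v) * b₁ := by
          rw [← conj_zpow, hl1', hl2', ← zpow_mul, zpow_add, mul_assoc]
    rw [ev_iff h.dih₁ h2, Int.not_even_iff_odd] at h1
    obtain ⟨k, hk⟩ := hl'
    obtain ⟨k', hk'⟩ := h1
    exact ⟨k' - k * u, by rw [hk] at hk'; linarith⟩
  have step : ∀ i j : ℤ, IsConj (a₁ ^ i * b₁ * (a₂ ^ j * b₂)) (X * Z) →
      IsConj (a₁ ^ (j + v) * b₁ * (a₂ ^ (i + u) * b₂)) (X * Z) := by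
    intro i j hc
    have h1 : y * (a₁ ^ i * b₁ * (a₂ ^ j * b₂)) * y⁻¹ =
        a₁ ^ (l' * j + v) * b₁ * (a₂ ^ (l * i + u) * b₂) := by
      have h2 : y * (a₁ ^ i * b₁) * y⁻¹ = a₂ ^ (l * i + u) * b₂ := by
        calc y * (a₁ ^ i * b₁) * y⁻¹ = (y * a₁ ^ i * y⁻¹) * (y * b₁ * y⁻¹) := by group
          _ = _ := by rw [← conj_zpow, hl1, hl2, ← zpow_mul, zpow_add, mul_assoc]
      have h3 : y * (a₂ ^ j * b₂) * y⁻¹ = a₁ ^ (l' * j + v) * b₁ := by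
        calc y * (a₂ ^ j * b₂) * y⁻¹ = (y * a₂ ^ j * y⁻¹) * (y * b₂ * y⁻¹) := by group
          _ = _ := by rw [← conj_zpow, hl1', hl2', ← zpow_mul, zpow_add, mul_assoc]
      calc y * (a₁ ^ i * b₁ * (a₂ ^ j * b₂)) * y⁻¹ =
          (y * (a₁ ^ i * b₁) * y⁻¹) * (y * (a₂ ^ j * b₂) * y⁻¹) := by group
        _ = (a₂ ^ (l * i + u) * b₂) * (a₁ ^ (l' * j + v) * b₁) := by rw [h2, h3]
        _ = _ := (h.comm _ (mul_mem (h.dih₁.rpow_mem _) h.dih₁.c_mem) _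
          (mul_mem (h.dih₂.rpow_mem _) h.dih₂.c_mem)).symm
    have h2 : IsConj (a₁ ^ (l' * j + v) * b₁ * (a₂ ^ (l * i + u) * b₂)) (X * Z) := by
      have h3 : IsConj (a₁ ^ i * b₁ * (a₂ ^ j * b₂))
        (y * (a₁ ^ i * b₁ * (a₂ ^ j * b₂)) * y⁻¹) := isConj_iff.2 ⟨y, rfl⟩
      rw [h1] at h3
      exact h3.symm.trans hc
    refine key _ _ _ _ ?_ ?_ h2
    · obtain ⟨k, rfl⟩ := hl'
      exact ⟨k * j + j + v, by ring⟩
    · obtain ⟨k, rfl⟩ := hl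
      exact ⟨k * i + i + u, by ring⟩
  have s1 := step _ _ h0
  have s2 := step _ _ s1
  have s3 := step _ _ s2
  obtain ⟨w, hw⟩ := huv
  rcases Int.even_or_odd' (i₀ + i) with ⟨k, hk | hk⟩ <;> rcases Int.even_or_odd' (j₀ + j) with ⟨k', hk' | hk'⟩
  · exact key _ _ _ _ ⟨k, by omega⟩ ⟨k', by omega⟩ h0
  · rcases Int.even_or_odd' (j₀ + v + i) with ⟨k'', hk'' | hk''⟩
    · exact key _ _ _ _ ⟨k'', by omega⟩ ⟨k + k' - k'' + w + 1, by omega⟩ s1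
    · exact key _ _ _ _ ⟨k'' + w + 1, by omega⟩ ⟨k + k' - k'' + w + 1 + w, by omega⟩ s3
  · rcases Int.even_or_odd' (j₀ + v + i) with ⟨k'', hk'' | hk''⟩
    · exact key _ _ _ _ ⟨k'', by omega⟩ ⟨k + k' - k'' + w + 1, by omega⟩ s1
    · exact key _ _ _ _ ⟨k'' + w + 1, by omega⟩ ⟨k + k' - k'' + w + 1 + w, by omega⟩ s3
  · exact key _ _ _ _ ⟨k + w + 1, by omega⟩ ⟨k' + w + 1, by omega⟩ s2

/-- (B2) -/
theorem conj_DD (h : Fus S P D₁ D₂ a₁ b₁ a₂ b₂ m N R) {d e : G} (hd : d ∈ D₁) (he : e ∈ D₂)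
    (hdd : d * d = 1) (hee : e * e = 1) (hd1 : d ≠ 1) (he1 : e ≠ 1) : IsConj (d * e) (X * Z) := by
  rcases h.dih₁.sq_one hd hdd with h1 | h1 | ⟨i, rfl⟩
  · exact absurd h1 hd1
  · rcases h.dih₂.sq_one he hee with h2 | h2 | ⟨j, rfl⟩
    · exact absurd h2 he1
    · rw [h1, h2]
    · obtain ⟨y, hy, hyP⟩ := h.proper
      obtain ⟨l, v, hl, hl1, hl2⟩ := conj_data h.dih₂ h.dih₁ (h.s₂ y hy hyP)
      have h3 : y * (d * (a₂ ^ j * b₂)) * y⁻¹ = a₁ ^ (l * j + v) * b₁ * Z := by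
        have h4 : y * (a₂ ^ j * b₂) * y⁻¹ = a₁ ^ (l * j + v) * b₁ := by
          calc y * (a₂ ^ j * b₂) * y⁻¹ = (y * a₂ ^ j * y⁻¹) * (y * b₂ * y⁻¹) := by group
            _ = _ := by rw [← conj_zpow, hl1, hl2, ← zpow_mul, zpow_add, mul_assoc]
        calc y * (d * (a₂ ^ j * b₂)) * y⁻¹ = (y * d * y⁻¹) * (y * (a₂ ^ j * b₂) * y⁻¹) := by group
          _ = Z * (a₁ ^ (l * j + v) * b₁) := by rw [h4, h1, h.swap_x hy hyP]
          _ = _ := (h.comm _ (mul_mem (h.dih₁.rpow_mem _) h.dih₁.c_mem) _ h.zD).symm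
      have h5 : IsConj (d * (a₂ ^ j * b₂)) (y * (d * (a₂ ^ j * b₂)) * y⁻¹) := isConj_iff.2 ⟨y, rfl⟩
      rw [h3] at h5
      exact h5.trans (h.conj_rz _)
  · rcases h.dih₂.sq_one he hee with h2 | h2 | ⟨j, rfl⟩
    · exact absurd h2 he1
    · rw [h2]; exact h.conj_rz i
    · exact h.conj_rr' i j

/-- involutions of `B₀` conjugate to `x` -/
theorem inB_cls (h : Fus S P D₁ D₂ a₁ b₁ a₂ b₂ m N R) {g : G} (hg : InB D₁ D₂ g) (hgg : g * g = 1)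
    (hc : IsConj g X) : g ∈ D₁ ∨ g ∈ D₂ := by
  obtain ⟨d, hd, e, he, rfl⟩ := hg
  have h1 : (d * d) * (e * e) = 1 * 1 := by
    calc (d * d) * (e * e) = d * (d * e) * e := by group
      _ = d * (e * d) * e := by rw [h.comm d hd e he]
      _ = (d * e) * (d * e) := by group
      _ = 1 * 1 := by rw [hgg, one_mul]
  obtain ⟨h2, h3⟩ := h.unique (mul_mem hd hd) (mul_mem he he) (one_mem _) (one_mem _) h1
  by_cases hd1 : d = 1
  · right; rw [hd1, one_mul]; exact he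
  by_cases he1 : e = 1
  · left; rw [he1, mul_one]; exact hd
  exact absurd ((h.conj_DD hd he h2 h3 hd1 he1).symm.trans hc) h.ne

/-- an involution of `D₁` or `D₂` is not conjugate to `x z` -/
theorem not_conj_e (h : Fus S P D₁ D₂ a₁ b₁ a₂ b₂ m N R) {g : G} (hg : g ∈ D₁ ∨ g ∈ D₂)
    (hc : IsConj g (X * Z)) : False := by
  have hgg : g * g = 1 := by
    obtain ⟨k, hk⟩ := isConj_iff.1 hc.symm
    rw [← hk]
    calc k * (X * Z) * k⁻¹ * (k * (X * Z) * k⁻¹) = k * (X * Z * (X * Z)) * k⁻¹ := by group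
      _ = 1 := by rw [h.e_sq]; group
  have hg1 : g ≠ 1 := by
    rintro rfl
    exact h.e_ne_one (isConj_one_right.1 hc)
  rcases hg with hg | hg
  · exact h.ne (hc.symm.trans (h.conj_D₁ hg hgg hg1))
  · exact h.ne (hc.symm.trans (h.conj_D₂ hg hgg hg1))

/-- (B3) -/
theorem out_not_conj_e (h : Fus S P D₁ D₂ a₁ b₁ a₂ b₂ m N R) {t : G} (ht : Out P D₁ D₂ t) {k : G}
    (hk : X * Z * k = k * (X * Z)) : k * X * k⁻¹ ≠ t := by
  intro h1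
  obtain ⟨y, hyR, hyN, hw⟩ := h.core.conj k hk
  rw [h1] at hyN
  have htS : t ∈ S := h.P_le ht.mem
  have h2 : y⁻¹ * t = 1 := eq_one_of_odd_two h.core.N_odd h.two hyN
    (mul_mem (inv_mem (h.core.R_le hyR)) htS)
  have h3 : y = t := inv_mul_eq_one.1 h2
  subst h3
  obtain ⟨j, hj⟩ := (h.A₁ ht.mem).refl
  have hjj : Odd j := by
    rw [← Int.not_even_iff_odd, ← ev_iff h.dih₁ hj]; exact h.out_ev₁ ht
  have hbS : b₁ ∈ S := h.P_le (h.D₁_le h.dih₁.c_mem)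
  have h4 : b₁ * y * b₁⁻¹ * y⁻¹ ∈ R := mul_mem (h.core.R_norm b₁ hbS y hyR) (inv_mem hyR)
  have h5 : b₁ * y * b₁⁻¹ * y⁻¹ = a₁ ^ (-j) := by
    calc b₁ * y * b₁⁻¹ * y⁻¹ = b₁ * (y * b₁ * y⁻¹)⁻¹ := by group
      _ = a₁ ^ (-j) := by rw [hj, zpow_neg]; group
  rw [h5] at h4
  have h6 : a₁ ^ (-j) * y * (a₁ ^ (-j))⁻¹ * y⁻¹ = a₁ ^ (-j) * a₁ ^ (-j) := by
    have h7 : y * a₁ ^ j * y⁻¹ = a₁ ^ (-j) := by
      rw [← conj_zpow, h.out_inv₁ ht, inv_zpow, zpow_neg]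
    calc a₁ ^ (-j) * y * (a₁ ^ (-j))⁻¹ * y⁻¹ = a₁ ^ (-j) * (y * a₁ ^ j * y⁻¹) := by
          rw [zpow_neg]; group
      _ = _ := by rw [h7]
  have h7 := hw _ h4
  rw [h6] at h7
  rcases h7 with h7 | h7
  · exact h.dih₁.odd_sq hjj.neg h7
  · exact h.e_notMem (h7 ▸ mul_mem (h.dih₁.rpow_mem _) (h.dih₁.rpow_mem _))

theorem out_mul (h : Fus S P D₁ D₂ a₁ b₁ a₂ b₂ m N R) {t w : G} (ht : Out P D₁ D₂ t)
    (hw : InB D₁ D₂ w) (hww : w * w = 1) (hc : t * w = w * t) : Out P D₁ D₂ (t * w) where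
  mem := mul_mem ht.mem (h.inB_P hw)
  notMem := fun h1 => ht.notMem (by
    have h2 : t = t * w * w⁻¹ := by group
    rw [h2]; exact h.inB_mul h1 (h.inB_inv hw))
  sq := by
    calc t * w * (t * w) = t * (w * t) * w := by group
      _ = t * (t * w) * w := by rw [hc]
      _ = (t * t) * (w * w) := by group
      _ = 1 := by rw [ht.sq, hww, one_mul]

/-- (B4) -/
theorem out_not_conj_x [Finite G] (h : Fus S P D₁ D₂ a₁ b₁ a₂ b₂ m N R) {t : G} (ht : Out P D₁ D₂ t) :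
    ¬ IsConj t X := by
  intro hcon
  obtain ⟨g, hg⟩ := isConj_iff.1 hcon
  have hU : IsPGroup 2 (S ⊓ centralizer {t} : Subgroup G) := h.two.to_le inf_le_left
  let V : Subgroup G := (S ⊓ centralizer {t} : Subgroup G).map (MulAut.conj g).toMonoidHom
  have hV : IsPGroup 2 V := hU.map _
  have hVC : V ≤ centralizer {X} := by
    rintro _ ⟨u, hu, rfl⟩
    rw [mem_centralizer_singleton_iff]
    have h1 : u * t = t * u := mem_centralizer_singleton_iff.1 hu.2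
    show g * u * g⁻¹ * X = X * (g * u * g⁻¹)
    rw [← hg]
    calc g * u * g⁻¹ * (g * t * g⁻¹) = g * (u * t) * g⁻¹ := by group
      _ = g * t * g⁻¹ * (g * u * g⁻¹) := by rw [h1]; group
  have hPp : IsPGroup 2 P := h.two.to_le h.P_le
  obtain ⟨c, hc, hcP⟩ := exists_conj_le hVC hPp hV h.sylx
  rw [mem_centralizer_singleton_iff] at hc
  have hk : ∀ u ∈ P, u * t = t * u → (c * g) * u * (c * g)⁻¹ ∈ P := by
    intro u hu hut
    have h1 := hcP (g * u * g⁻¹) ⟨u, ⟨h.P_le hu, mem_centralizer_singleton_iff.2 hut⟩, rfl⟩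
    have e : (c * g) * u * (c * g)⁻¹ = c * (g * u * g⁻¹) * c⁻¹ := by group
    rw [e]; exact h1
  have hkt : (c * g) * t * (c * g)⁻¹ = X := by
    calc (c * g) * t * (c * g)⁻¹ = c * (g * t * g⁻¹) * c⁻¹ := by group
      _ = c * X * c⁻¹ := by rw [hg]
      _ = X := by rw [hc]; group
  set k := c * g with hkdef
  clear_value k
  have hX2 := h.dih₁.z_sq
  have hZ2 := h.dih₂.z_sq
  have ctx := (h.comm_x ht.mem)
  have ctz := (h.comm_z ht.mem)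
  have hkx : k * X * k⁻¹ ∈ P := hk X h.xP ctx.symm
  have hkz : k * Z * k⁻¹ ∈ P := hk Z h.zP ctz.symm
  have cx : ∀ u : G, IsConj u X → IsConj (k * u * k⁻¹) X := fun u hu =>
    (isConj_iff.2 ⟨k, rfl⟩ : IsConj u (k * u * k⁻¹)).symm.trans hu
  have sqk : ∀ u : G, u * u = 1 → k * u * k⁻¹ * (k * u * k⁻¹) = 1 := fun u hu => by
    calc k * u * k⁻¹ * (k * u * k⁻¹) = k * (u * u) * k⁻¹ := by group
      _ = 1 := by rw [hu]; group
  have nek : ∀ u : G, u ≠ 1 → k * u * k⁻¹ ≠ 1 := fun u hu h1 => hu (by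
    calc u = k⁻¹ * (k * u * k⁻¹) * k := by group
      _ = 1 := by rw [h1]; group)
  have ck : ∀ u w : G, u * w = w * u → (k * u * k⁻¹) * (k * w * k⁻¹) = (k * w * k⁻¹) * (k * u * k⁻¹) := by
    intro u w huw
    calc (k * u * k⁻¹) * (k * w * k⁻¹) = k * (u * w) * k⁻¹ := by group
      _ = _ := by rw [huw]; group
  -- images in `D₂` are impossible
  have noD₂ : ∀ w : G, InB D₁ D₂ w → w * w = 1 → w ≠ 1 → t * w = w * t → k * w * k⁻¹ ∈ D₂ → False := by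
    intro w hw hww hw1 htw hD
    have h1 : k * (t * w) * k⁻¹ = X * (k * w * k⁻¹) := by
      calc k * (t * w) * k⁻¹ = (k * t * k⁻¹) * (k * w * k⁻¹) := by group
        _ = _ := by rw [hkt]
    have h2 : IsConj (k * (t * w) * k⁻¹) X :=
      cx _ ((h.out_conj (h.out_mul ht hw hww htw) ht).trans hcon)
    rw [h1] at h2
    exact h.ne ((h.conj_DD h.xD hD hX2 (sqk w hww) h.dih₁.z_ne_one (nek w hw1)).symm.trans h2)
  have hxB : InB D₁ D₂ X := h.inB_d h.xD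
  have hzB : InB D₁ D₂ Z := h.inB_e h.zD
  have heB : InB D₁ D₂ (X * Z) := ⟨X, h.xD, Z, h.zD, rfl⟩
  have heconj : IsConj (k * (X * Z) * k⁻¹) (X * Z) := (isConj_iff.2 ⟨k, rfl⟩ : IsConj (X * Z)
    (k * (X * Z) * k⁻¹)).symm
  have hsplit : k * (X * Z) * k⁻¹ = (k * X * k⁻¹) * (k * Z * k⁻¹) := by group
  -- an image outside `B₀`
  have hout : ∃ t' : G, Out P D₁ D₂ t' ∧ t' * (k * (X * Z) * k⁻¹) = k * (X * Z) * k⁻¹ * t' := by
    by_cases h1 : InB D₁ D₂ (k * X * k⁻¹)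
    · by_cases h2 : InB D₁ D₂ (k * Z * k⁻¹)
      · exfalso
        rcases h.inB_cls h1 (sqk _ hX2) (cx _ (IsConj.refl _)) with h3 | h3
        · rcases h.inB_cls h2 (sqk _ hZ2) (cx _ h.isConj_z) with h4 | h4
          · apply h.not_conj_e (Or.inl (mul_mem h3 h4))
            rw [← hsplit]; exact heconj
          · exact noD₂ Z hzB hZ2 h.dih₂.z_ne_one ctz h4
        · exact noD₂ X hxB hX2 h.dih₁.z_ne_one ctx h3
      · refine ⟨_, ⟨hkz, h2, sqk _ hZ2⟩, ck _ _ ?_⟩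
        rw [← mul_assoc, ← h.xz_comm]
    · refine ⟨_, ⟨hkx, h1, sqk _ hX2⟩, ck _ _ ?_⟩
      rw [mul_assoc, ← h.xz_comm]
  obtain ⟨t', ht', htc⟩ := hout
  have heP : k * (X * Z) * k⁻¹ ∈ P := by rw [hsplit]; exact mul_mem hkx hkz
  have heB' : InB D₁ D₂ (k * (X * Z) * k⁻¹) := by
    by_contra h1
    have h2 : Out P D₁ D₂ (k * (X * Z) * k⁻¹) := ⟨heP, h1, sqk _ h.e_sq⟩
    exact h.ne (heconj.symm.trans ((h.out_conj h2 ht).trans hcon))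
  rcases h.out_cent ht' heB' htc with h1 | h1 | h1 | h1
  · exact nek _ h.e_ne_one h1
  · rw [h1] at heconj
    exact h.ne heconj.symm
  · rw [h1] at heconj
    exact h.ne (heconj.symm.trans h.isConj_z)
  · apply h.out_not_conj_e ht (k := k⁻¹)
    · calc X * Z * k⁻¹ = k⁻¹ * (k * (X * Z) * k⁻¹) := by group
        _ = _ := by rw [h1]
    · rw [← hkt]; group

/-- involutions of `S` conjugate to `x` lie in `D₁ ∪ D₂` -/
theorem cls [Finite G] (h : Fus S P D₁ D₂ a₁ b₁ a₂ b₂ m N R) {u : G} (hu : u ∈ S) (huu : u * u = 1)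
    (hc : IsConj u X) : u ∈ D₁ ∨ u ∈ D₂ := by
  have hP : u ∈ P := by
    by_contra h1
    exact h.no u hu h1 huu
  by_cases hB : InB D₁ D₂ u
  · exact h.inB_cls hB huu hc
  · exact absurd hc (h.out_not_conj_x ⟨hP, hB, huu⟩)

/-- (B5) -/
theorem sq_not_conj_e [Finite G] (h : Fus S P D₁ D₂ a₁ b₁ a₂ b₂ m N R) {y : G} (hy : y ∈ S)
    (hyP : y ∉ P) : ¬ IsConj (y * y) (X * Z) := by
  intro hcon
  obtain ⟨g, hg⟩ := isConj_iff.1 hcon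
  set t := y * y with ht
  have htP : t ∈ P := h.idx y hy hyP y hy hyP
  have hU : IsPGroup 2 (S ⊓ centralizer {t} : Subgroup G) := h.two.to_le inf_le_left
  let V : Subgroup G := (S ⊓ centralizer {t} : Subgroup G).map (MulAut.conj g).toMonoidHom
  have hV : IsPGroup 2 V := hU.map _
  have hVC : V ≤ centralizer {X * Z} := by
    rintro _ ⟨u, hu, rfl⟩
    rw [mem_centralizer_singleton_iff]
    have h1 : u * t = t * u := mem_centralizer_singleton_iff.1 hu.2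
    show g * u * g⁻¹ * (X * Z) = X * Z * (g * u * g⁻¹)
    rw [← hg]
    calc g * u * g⁻¹ * (g * t * g⁻¹) = g * (u * t) * g⁻¹ := by group
      _ = g * t * g⁻¹ * (g * u * g⁻¹) := by rw [h1]; group
  obtain ⟨c, hc, hcS⟩ := exists_conj_le hVC h.two hV h.syle
  rw [mem_centralizer_singleton_iff] at hc
  have hk : ∀ u ∈ S, u * t = t * u → (c * g) * u * (c * g)⁻¹ ∈ S := by
    intro u hu hut
    have h1 := hcS (g * u * g⁻¹) ⟨u, ⟨hu, mem_centralizer_singleton_iff.2 hut⟩, rfl⟩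
    have e : (c * g) * u * (c * g)⁻¹ = c * (g * u * g⁻¹) * c⁻¹ := by group
    rw [e]; exact h1
  have hkt : (c * g) * t * (c * g)⁻¹ = X * Z := by
    calc (c * g) * t * (c * g)⁻¹ = c * (g * t * g⁻¹) * c⁻¹ := by group
      _ = c * (X * Z) * c⁻¹ := by rw [hg]
      _ = X * Z := by rw [hc]; group
  set k := c * g with hkdef
  clear_value k
  have hkx : k * X * k⁻¹ ∈ S := hk X (h.P_le h.xP) (h.comm_x htP).symm
  have hkz : k * Z * k⁻¹ ∈ S := hk Z (h.P_le h.zP) (h.comm_z htP).symm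
  have hky : k * y * k⁻¹ ∈ S := hk y hy (by rw [ht]; group)
  have sqk : ∀ u : G, u * u = 1 → k * u * k⁻¹ * (k * u * k⁻¹) = 1 := fun u hu => by
    calc k * u * k⁻¹ * (k * u * k⁻¹) = k * (u * u) * k⁻¹ := by group
      _ = 1 := by rw [hu]; group
  have cx : ∀ u : G, IsConj u X → IsConj (k * u * k⁻¹) X := fun u hu =>
    (isConj_iff.2 ⟨k, rfl⟩ : IsConj u (k * u * k⁻¹)).symm.trans hu
  have h1 := h.cls hkx (sqk _ h.dih₁.z_sq) (cx _ (IsConj.refl _))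
  have h2 := h.cls hkz (sqk _ h.dih₂.z_sq) (cx _ h.isConj_z)
  have heconj : IsConj (k * (X * Z) * k⁻¹) (X * Z) := (isConj_iff.2 ⟨k, rfl⟩ : IsConj (X * Z)
    (k * (X * Z) * k⁻¹)).symm
  have hsplit : k * (X * Z) * k⁻¹ = (k * X * k⁻¹) * (k * Z * k⁻¹) := by group
  have hswap : (k * y * k⁻¹) * (k * X * k⁻¹) * (k * y * k⁻¹)⁻¹ = k * Z * k⁻¹ := by
    calc (k * y * k⁻¹) * (k * X * k⁻¹) * (k * y * k⁻¹)⁻¹ = k * (y * X * y⁻¹) * k⁻¹ := by group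
      _ = _ := by rw [h.swap_x hy hyP]
  have hz1 : k * Z * k⁻¹ ≠ 1 := fun h3 => h.dih₂.z_ne_one (by
    calc Z = k⁻¹ * (k * Z * k⁻¹) * k := by group
      _ = 1 := by rw [h3]; group)
  have hnP : k * y * k⁻¹ ∉ P := by
    intro hP
    rcases h1 with h1 | h1 <;> rcases h2 with h2 | h2
    · apply h.not_conj_e (Or.inl (mul_mem h1 h2))
      rw [← hsplit]; exact heconj
    · apply hz1
      apply h.disj _ _ h2
      rw [← hswap]; exact h.n₁ _ hP _ h1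
    · apply hz1
      apply h.disj _ h2
      rw [← hswap]; exact h.n₂ _ hP _ h1
    · apply h.not_conj_e (Or.inr (mul_mem h1 h2))
      rw [← hsplit]; exact heconj
  apply h.odd_sq₁ hky hnP
  have e : k * y * k⁻¹ * (k * y * k⁻¹) = X * Z := by
    rw [← hkt, ht]; group
  rw [e]
  exact h.ev₁_of_inB ⟨X, h.xD, Z, h.zD, rfl⟩

/-- (B6) -/
theorem conj_x_mod [Finite G] (h : Fus S P D₁ D₂ a₁ b₁ a₂ b₂ m N R) {k : G}
    (hk : X * Z * k = k * (X * Z)) : X⁻¹ * (k * X * k⁻¹) ∈ N ∨ Z⁻¹ * (k * X * k⁻¹) ∈ N := by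
  obtain ⟨y, hyR, hyN, hw⟩ := h.core.conj k hk
  have hyS : y ∈ S := h.core.R_le hyR
  set u := k * X * k⁻¹ with hu
  have huu : u * u = 1 := by
    rw [hu]
    calc k * X * k⁻¹ * (k * X * k⁻¹) = k * (X * X) * k⁻¹ := by group
      _ = 1 := by rw [h.dih₁.z_sq]; group
  have hye : X * Z * y⁻¹ = y⁻¹ * (X * Z) := (h.comm_e (inv_mem hyS)).symm
  have hye' : X * Z * y = y * (X * Z) := (h.comm_e hyS).symm
  have hyy : y * y = 1 := by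
    apply eq_one_of_odd_two h.core.N_odd h.two _ (mul_mem hyS hyS)
    have h2 : y * y = (y⁻¹ * (y⁻¹ * u) * y⁻¹⁻¹ * (y⁻¹ * u))⁻¹ := by
      have h3 : (y⁻¹ * (y⁻¹ * u) * y⁻¹⁻¹ * (y⁻¹ * u))⁻¹ = (y⁻¹ * y⁻¹ * (u * u))⁻¹ := by group
      rw [h3, huu, mul_one, mul_inv_rev, inv_inv]
    rw [h2]
    exact inv_mem (mul_mem (h.core.N_norm _ hye _ hyN) hyN)
  have hyi : y⁻¹ = y := inv_eq_of_mul_eq_one_left hyy
  have huy : u * y ∈ N := by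
    have h2 := h.core.N_norm _ hye' _ hyN
    have h3 : y * (y⁻¹ * u) * y⁻¹ = u * y := by
      calc y * (y⁻¹ * u) * y⁻¹ = u * y⁻¹ := by group
        _ = _ := by rw [hyi]
    rwa [h3] at h2
  obtain ⟨c, -, hc⟩ := exists_conj_odd h.core.N_odd hyy huu huy
  have hyX : IsConj y X := by
    have h2 : IsConj y u := isConj_iff.2 ⟨c, hc⟩
    have h3 : IsConj X u := isConj_iff.2 ⟨k, rfl⟩
    exact h2.trans h3.symm
  have hy1 : y ≠ 1 := by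
    rintro rfl
    exact h.dih₁.z_ne_one (isConj_one_right.1 hyX)
  by_cases e1 : y = X
  · left; rw [← e1]; exact hyN
  by_cases e2 : y = Z
  · right; rw [← e2]; exact hyN
  exfalso
  obtain ⟨τ, hτ, hτP⟩ := h.proper
  have hpP : τ * τ ∈ P := h.idx τ hτ hτP τ hτ hτP
  have hwR : (τ * τ) * y * (τ * τ)⁻¹ * y⁻¹ ∈ R :=
    mul_mem (h.core.R_norm _ (mul_mem hτ hτ) _ hyR) (inv_mem hyR)
  rcases h.cls hyS hyy hyX with hD | hD
  · obtain ⟨h2, h3⟩ := refl_odd h.dih₁ (h.A₁ hpP) (h.odd_sq₁ hτ hτP) hD hyy hy1 e1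
    rcases hw _ hwR with h4 | h4
    · exact h2 h4
    · rw [h4] at h3
      exact h.e_notMem h3
  · obtain ⟨h2, h3⟩ := refl_odd h.dih₂ (h.A₂ hpP) (h.odd_sq₂ hτ hτP) hD hyy hy1 e2
    rcases hw _ hwR with h4 | h4
    · exact h2 h4
    · rw [h4] at h3
      exact h.e_notMem' h3

/-- (5.0) for `y ∈ S - P` -/
theorem four_form (h : Fus S P D₁ D₂ a₁ b₁ a₂ b₂ m N R) {y : G} (hy : y ∈ S) (hyP : y ∉ P) :
    ∃ i : ℤ, y * y * (y * y) = a₁ ^ i * (y * a₁ ^ i * y⁻¹) ∧ y * a₁ ^ i * y⁻¹ ∈ D₂ := by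
  obtain ⟨i, j, hij⟩ := h.sq_form (h.idx y hy hyP y hy hyP)
  have h1 : (y * a₂ ^ j * y⁻¹) * (y * a₁ ^ i * y⁻¹) = a₁ ^ i * a₂ ^ j := by
    calc (y * a₂ ^ j * y⁻¹) * (y * a₁ ^ i * y⁻¹) = y * (a₂ ^ j * a₁ ^ i) * y⁻¹ := by group
      _ = y * (a₁ ^ i * a₂ ^ j) * y⁻¹ := by
        rw [h.comm _ (h.dih₁.rpow_mem i) _ (h.dih₂.rpow_mem j)]
      _ = y * (y * y * (y * y)) * y⁻¹ := by rw [hij]
      _ = y * y * (y * y) := by group
      _ = _ := hij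
  obtain ⟨-, h2⟩ := h.unique (h.s₂ y hy hyP _ (h.dih₂.rpow_mem j))
    (h.s₁ y hy hyP _ (h.dih₁.rpow_mem i)) (h.dih₁.rpow_mem i) (h.dih₂.rpow_mem j) h1
  exact ⟨i, by rw [hij, h2], h.s₁ y hy hyP _ (h.dih₁.rpow_mem i)⟩

/-- the involution of `⟨y⟩`, `y ∈ S - P` of order at least 8 -/
theorem pow_eq_e (h : Fus S P D₁ D₂ a₁ b₁ a₂ b₂ m N R) {y : G} (hy : y ∈ S) (hyP : y ∉ P) {l : ℕ}
    (hl : orderOf y = 2 ^ (l + 3)) : y ^ 2 ^ (l + 2) = X * Z := by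
  obtain ⟨i, hi, hiD⟩ := h.four_form hy hyP
  set q := 2 ^ l with hq
  have h1 : y ^ 2 ^ (l + 2) = (y * y * (y * y)) ^ q := by
    rw [← pow_two, ← pow_two, ← pow_mul, ← pow_mul, hq]
    congr 1
    rw [pow_add]; ring
  have hcm : Commute (a₁ ^ i) (y * a₁ ^ i * y⁻¹) := h.comm _ (h.dih₁.rpow_mem i) _ hiD
  have h2 : y ^ 2 ^ (l + 2) = (a₁ ^ i) ^ q * (y * (a₁ ^ i) ^ q * y⁻¹) := by
    rw [h1, hi, hcm.mul_pow, conj_pow]
  have hD1 : (a₁ ^ i) ^ q ∈ D₁ := pow_mem (h.dih₁.rpow_mem i) q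
  have hD2 : y * (a₁ ^ i) ^ q * y⁻¹ ∈ D₂ := h.s₁ y hy hyP _ hD1
  have hne : y ^ 2 ^ (l + 2) ≠ 1 := by
    intro h3
    have h4 := orderOf_dvd_of_pow_eq_one h3
    rw [hl] at h4
    have h5 := Nat.le_of_dvd (by positivity) h4
    have h6 : 2 ^ (l + 2) < 2 ^ (l + 3) := Nat.pow_lt_pow_right (by norm_num) (by omega)
    omega
  have hsq : y ^ 2 ^ (l + 2) * y ^ 2 ^ (l + 2) = 1 := by
    rw [← pow_add, ← two_mul, ← pow_succ', ← hl, pow_orderOf_eq_one]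
  have h3 : ((a₁ ^ i) ^ q * (a₁ ^ i) ^ q) * ((y * (a₁ ^ i) ^ q * y⁻¹) * (y * (a₁ ^ i) ^ q * y⁻¹)) = 1 * 1 := by
    rw [h2] at hsq
    have h4 := h.comm _ hD1 _ hD2
    calc _ = (a₁ ^ i) ^ q * ((a₁ ^ i) ^ q * (y * (a₁ ^ i) ^ q * y⁻¹)) * (y * (a₁ ^ i) ^ q * y⁻¹) := by
          group
      _ = (a₁ ^ i) ^ q * ((y * (a₁ ^ i) ^ q * y⁻¹) * (a₁ ^ i) ^ q) * (y * (a₁ ^ i) ^ q * y⁻¹) := by
          rw [h4]
      _ = ((a₁ ^ i) ^ q * (y * (a₁ ^ i) ^ q * y⁻¹)) * ((a₁ ^ i) ^ q * (y * (a₁ ^ i) ^ q * y⁻¹)) := by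
          group
      _ = 1 * 1 := by rw [hsq, one_mul]
  obtain ⟨h4, -⟩ := h.unique (mul_mem hD1 hD1) (mul_mem hD2 hD2) (one_mem _) (one_mem _) h3
  have h5 : (a₁ ^ i) ^ q = a₁ ^ (i * q) := by rw [← zpow_natCast, ← zpow_mul]
  rw [h5] at h4
  rcases h.dih₁.rot_sq h4 with h6 | h6
  · exfalso
    apply hne
    rw [h2, h5, h6]; group
  · rw [h2, h5, h6, h.swap_x hy hyP]

/-- the involution of `⟨p⟩`, `p ∈ P` of order at least 4 -/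
theorem pow_mem_P (h : Fus S P D₁ D₂ a₁ b₁ a₂ b₂ m N R) {p : G} (hp : p ∈ P) {l : ℕ}
    (hl : orderOf p = 2 ^ (l + 2)) :
    p ^ 2 ^ (l + 1) = X ∨ p ^ 2 ^ (l + 1) = Z ∨ p ^ 2 ^ (l + 1) = X * Z := by
  obtain ⟨i, j, hij⟩ := h.sq_form hp
  set q := 2 ^ l with hq
  have h1 : p ^ 2 ^ (l + 1) = (p * p) ^ q := by
    rw [← pow_two, ← pow_mul, hq]
    congr 1
    rw [pow_add]; ring
  have hcm : Commute (a₁ ^ i) (a₂ ^ j) := h.comm _ (h.dih₁.rpow_mem i) _ (h.dih₂.rpow_mem j)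
  have h2 : p ^ 2 ^ (l + 1) = a₁ ^ (i * q) * a₂ ^ (j * q) := by
    rw [h1, hij, hcm.mul_pow, ← zpow_natCast, ← zpow_mul, ← zpow_natCast, ← zpow_mul]
  have hne : p ^ 2 ^ (l + 1) ≠ 1 := by
    intro h3
    have h4 := orderOf_dvd_of_pow_eq_one h3
    rw [hl] at h4
    have h5 := Nat.le_of_dvd (by positivity) h4
    have h6 : 2 ^ (l + 1) < 2 ^ (l + 2) := Nat.pow_lt_pow_right (by norm_num) (by omega)
    omega
  have hsq : p ^ 2 ^ (l + 1) * p ^ 2 ^ (l + 1) = 1 := by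
    rw [← pow_add, ← two_mul, ← pow_succ', ← hl, pow_orderOf_eq_one]
  have hD1 := h.dih₁.rpow_mem (i * q)
  have hD2 := h.dih₂.rpow_mem (j * q)
  have h4 := h.comm _ hD1 _ hD2
  have h3 : (a₁ ^ (i * q) * a₁ ^ (i * q)) * (a₂ ^ (j * q) * a₂ ^ (j * q)) = 1 * 1 := by
    rw [h2] at hsq
    calc _ = a₁ ^ (i * q) * (a₁ ^ (i * q) * a₂ ^ (j * q)) * a₂ ^ (j * q) := by group
      _ = a₁ ^ (i * q) * (a₂ ^ (j * q) * a₁ ^ (i * q)) * a₂ ^ (j * q) := by rw [h4]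
      _ = (a₁ ^ (i * q) * a₂ ^ (j * q)) * (a₁ ^ (i * q) * a₂ ^ (j * q)) := by group
      _ = 1 * 1 := by rw [hsq, one_mul]
  obtain ⟨h5, h6⟩ := h.unique (mul_mem hD1 hD1) (mul_mem hD2 hD2) (one_mem _) (one_mem _) h3
  rcases h.dih₁.rot_sq h5 with h7 | h7 <;> rcases h.dih₂.rot_sq h6 with h8 | h8
  · exfalso
    apply hne
    rw [h2, h7, h8, one_mul]
  · right; left
    rw [h2, h7, h8, one_mul]
  · left
    rw [h2, h7, h8, mul_one]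
  · right; right
    rw [h2, h7, h8]

/-- (B7), the fusion condition -/
theorem not_mem_P [Finite G] (h : Fus S P D₁ D₂ a₁ b₁ a₂ b₂ m N R) {y : G} (a : G) (hy : y ∈ S)
    (hyP : y ∉ P) : a * y * a⁻¹ ∉ P := by
  intro hpP
  set p := a * y * a⁻¹ with hp
  obtain ⟨r, hr⟩ := IsPGroup.iff_orderOf.1 h.two ⟨y, hy⟩
  rw [Subgroup.orderOf_mk] at hr
  have hop : orderOf p = orderOf y := orderOf_injective (MulAut.conj a).toMonoidHom
    (MulAut.conj a).injective y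
  have hpow : ∀ n : ℕ, p ^ n = a * y ^ n * a⁻¹ := fun n => by rw [hp, conj_pow]
  have hyy := h.no y hy hyP
  have hr2 : 2 ≤ r := by
    by_contra hlt
    apply hyy
    have h1 : orderOf y ∣ 2 := by
      rw [hr]
      exact (Nat.pow_dvd_pow 2 (by omega : r ≤ 1)).trans (by norm_num)
    rw [← pow_two]
    exact orderOf_dvd_iff_pow_eq_one.1 h1
  obtain ⟨r, rfl⟩ : ∃ r', r = r' + 2 := ⟨r - 2, by omega⟩
  have hpr : orderOf p = 2 ^ (r + 2) := by rw [hop, hr]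
  have h1 := h.pow_mem_P hpP hpr
  rw [hpow] at h1
  rcases Nat.eq_zero_or_pos r with rfl | hrpos
  · have hout : Out P D₁ D₂ (y * y) := by
      refine ⟨h.idx y hy hyP y hy hyP, fun h2 => h.odd_sq₁ hy hyP (h.ev₁_of_inB h2), ?_⟩
      have h2 := pow_orderOf_eq_one y
      rw [hr] at h2
      have e4 : y * y * (y * y) = y ^ 4 := by
        simp only [pow_succ, pow_zero, one_mul, mul_assoc]
      rw [e4]
      exact h2
    have e : y ^ 2 ^ (0 + 1) = y * y := by rw [zero_add, pow_one, pow_two]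
    rw [e] at h1
    have hc : IsConj (y * y) (a * (y * y) * a⁻¹) := isConj_iff.2 ⟨a, rfl⟩
    rcases h1 with h1 | h1 | h1
    · rw [h1] at hc; exact h.out_not_conj_x hout hc
    · rw [h1] at hc; exact h.out_not_conj_x hout (hc.trans h.isConj_z)
    · rw [h1] at hc; exact h.sq_not_conj_e hy hyP hc
  · obtain ⟨l, rfl⟩ : ∃ l, r = l + 1 := ⟨r - 1, by omega⟩
    have h2 := h.pow_eq_e hy hyP (l := l) hr
    rw [show l + 1 + 1 = l + 2 by ring, h2] at h1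
    have hc : IsConj (X * Z) (a * (X * Z) * a⁻¹) := isConj_iff.2 ⟨a, rfl⟩
    rcases h1 with h1 | h1 | h1
    · rw [h1] at hc; exact h.ne hc
    · rw [h1] at hc; exact h.ne (hc.trans h.isConj_z)
    have hk : X * Z * a⁻¹ = a⁻¹ * (X * Z) := by
      calc X * Z * a⁻¹ = a⁻¹ * (a * (X * Z) * a⁻¹) := by group
        _ = _ := by rw [h1]
    set v := a⁻¹ * X * a⁻¹⁻¹ with hv
    have hyv : y * v * y⁻¹ = v := by
      have h3 := h.conj_x hpP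
      calc y * v * y⁻¹ = a⁻¹ * (p * X * p⁻¹) * a := by rw [hp, hv]; group
        _ = v := by rw [h3, hv, inv_inv]
    have hcy : X * Z * y = y * (X * Z) := (h.comm_e hy).symm
    have heN : X * Z ∉ N := fun h3 => h.e_ne_one (eq_one_of_odd_two h.core.N_odd h.two h3
      (h.P_le (mul_mem h.xP h.zP)))
    have xi : X⁻¹ = X := h.dih₁.z_inv
    have zi : Z⁻¹ = Z := h.dih₂.z_inv
    rcases h.conj_x_mod hk with h3 | h3
    · have h4 := h.core.N_norm y hcy _ h3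
      have h5 : y * (X⁻¹ * v) * y⁻¹ = Z⁻¹ * v := by
        calc y * (X⁻¹ * v) * y⁻¹ = (y * X * y⁻¹)⁻¹ * (y * v * y⁻¹) := by group
          _ = _ := by rw [h.swap_x hy hyP, hyv]
      rw [h5] at h4
      apply heN
      have h6 := mul_mem h3 (inv_mem h4)
      have h7 : X⁻¹ * v * (Z⁻¹ * v)⁻¹ = X * Z := by
        calc X⁻¹ * v * (Z⁻¹ * v)⁻¹ = X⁻¹ * Z := by group
          _ = X * Z := by rw [xi]
      rwa [h7] at h6
    · have h4 := h.core.N_norm y hcy _ h3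
      have h5 : y * (Z⁻¹ * v) * y⁻¹ = X⁻¹ * v := by
        calc y * (Z⁻¹ * v) * y⁻¹ = (y * Z * y⁻¹)⁻¹ * (y * v * y⁻¹) := by group
          _ = _ := by rw [h.swap_z hy hyP, hyv]
      rw [h5] at h4
      apply heN
      have h6 := mul_mem h4 (inv_mem h3)
      have h7 : X⁻¹ * v * (Z⁻¹ * v)⁻¹ = X * Z := by
        calc X⁻¹ * v * (Z⁻¹ * v)⁻¹ = X⁻¹ * Z := by group
          _ = X * Z := by rw [xi]
      rwa [h7] at h6

/-- (B7): `G` has a subgroup of index 2 -/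
theorem false [Finite G] (h : Fus S P D₁ D₂ a₁ b₁ a₂ b₂ m N R) (hS : ¬ 2 ∣ S.index)
    (hG : commutator G = ⊤) : False := by
  -- an element of `S - P` of least order
  obtain ⟨τ, ⟨hτ, hτP⟩, hmin⟩ : ∃ τ : G, (τ ∈ S ∧ τ ∉ P) ∧
      ∀ y : G, (y ∈ S ∧ y ∉ P) → orderOf τ ≤ orderOf y := by
    obtain ⟨y, hy, hyP⟩ := h.proper
    have hf : {y : G | y ∈ S ∧ y ∉ P}.Finite := Set.toFinite _
    obtain ⟨τ, hτ, hm⟩ := Set.exists_min_image _ orderOf hf ⟨y, hy, hyP⟩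
    exact ⟨τ, hτ, fun y hy => hm y hy⟩
  have hnorm : (P.subgroupOf S).Normal := by
    refine ⟨fun p hp y => ?_⟩
    rw [mem_subgroupOf] at hp ⊢
    exact h.nP y.2 hp
  have hcomm : ∀ x ∈ S, ∀ y ∈ S, x * y * x⁻¹ * y⁻¹ ∈ P := by
    intro x hx y hy
    by_cases hxP : x ∈ P
    · have e : x * y * x⁻¹ * y⁻¹ = x * (y * x⁻¹ * y⁻¹) := by group
      rw [e]
      exact mul_mem hxP (h.nP hy (inv_mem hxP))
    · by_cases hyP : y ∈ P
      · exact mul_mem (h.nP hx hyP) (inv_mem hyP)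
      · have e : x * y * x⁻¹ * y⁻¹ = (x * y) * (x⁻¹ * y⁻¹) := by group
        rw [e]
        exact mul_mem (h.idx x hx hxP y hy hyP) (h.idx _ (inv_mem hx)
          (fun h1 => hxP (inv_mem_iff.1 h1)) _ (inv_mem hy) (fun h1 => hyP (inv_mem_iff.1 h1)))
  obtain ⟨r, hr⟩ := IsPGroup.iff_orderOf.1 h.two ⟨τ, hτ⟩
  rw [Subgroup.orderOf_mk] at hr
  have key : τ ∉ commutator G := by
    refine Cfsg.Agent.S1241.result (p := 2) S P h.P_le hnorm hcomm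
      ((Nat.Prime.coprime_iff_not_dvd Nat.prime_two).2 hS) τ hτ hτP ⟨r, hr⟩ ?_
    intro n a hn
    have hev : ∀ n : ℤ, Even n → τ ^ n ∈ P := by
      rintro n ⟨k, rfl⟩
      rw [← two_mul, zpow_mul, zpow_two]
      exact zpow_mem (h.idx τ hτ hτP τ hτ hτP) k
    rcases Int.even_or_odd n with he | ho
    · have h1 : τ ^ n ∈ P := hev n he
      refine mul_mem ?_ (inv_mem h1)
      by_contra h2
      have h3 := hmin _ ⟨hn, h2⟩
      have h4 : orderOf (a * τ ^ n * a⁻¹) = orderOf (τ ^ n) :=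
        orderOf_injective (MulAut.conj a).toMonoidHom (MulAut.conj a).injective _
      rw [h4, hr] at h3
      obtain ⟨k, rfl⟩ := he
      have hr1 : r ≠ 0 := by
        rintro rfl
        rw [pow_zero] at hr
        exact hτP ((orderOf_eq_one_iff.1 hr) ▸ one_mem _)
      have h5 : (τ ^ (k + k)) ^ 2 ^ (r - 1) = 1 := by
        rw [← zpow_natCast, ← zpow_mul]
        have h6 : (k + k) * ((2 ^ (r - 1) : ℕ) : ℤ) = ((2 ^ r : ℕ) : ℤ) * k := by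
          obtain ⟨r', rfl⟩ : ∃ r', r = r' + 1 := ⟨r - 1, by omega⟩
          rw [Nat.add_sub_cancel]
          push_cast
          rw [pow_succ]; ring
        rw [h6, zpow_mul, zpow_natCast, ← hr, pow_orderOf_eq_one, one_zpow]
      have h6 := Nat.le_of_dvd (by positivity) (orderOf_dvd_of_pow_eq_one h5)
      have h7 : 2 ^ (r - 1) < 2 ^ r := Nat.pow_lt_pow_right (by norm_num) (by omega)
      omega
    · have h1 : τ ^ n ∉ P := by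
        intro h1
        obtain ⟨k, rfl⟩ := ho
        apply hτP
        have h2 : τ = (τ ^ (2 * k))⁻¹ * τ ^ (2 * k + 1) := by
          rw [← zpow_neg, ← zpow_add]
          have : -(2 * k) + (2 * k + 1) = 1 := by ring
          rw [this, zpow_one]
        rw [h2]
        exact mul_mem (inv_mem (hev _ (even_two_mul k))) h1
      have h2 : τ ^ n ∈ S := zpow_mem hτ n
      exact h.idx _ hn (h.not_mem_P a h2 h1) _ (inv_mem h2) (fun h3 => h1 (inv_mem_iff.1 h3))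
  exact key (hG ▸ mem_top τ)

end Fus

end Cfsg.Agent.GH.L2.CaseIB
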