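import Cfsg.Agent.GH.L2.CaseIMain
import Cfsg.Agent.GH.L2.CaseIB

/-!
# GH-L2, Case I (blueprints/GH-L2-CaseI-helper153.md): Theorem I, abstract form

Sections 5A (helper153), 5B (helper542) and the case `P = D₁ D₂` put together.
-/

set_option autoImplicit false

open Subgroup
open Cfsg.Agent.GH.L2One Cfsg.Agent.GH.L2One.DihD
open Cfsg.Agent.GH.L2.CaseIDih Cfsg.Agent.GH.L2.CaseISitu

namespace Cfsg.Agent.GH.L2.CaseIAll

variable {G : Type*} [Group G]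

/-- The fusion facts of Case I (without the assumption on involutions outside `P`). -/
structure Fu (S P D₁ D₂ : Subgroup G) (a₁ b₁ a₂ b₂ : G) (m : ℕ) (N R : Subgroup G) : Prop
    extends Situ S P D₁ D₂ a₁ b₁ a₂ b₂ m where
  /-- `C(e)` is 2-constrained, `e = zz a₁ m * zz a₂ m` -/
  core : CoreH S N R (zz a₁ m) (zz a₁ m * zz a₂ m)
  /-- (K3) conjugated by `s` -/
  conj_r : ∀ i : ℤ, IsConj (a₁ ^ i * b₁) (zz a₁ m)
  /-- (2.6) -/
  conj_rz : ∀ i : ℤ, IsConj (a₁ ^ i * b₁ * zz a₂ m) (zz a₁ m * zz a₂ m)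
  /-- some `b₁ b₂ ~ e` -/
  conj_rr : ∃ i j : ℤ, IsConj (a₁ ^ i * b₁ * (a₂ ^ j * b₂)) (zz a₁ m * zz a₂ m)
  ne : ¬ IsConj (zz a₁ m * zz a₂ m) (zz a₁ m)
  /-- `P` is a Sylow 2-subgroup of `C(x)` -/
  sylx : ¬ 2 ∣ P.relIndex (centralizer {zz a₁ m})
  proper : ∃ y ∈ S, y ∉ P

/-- `e = zz a₁ m * zz a₂ m` is central in `S`. -/
theorem cent_e {S P D₁ D₂ : Subgroup G} {a₁ b₁ a₂ b₂ : G} {m : ℕ}
    (h : Situ S P D₁ D₂ a₁ b₁ a₂ b₂ m) {g : G} (hg : g ∈ S) :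
    g * (zz a₁ m * zz a₂ m) = (zz a₁ m * zz a₂ m) * g := by
  have hZ := h.comm _ h.dih₁.z_mem _ h.dih₂.z_mem
  have key : g * zz a₁ m * g⁻¹ * (g * zz a₂ m * g⁻¹) = zz a₁ m * zz a₂ m := by
    by_cases hgP : g ∈ P
    · rw [CaseIB.conj_zz h.dih₁ h.dih₁ (h.n₁ g hgP), CaseIB.conj_zz h.dih₂ h.dih₂ (h.n₂ g hgP)]
    · rw [CaseIB.conj_zz h.dih₁ h.dih₂ (h.s₁ g hg hgP), CaseIB.conj_zz h.dih₂ h.dih₁ (h.s₂ g hg hgP), hZ]
  calc g * (zz a₁ m * zz a₂ m) = (g * zz a₁ m * g⁻¹ * (g * zz a₂ m * g⁻¹)) * g := by group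
    _ = _ := by rw [key]

/-- **Theorem I**: in Case I the Sylow 2-subgroup is `D ≀ 2`. -/
theorem main [Finite G] (T : Sylow 2 G) {P D₁ D₂ : Subgroup G} {a₁ b₁ a₂ b₂ : G} {m : ℕ}
    {N R : Subgroup G} (h : Fu (T : Subgroup G) P D₁ D₂ a₁ b₁ a₂ b₂ m N R) (hG : commutator G = ⊤) :
    Defs.TypeL4 T := by
  obtain ⟨y, hy, hyP⟩ := h.proper
  have hS : IsPGroup 2 (T : Subgroup G) := T.isPGroup'
  have hP : IsPGroup 2 P := hS.to_le h.P_le
  by_cases hB : ∀ p ∈ P, InB D₁ D₂ p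
  · exact CaseIMain.typeL4_of_eq h.toSitu hy hyP hB
  exfalso
  push Not at hB
  obtain ⟨p, hp, hpB⟩ := hB
  by_cases hno : ∀ y ∈ (T : Subgroup G), y ∉ P → y * y ≠ 1
  · have hT : ¬ 2 ∣ (T : Subgroup G).index := T.not_dvd_index
    have hle : (T : Subgroup G) ≤ centralizer {zz a₁ m * zz a₂ m} := by
      intro g hg
      rw [mem_centralizer_singleton_iff]
      exact cent_e h.toSitu hg
    have hF : CaseIB.Fus (T : Subgroup G) P D₁ D₂ a₁ b₁ a₂ b₂ m N R :=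
      { toSitu := h.toSitu
        core := h.core
        two := hS
        conj_r := h.conj_r
        conj_rz := h.conj_rz
        conj_rr := h.conj_rr
        ne := h.ne
        sylx := h.sylx
        syle := fun h2 => hT (h2.trans (relIndex_dvd_index_of_le hle))
        no := hno
        proper := h.proper }
    exact hF.false hT hG
  · push Not at hno
    obtain ⟨s, hs, hsP, ss⟩ := hno
    obtain ⟨i, j, hij⟩ := h.conj_rr
    refine CaseIMain.five_A T h.toSitu ?_ hs hsP ss hp hpB (fun h1 => h.ne h1.symm)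
      (mul_mem (h.dih₁.rpow_mem i) h.dih₁.c_mem) (mul_mem (h.dih₂.rpow_mem j) h.dih₂.c_mem)
      (h.dih₁.refl_sq i) (h.dih₁.refl_ne_one i) (h.dih₁.refl_ne_z i) (h.dih₂.refl_sq j)
      (h.dih₂.refl_ne_one j) (h.dih₂.refl_ne_z j) hij ?_
    · intro f u
      have h1 : commutator G ≤ f.ker := Abelianization.commutator_subset_ker f
      rw [hG] at h1
      exact h1 (mem_top u)
    · intro R' hR' hR'x
      obtain ⟨c, hc, hc'⟩ := CaseIB.exists_conj_le (C := centralizer {zz a₁ m}) (S := P) (X := R')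
        (fun r hr => mem_centralizer_singleton_iff.2 (hR'x r hr).eq) hP hR' h.sylx
      exact ⟨c, mem_centralizer_singleton_iff.1 hc, hc'⟩

end Cfsg.Agent.GH.L2.CaseIAll
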