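import Mathlib

/-!
# GH-L2, case I: base structure

`S = P⟨s⟩`, `P` contains `D₁ × D₂` (dihedral groups `⟨a₁, b₁⟩`, `⟨a₂, b₂⟩` of order `2 ^ (k + 2)`), swapped by the
involution `s`; every element of `P` acts on `⟨aᵢ⟩` as `± 1` (blueprints/GH-L2-CaseI-helper153.md, section 5).
-/

set_option autoImplicit false

namespace Cfsg.Agent.GH.L2.CaseIBase

open Subgroup

variable {G : Type*} [Group G]

/-- `S = P⟨s⟩`, `P ≥ ⟨a₁, b₁⟩ × ⟨a₂, b₂⟩`. -/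
structure Base (k : ℕ) (S P : Subgroup G) (a₁ b₁ a₂ b₂ s : G) : Prop where
  hk : 1 ≤ k
  PS : P ≤ S
  cov : ∀ g ∈ S, g ∈ P ∨ s * g ∈ P
  nrm : ∀ g ∈ S, ∀ p ∈ P, g * p * g⁻¹ ∈ P
  sS : s ∈ S
  sP : s ∉ P
  ss : s * s = 1
  aP : a₁ ∈ P
  bP : b₁ ∈ P
  sa : s * a₁ * s⁻¹ = a₂
  sb : s * b₁ * s⁻¹ = b₂
  oa : orderOf a₁ = 2 ^ (k + 1)
  bb : b₁ * b₁ = 1
  ba : b₁ * a₁ * b₁⁻¹ = a₁⁻¹
  aa : Commute a₁ a₂
  ab : Commute a₁ b₂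
  bc : Commute b₁ b₂
  dir : ∀ i j : ℤ, a₁ ^ i = a₂ ^ j → a₁ ^ i = 1
  act : ∀ p ∈ P, (p * a₁ * p⁻¹ = a₁ ∨ p * a₁ * p⁻¹ = a₁⁻¹) ∧ ∃ j : ℤ, p * b₁ * p⁻¹ = a₁ ^ j * b₁
  cen : ∀ p ∈ P, Commute p a₁ → Commute p b₁ → Commute p a₂ → Commute p b₂ →
    ∃ i j : ℤ, p = a₁ ^ i * a₂ ^ j

variable {k : ℕ} {S P : Subgroup G} {a₁ b₁ a₂ b₂ s : G}

namespace Base

variable (h : Base k S P a₁ b₁ a₂ b₂ s)
include h

theorem s_inv : s⁻¹ = s := inv_eq_of_mul_eq_one_left h.ss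

theorem sa' : s * a₂ * s⁻¹ = a₁ := by
  rw [← h.sa, h.s_inv]
  have := h.ss
  calc s * (s * a₁ * s) * s = (s * s) * a₁ * (s * s) := by group
    _ = a₁ := by rw [this]; group

theorem sb' : s * b₂ * s⁻¹ = b₁ := by
  rw [← h.sb, h.s_inv]
  have := h.ss
  calc s * (s * b₁ * s) * s = (s * s) * b₁ * (s * s) := by group
    _ = b₁ := by rw [this]; group

theorem aP2 : a₂ ∈ P := by
  rw [← h.sa]
  exact h.nrm s h.sS _ h.aP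

theorem bP2 : b₂ ∈ P := by
  rw [← h.sb]
  exact h.nrm s h.sS _ h.bP

theorem oa2 : orderOf a₂ = 2 ^ (k + 1) := by
  rw [← h.sa, ← h.oa]
  exact orderOf_injective (MulAut.conj s).toMonoidHom (MulAut.conj s).injective a₁

theorem bb2 : b₂ * b₂ = 1 := by
  rw [← h.sb]
  calc s * b₁ * s⁻¹ * (s * b₁ * s⁻¹) = s * (b₁ * b₁) * s⁻¹ := by group
    _ = 1 := by rw [h.bb]; group

theorem ba2 : b₂ * a₂ * b₂⁻¹ = a₂⁻¹ := by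
  rw [← h.sb, ← h.sa]
  calc s * b₁ * s⁻¹ * (s * a₁ * s⁻¹) * (s * b₁ * s⁻¹)⁻¹ = s * (b₁ * a₁ * b₁⁻¹) * s⁻¹ := by group
    _ = (s * a₁ * s⁻¹)⁻¹ := by rw [h.ba]; group

theorem ba' : Commute b₁ a₂ := by
  have h1 := h.ab
  have h2 : Commute (s * a₁ * s⁻¹) (s * b₂ * s⁻¹) := by
    have := h1.map (MulAut.conj s)
    simpa using this
  rw [h.sa, h.sb'] at h2
  exact h2.symm

theorem b_inv : b₁⁻¹ = b₁ := inv_eq_of_mul_eq_one_left h.bb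

theorem b_inv2 : b₂⁻¹ = b₂ := inv_eq_of_mul_eq_one_left h.bb2

theorem dir2 {i j : ℤ} (hij : a₁ ^ i = a₂ ^ j) : a₂ ^ j = 1 := by
  rw [← hij]
  exact h.dir i j hij

/-- Uniqueness of coordinates. -/
theorem coord {i j i' j' : ℤ} (he : a₁ ^ i * a₂ ^ j = a₁ ^ i' * a₂ ^ j') :
    a₁ ^ i = a₁ ^ i' ∧ a₂ ^ j = a₂ ^ j' := by
  have h1 : a₁ ^ (-i' + i) = a₂ ^ (j' + -j) := by
    rw [zpow_add, zpow_neg, zpow_add, zpow_neg]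
    calc (a₁ ^ i')⁻¹ * a₁ ^ i = (a₁ ^ i')⁻¹ * (a₁ ^ i * a₂ ^ j) * (a₂ ^ j)⁻¹ := by group
      _ = a₂ ^ j' * (a₂ ^ j)⁻¹ := by rw [he]; group
  have h2 := h.dir _ _ h1
  have h3 := h.dir2 h1
  constructor
  · rw [zpow_add, zpow_neg] at h2
    exact (inv_mul_eq_one.mp h2).symm
  · rw [zpow_add, zpow_neg] at h3
    exact (mul_inv_eq_one.mp h3).symm

theorem act2 {p : G} (hp : p ∈ P) :
    (p * a₂ * p⁻¹ = a₂ ∨ p * a₂ * p⁻¹ = a₂⁻¹) ∧ ∃ j : ℤ, p * b₂ * p⁻¹ = a₂ ^ j * b₂ := by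
  have hq : s * p * s⁻¹ ∈ P := h.nrm s h.sS p hp
  obtain ⟨h1, j, h2⟩ := h.act _ hq
  have e : ∀ v : G, p * (s * v * s⁻¹) * p⁻¹ = s * (s * p * s⁻¹ * v * (s * p * s⁻¹)⁻¹) * s⁻¹ := by
    intro v
    have := h.ss
    rw [h.s_inv]
    have h3 : (s * p * s)⁻¹ = s * p⁻¹ * s := by rw [mul_inv_rev, mul_inv_rev, h.s_inv]; group
    rw [h3]
    calc p * (s * v * s) * p⁻¹ = p * (s * v * s) * p⁻¹ := rfl
      _ = (s * s) * p * (s * v * s) * p⁻¹ * (s * s) := by rw [this]; group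
      _ = _ := by group
  refine ⟨?_, j, ?_⟩
  · rw [← h.sa, e]
    rcases h1 with h1 | h1
    · left
      rw [h1]
    · right
      rw [h1]
      group
  · rw [← h.sb, e, h2, ← h.sa, conj_zpow]
    group

/-- The involution `x` is not trivial, `a₁ ^ i = 1 ↔ 2 ^ (k + 1) ∣ i`. -/
theorem pow_one {i : ℤ} : a₁ ^ i = 1 ↔ (2 : ℤ) ^ (k + 1) ∣ i := by
  have h1 := orderOf_dvd_iff_zpow_eq_one (x := a₁) (i := i)
  rw [← h1, h.oa]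
  push_cast
  rfl

theorem pow_one2 {i : ℤ} : a₂ ^ i = 1 ↔ (2 : ℤ) ^ (k + 1) ∣ i := by
  have h1 := orderOf_dvd_iff_zpow_eq_one (x := a₂) (i := i)
  rw [← h1, h.oa2]
  push_cast
  rfl

theorem pow_eq {i j : ℤ} : a₁ ^ i = a₁ ^ j ↔ (2 : ℤ) ^ (k + 1) ∣ i - j := by
  rw [← h.pow_one, zpow_sub, mul_inv_eq_one]

theorem pow_eq2 {i j : ℤ} : a₂ ^ i = a₂ ^ j ↔ (2 : ℤ) ^ (k + 1) ∣ i - j := by
  rw [← h.pow_one2, zpow_sub, mul_inv_eq_one]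

theorem four_dvd {i : ℤ} (hi : (2 : ℤ) ^ (k + 1) ∣ i) : (4 : ℤ) ∣ i := by
  obtain ⟨m, rfl⟩ := Nat.exists_eq_add_of_le h.hk
  refine dvd_trans ⟨2 ^ m, ?_⟩ hi
  ring

theorem even_of {i : ℤ} (hi : (2 : ℤ) ^ (k + 1) ∣ 2 * i) : Even i := by
  have := h.four_dvd hi
  rw [Int.even_iff]
  omega

/-- `p` centralises `a₁`, `p b₁ p⁻¹ = a₁ ^ (2 t) b₁`, ...: then `p ∈ ⟨a₁⟩⟨a₂⟩`. -/
theorem mem_A {p : G} (hp : p ∈ P) (h1 : p * a₁ * p⁻¹ = a₁) (h2 : p * a₂ * p⁻¹ = a₂) {t u : ℤ}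
    (h3 : p * b₁ * p⁻¹ = a₁ ^ (2 * t) * b₁) (h4 : p * b₂ * p⁻¹ = a₂ ^ (2 * u) * b₂) :
    ∃ i j : ℤ, p = a₁ ^ i * a₂ ^ j := by
  set q : G := a₁ ^ (-t) * a₂ ^ (-u) * p with hq
  have hqP : q ∈ P := P.mul_mem (P.mul_mem (P.zpow_mem h.aP _) (P.zpow_mem h.aP2 _)) hp
  have c1 : Commute p a₁ := mul_inv_eq_iff_eq_mul.mp h1
  have c2 : Commute p a₂ := mul_inv_eq_iff_eq_mul.mp h2
  have hb1 : ∀ i : ℤ, b₁ * a₁ ^ i = a₁ ^ (-i) * b₁ := by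
    intro i
    have := conj_zpow (a := b₁) (b := a₁) (i := i)
    rw [h.ba] at this
    rw [← mul_inv_eq_iff_eq_mul, ← this, zpow_neg, inv_zpow]
  have hb2 : ∀ i : ℤ, b₂ * a₂ ^ i = a₂ ^ (-i) * b₂ := by
    intro i
    have := conj_zpow (a := b₂) (b := a₂) (i := i)
    rw [h.ba2] at this
    rw [← mul_inv_eq_iff_eq_mul, ← this, zpow_neg, inv_zpow]
  have c3 : p * b₁ = a₁ ^ (2 * t) * b₁ * p := by
    rw [← h3]; group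
  have c4 : p * b₂ = a₂ ^ (2 * u) * b₂ * p := by
    rw [← h4]; group
  have e1 : Commute q a₁ := by
    refine Commute.mul_left (Commute.mul_left (Commute.zpow_self _ _) ?_) c1
    exact h.aa.symm.zpow_left _
  have e2 : Commute q a₂ := by
    refine Commute.mul_left (Commute.mul_left ?_ (Commute.zpow_self _ _)) c2
    exact h.aa.zpow_left _
  have e3 : Commute q b₁ := by
    rw [commute_iff_eq, hq]
    calc a₁ ^ (-t) * a₂ ^ (-u) * p * b₁ = a₁ ^ (-t) * a₂ ^ (-u) * (p * b₁) := by group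
      _ = a₁ ^ (-t) * (a₂ ^ (-u) * a₁ ^ (2 * t)) * b₁ * p := by rw [c3]; group
      _ = a₁ ^ (-t) * (a₁ ^ (2 * t) * a₂ ^ (-u)) * b₁ * p := by
          rw [(h.aa.symm.zpow_zpow _ _).eq]
      _ = a₁ ^ t * (a₂ ^ (-u) * b₁) * p := by
          rw [← mul_assoc (a₁ ^ (-t)), ← zpow_add, show -t + 2 * t = t by ring]; group
      _ = a₁ ^ t * (b₁ * a₂ ^ (-u)) * p := by rw [(h.ba'.symm.zpow_left (-u)).eq]
      _ = (a₁ ^ t * b₁) * a₂ ^ (-u) * p := by group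
      _ = (b₁ * a₁ ^ (-t)) * a₂ ^ (-u) * p := by rw [hb1 (-t), neg_neg]
      _ = b₁ * (a₁ ^ (-t) * a₂ ^ (-u) * p) := by group
  have e4 : Commute q b₂ := by
    rw [commute_iff_eq, hq]
    calc a₁ ^ (-t) * a₂ ^ (-u) * p * b₂ = a₁ ^ (-t) * a₂ ^ (-u) * (p * b₂) := by group
      _ = a₁ ^ (-t) * (a₂ ^ (-u) * a₂ ^ (2 * u)) * b₂ * p := by rw [c4]; group
      _ = a₁ ^ (-t) * (a₂ ^ u * b₂) * p := by
          rw [← zpow_add, show -u + 2 * u = u by ring]; group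
      _ = a₁ ^ (-t) * (b₂ * a₂ ^ (-u)) * p := by rw [hb2 (-u), neg_neg]
      _ = (a₁ ^ (-t) * b₂) * a₂ ^ (-u) * p := by group
      _ = (b₂ * a₁ ^ (-t)) * a₂ ^ (-u) * p := by rw [(h.ab.zpow_left (-t)).eq]
      _ = b₂ * (a₁ ^ (-t) * a₂ ^ (-u) * p) := by group
  obtain ⟨i, j, hij⟩ := h.cen q hqP e1 e3 e2 e4
  refine ⟨t + i, u + j, ?_⟩
  have h5 : p = a₂ ^ u * (a₁ ^ t * q) := by
    rw [hq]
    calc p = a₂ ^ u * a₂ ^ (-u) * p := by rw [← zpow_add]; simp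
      _ = a₂ ^ u * (a₁ ^ t * a₁ ^ (-t)) * a₂ ^ (-u) * p := by rw [← zpow_add]; simp
      _ = _ := by group
  rw [h5, hij, zpow_add, zpow_add]
  calc a₂ ^ u * (a₁ ^ t * (a₁ ^ i * a₂ ^ j)) = (a₂ ^ u * (a₁ ^ t * a₁ ^ i)) * a₂ ^ j := by group
    _ = ((a₁ ^ t * a₁ ^ i) * a₂ ^ u) * a₂ ^ j := by
        rw [← zpow_add, (h.aa.symm.zpow_zpow u (t + i)).eq]
    _ = _ := by group

omit h in
theorem act_mul {a b p q : G} {i j : ℤ} (hp : p * b * p⁻¹ = a ^ i * b) (hq : q * b * q⁻¹ = a ^ j * b)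
    (hqa : q * a * q⁻¹ = a ∨ q * a * q⁻¹ = a⁻¹) :
    ∃ l : ℤ, (q * p) * b * (q * p)⁻¹ = a ^ l * b ∧ (Even l ↔ Even (i + j)) := by
  have e : (q * p) * b * (q * p)⁻¹ = (q * a * q⁻¹) ^ i * (q * b * q⁻¹) := by
    calc (q * p) * b * (q * p)⁻¹ = q * (p * b * p⁻¹) * q⁻¹ := by group
      _ = q * a ^ i * q⁻¹ * (q * b * q⁻¹) := by rw [hp]; group
      _ = _ := by rw [conj_zpow]
  rcases hqa with hqa | hqa
  · refine ⟨i + j, ?_, Iff.rfl⟩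
    rw [e, hqa, hq, zpow_add]
    group
  · refine ⟨-i + j, ?_, ?_⟩
    · rw [e, hqa, hq, zpow_add, inv_zpow, zpow_neg]
      group
    · rw [Int.even_add, Int.even_add, even_neg]

/-- Squares of elements of `P` lie in `⟨a₁⟩⟨a₂⟩`. -/
theorem sq {p : G} (hp : p ∈ P) : ∃ i j : ℤ, p * p = a₁ ^ i * a₂ ^ j := by
  obtain ⟨h1, i, h2⟩ := h.act p hp
  obtain ⟨h3, j, h4⟩ := h.act2 hp
  obtain ⟨l, hl, hle⟩ := act_mul h2 h2 h1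
  obtain ⟨m, hm, hme⟩ := act_mul h4 h4 h3
  obtain ⟨t, rfl⟩ : Even l := hle.2 ⟨i, rfl⟩
  obtain ⟨u, rfl⟩ : Even m := hme.2 ⟨j, rfl⟩
  refine h.mem_A (P.mul_mem hp hp) ?_ ?_ (t := t) (u := u) ?_ ?_
  · have e : p * p * a₁ * (p * p)⁻¹ = p * (p * a₁ * p⁻¹) * p⁻¹ := by group
    rw [e]
    rcases h1 with h1 | h1
    · rw [h1, h1]
    · rw [h1]
      have : p * a₁⁻¹ * p⁻¹ = (p * a₁ * p⁻¹)⁻¹ := by group
      rw [this, h1, inv_inv]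
  · have e : p * p * a₂ * (p * p)⁻¹ = p * (p * a₂ * p⁻¹) * p⁻¹ := by group
    rw [e]
    rcases h3 with h1 | h1
    · rw [h1, h1]
    · rw [h1]
      have : p * a₂⁻¹ * p⁻¹ = (p * a₂ * p⁻¹)⁻¹ := by group
      rw [this, h1, inv_inv]
  · rw [hl, two_mul]
  · rw [hm, two_mul]

end Base

end Cfsg.Agent.GH.L2.CaseIBase
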