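import Cfsg.Agent.GH.L2One.DihD

/-!
# Automorphisms `a ↦ a^{±1}`, `b ↦ a^k b` of a dihedral group: parity

`Act a b p`: conjugation by `p` maps `a` to `a^{±1}` and `b` to `a ^ k * b`; `Ev a b p`: `k` is even.
-/

set_option autoImplicit false

open Subgroup
open Cfsg.Agent.GH.L2One.DihD

namespace Cfsg.Agent.GH.L2.CaseIDih

variable {G : Type*} [Group G]

/-- conjugation by `p` maps `a` to `a^{±1}` and `b` to `a ^ k * b` -/
structure Act (a b p : G) : Prop where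
  rot : p * a * p⁻¹ = a ∨ p * a * p⁻¹ = a⁻¹
  refl : ∃ k : ℤ, p * b * p⁻¹ = a ^ k * b

/-- even on the reflections -/
def Ev (a b p : G) : Prop := ∃ k : ℤ, p * b * p⁻¹ = a ^ (2 * k) * b

section one

variable {D : Subgroup G} {a b : G} {m : ℕ}

theorem Act.exists_zpow {p : G} (hp : Act a b p) (i : ℤ) :
    ∃ j : ℤ, Even (i - j) ∧ p * a ^ i * p⁻¹ = a ^ j := by
  rcases hp.rot with h | h
  · exact ⟨i, ⟨0, by ring⟩, by rw [← conj_zpow, h]⟩
  · exact ⟨-i, ⟨i, by ring⟩, by rw [← conj_zpow, h, inv_zpow, zpow_neg]⟩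

theorem Act.zpow_or {p : G} (hp : Act a b p) (i : ℤ) :
    p * a ^ i * p⁻¹ = a ^ i ∨ p * a ^ i * p⁻¹ = a ^ (-i) := by
  rcases hp.rot with h | h
  · exact Or.inl (by rw [← conj_zpow, h])
  · exact Or.inr (by rw [← conj_zpow, h, inv_zpow, zpow_neg])

theorem even_sub_of_eq (h : Dih D a b m) {i j : ℤ} (he : a ^ i = a ^ j) : Even (i - j) := by
  have h1 := h.rpow_eq.1 he
  rw [h.two_pow] at h1
  obtain ⟨k, hk⟩ := h1
  exact ⟨2 ^ (m - 1) * k, by rw [hk]; ring⟩

theorem even_sub_of_eq' (h : Dih D a b m) {i j : ℤ} (he : a ^ i * b = a ^ j * b) : Even (i - j) :=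
  even_sub_of_eq h (mul_right_cancel he)

/-- `Ev` can be read off from any exponent -/
theorem ev_iff (h : Dih D a b m) {p : G} {k : ℤ} (hk : p * b * p⁻¹ = a ^ k * b) :
    Ev a b p ↔ Even k := by
  constructor
  · rintro ⟨l, hl⟩
    have h1 : Even (k - 2 * l) := even_sub_of_eq' h (hk ▸ hl)
    have h2 : Even (2 * l) := even_two_mul l
    have := h1.add h2
    simpa using this
  · rintro ⟨l, rfl⟩
    exact ⟨l, by rw [hk, two_mul]⟩

theorem Act.mul {p q : G} (hp : Act a b p) (hq : Act a b q) : Act a b (p * q) := by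
  constructor
  · have e : p * q * a * (p * q)⁻¹ = p * (q * a * q⁻¹) * p⁻¹ := by group
    rw [e]
    rcases hq.rot with h1 | h1
    · rw [h1]; exact hp.rot
    · rw [h1]
      have e2 : p * a⁻¹ * p⁻¹ = (p * a * p⁻¹)⁻¹ := by group
      rw [e2]
      rcases hp.rot with h2 | h2
      · rw [h2]; exact Or.inr rfl
      · rw [h2, inv_inv]; exact Or.inl rfl
  · obtain ⟨k, hk⟩ := hq.refl
    obtain ⟨l, hl⟩ := hp.refl
    obtain ⟨j, -, hj⟩ := hp.exists_zpow k
    refine ⟨j + l, ?_⟩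
    calc p * q * b * (p * q)⁻¹ = p * (q * b * q⁻¹) * p⁻¹ := by group
      _ = (p * a ^ k * p⁻¹) * (p * b * p⁻¹) := by rw [hk]; group
      _ = a ^ (j + l) * b := by rw [hj, hl, zpow_add, mul_assoc]

theorem ev_mul (h : Dih D a b m) {p q : G} (hp : Act a b p) (hq : Act a b q) :
    Ev a b (p * q) ↔ (Ev a b p ↔ Ev a b q) := by
  obtain ⟨k, hk⟩ := hq.refl
  obtain ⟨l, hl⟩ := hp.refl
  obtain ⟨j, hkj, hj⟩ := hp.exists_zpow k
  have h1 : p * q * b * (p * q)⁻¹ = a ^ (j + l) * b := by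
    calc p * q * b * (p * q)⁻¹ = p * (q * b * q⁻¹) * p⁻¹ := by group
      _ = (p * a ^ k * p⁻¹) * (p * b * p⁻¹) := by rw [hk]; group
      _ = a ^ (j + l) * b := by rw [hj, hl, zpow_add, mul_assoc]
  rw [ev_iff h h1, ev_iff h hk, ev_iff h hl]
  rw [Int.even_sub] at hkj
  rw [Int.even_add, hkj]
  tauto

theorem ev_of_comm {p : G} (hp : p * b = b * p) : Ev a b p :=
  ⟨0, by rw [mul_zero, zpow_zero, one_mul, hp]; group⟩

theorem act_of_comm {p : G} (hp : p * b = b * p) (hp' : p * a = a * p) : Act a b p :=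
  ⟨Or.inl (by rw [hp']; group), ⟨0, by rw [zpow_zero, one_mul, hp]; group⟩⟩

theorem conj_a_b (h : Dih D a b m) (i : ℤ) : a ^ i * b * (a ^ i)⁻¹ = a ^ (2 * i) * b := by
  have h1 := h.c_rpow (-i)
  rw [← zpow_neg, mul_assoc, h1, neg_neg, ← mul_assoc, ← zpow_add, two_mul]

theorem conj_ab_b (h : Dih D a b m) (i : ℤ) :
    (a ^ i * b) * b * (a ^ i * b)⁻¹ = a ^ (2 * i) * b := by
  have h1 : (a ^ i * b) * b * (a ^ i * b)⁻¹ = a ^ i * b * (a ^ i)⁻¹ := by group
  rw [h1, conj_a_b h]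

theorem act_of_mem (h : Dih D a b m) {d : G} (hd : d ∈ D) : Act a b d := by
  rcases h.cases hd with ⟨i, rfl⟩ | ⟨i, rfl⟩
  · exact ⟨Or.inl (by group), ⟨2 * i, conj_a_b h i⟩⟩
  · refine ⟨Or.inr ?_, ⟨2 * i, conj_ab_b h i⟩⟩
    have := h.conj_refl i 1
    rwa [zpow_one, zpow_neg, zpow_one] at this

theorem ev_of_mem (h : Dih D a b m) {d : G} (hd : d ∈ D) : Ev a b d := by
  rcases h.cases hd with ⟨i, rfl⟩ | ⟨i, rfl⟩
  · exact ⟨i, conj_a_b h i⟩
  · exact ⟨i, conj_ab_b h i⟩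

/-- an even element acts on `D` as an element of `D` -/
theorem exists_inner (h : Dih D a b m) {p : G} (hp : Act a b p) (he : Ev a b p) :
    ∃ d ∈ D, ∀ g ∈ D, p * g * p⁻¹ = d * g * d⁻¹ := by
  obtain ⟨k, hk⟩ := he
  have key : ∀ d ∈ D, p * a * p⁻¹ = d * a * d⁻¹ → p * b * p⁻¹ = d * b * d⁻¹ →
      ∀ g ∈ D, p * g * p⁻¹ = d * g * d⁻¹ := by
    intro d _ h1 h2 g hg
    have h3 : ∀ i : ℤ, p * a ^ i * p⁻¹ = d * a ^ i * d⁻¹ := by
      intro i; rw [← conj_zpow, h1, conj_zpow]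
    rcases h.cases hg with ⟨i, rfl⟩ | ⟨i, rfl⟩
    · exact h3 i
    · calc p * (a ^ i * b) * p⁻¹ = (p * a ^ i * p⁻¹) * (p * b * p⁻¹) := by group
        _ = d * (a ^ i * b) * d⁻¹ := by rw [h3, h2]; group
  rcases hp.rot with h1 | h1
  · refine ⟨a ^ k, h.rpow_mem k, key _ (h.rpow_mem k) ?_ ?_⟩
    · rw [h1]; group
    · rw [hk, conj_a_b h]
  · have hm : a ^ k * b ∈ D := mul_mem (h.rpow_mem k) h.c_mem
    refine ⟨a ^ k * b, hm, key _ hm ?_ ?_⟩
    · have := h.conj_refl k 1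
      rw [zpow_one, zpow_neg, zpow_one] at this
      rw [h1, this]
    · rw [hk, conj_ab_b h]

/-- the elements of `D` acting on all reflections: `p` of square one, odd: inverts `a` -/
theorem inv_of_odd (h : Dih D a b m) {t : G} (ht : Act a b t) (ho : ¬ Ev a b t) (htt : t * t = 1) :
    t * a * t⁻¹ = a⁻¹ := by
  rcases ht.rot with h1 | h1
  · exfalso
    obtain ⟨k, hk⟩ := ht.refl
    have hkk : Odd k := by
      rw [← Int.not_even_iff_odd, ← ev_iff h hk]; exact ho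
    have h2 : t * (t * b * t⁻¹) * t⁻¹ = b := by
      calc t * (t * b * t⁻¹) * t⁻¹ = (t * t) * b * (t * t)⁻¹ := by group
        _ = b := by rw [htt]; group
    have h3 : t * (t * b * t⁻¹) * t⁻¹ = a ^ k * a ^ k * b := by
      calc t * (t * b * t⁻¹) * t⁻¹ = (t * a ^ k * t⁻¹) * (t * b * t⁻¹) := by
            rw [hk]
            calc t * (a ^ k * b) * t⁻¹ = (t * a ^ k * t⁻¹) * (t * b * t⁻¹) := by group
              _ = _ := by rw [hk]
        _ = a ^ k * a ^ k * b := by rw [← conj_zpow, h1, hk, mul_assoc]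
    rw [h2] at h3
    exact h.odd_sq hkk (mul_right_cancel (h3.symm.trans (one_mul b).symm))
  · exact h1

/-- an odd element inverting `a` fixes in `D` only the centre -/
theorem cent_of_odd (h : Dih D a b m) {t : G} (ht : Act a b t) (ho : ¬ Ev a b t)
    (hi : t * a * t⁻¹ = a⁻¹) {d : G} (hd : d ∈ D) (hc : t * d = d * t) : d = 1 ∨ d = zz a m := by
  have hc' : t * d * t⁻¹ = d := by rw [hc]; group
  have hz : ∀ i : ℤ, t * a ^ i * t⁻¹ = a ^ (-i) := by
    intro i; rw [← conj_zpow, hi, inv_zpow, zpow_neg]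
  rcases h.cases hd with ⟨i, rfl⟩ | ⟨i, rfl⟩
  · apply h.rot_sq
    rw [hz] at hc'
    calc a ^ i * a ^ i = a ^ (-i) * a ^ i := by rw [hc']
      _ = 1 := by rw [← zpow_add]; simp
  · exfalso
    obtain ⟨k, hk⟩ := ht.refl
    have h1 : t * (a ^ i * b) * t⁻¹ = a ^ (-i + k) * b := by
      calc t * (a ^ i * b) * t⁻¹ = (t * a ^ i * t⁻¹) * (t * b * t⁻¹) := by group
        _ = a ^ (-i + k) * b := by rw [hz, hk, zpow_add, mul_assoc]
    rw [hc'] at h1
    have h2 : Even (i - (-i + k)) := even_sub_of_eq' h h1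
    apply ho
    rw [ev_iff h hk]
    have h3 : Even (2 * i) := even_two_mul i
    have h4 : k = 2 * i - (i - (-i + k)) := by ring
    rw [h4]
    exact h3.sub h2

/-- an odd element of square one inverting `d ∈ D`: all of `t d` is conjugate to `t` under `D` -/
theorem exists_conj_of_odd (h : Dih D a b m) {t : G} (ht : Act a b t) (ho : ¬ Ev a b t)
    (htt : t * t = 1) {d : G} (hd : d ∈ D) (hc : t * d * t⁻¹ = d⁻¹) :
    ∃ c ∈ D, c * t * c⁻¹ = t * d := by
  have hi := inv_of_odd h ht ho htt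
  have ti : t⁻¹ = t := inv_eq_of_mul_eq_one_left htt
  have hz : ∀ i : ℤ, t * a ^ i * t⁻¹ = a ^ (-i) := by
    intro i; rw [← conj_zpow, hi, inv_zpow, zpow_neg]
  have hz' : ∀ i : ℤ, a ^ i * t = t * a ^ (-i) := by
    intro i
    have := hz (-i)
    rw [neg_neg] at this
    rw [← this]; group
  rcases h.cases hd with ⟨i, rfl⟩ | ⟨i, rfl⟩
  · obtain ⟨k, hk⟩ := ht.refl
    have hkk : Odd k := by
      rw [← Int.not_even_iff_odd, ← ev_iff h hk]; exact ho
    have hb : b * t * b⁻¹ = t * a ^ k := by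
      have h1 : t * b * t⁻¹ * b⁻¹ = a ^ k := by rw [hk]; group
      rw [← h1, ti]
      calc b * t * b⁻¹ = (t * t) * b * t * b⁻¹ := by rw [htt, one_mul]
        _ = _ := by group
    have hconj : ∀ l : ℤ, a ^ l * t * (a ^ l)⁻¹ = t * a ^ (-(2 * l)) := by
      intro l
      rw [hz', mul_assoc, ← zpow_neg, ← zpow_add]
      congr 2; ring
    rcases Int.even_or_odd i with ⟨l, hl⟩ | hio
    · refine ⟨a ^ (-l), h.rpow_mem _, ?_⟩
      rw [hconj]
      congr 2; omega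
    · obtain ⟨l, hl⟩ := hio.sub_odd hkk
      refine ⟨a ^ (-l) * b, mul_mem (h.rpow_mem _) h.c_mem, ?_⟩
      calc a ^ (-l) * b * t * (a ^ (-l) * b)⁻¹ = a ^ (-l) * (b * t * b⁻¹) * (a ^ (-l))⁻¹ := by group
        _ = (a ^ (-l) * t * (a ^ (-l))⁻¹) * a ^ k := by rw [hb]; group
        _ = t * a ^ i := by
          rw [hconj, mul_assoc, ← zpow_add]
          congr 2; omega
  · exfalso
    have h1 : (a ^ i * b)⁻¹ = a ^ i * b := inv_eq_of_mul_eq_one_left (h.refl_sq i)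
    rw [h1] at hc
    have h2 : t * (a ^ i * b) = a ^ i * b * t := by
      calc t * (a ^ i * b) = t * (a ^ i * b) * t⁻¹ * t := by group
        _ = _ := by rw [hc]
    rcases cent_of_odd h ht ho hi hd h2 with h3 | h3
    · exact h.refl_ne_one i h3
    · exact h.refl_ne_z i h3

/-- a rotation commuting with `a` only -/
theorem rot_of_comm (h : Dih D a b m) {d : G} (hd : d ∈ D) (hc : d * a = a * d) :
    ∃ i : ℤ, d = a ^ i := by
  rcases h.cases hd with ⟨i, rfl⟩ | ⟨i, rfl⟩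
  · exact ⟨i, rfl⟩
  · exfalso
    have h1 := h.conj_refl i 1
    rw [zpow_one, hc, zpow_neg, zpow_one] at h1
    have h2 : a * (a ^ i * b) * (a ^ i * b)⁻¹ = a := by group
    rw [h2] at h1
    have h3 := h.odd_sq (k := 1) (by decide)
    rw [zpow_one] at h3
    apply h3
    calc a * a = a⁻¹ * a := by rw [← h1]
      _ = 1 := by group

end one

section two

variable {D D' : Subgroup G} {a b a' b' : G} {m : ℕ}

/-- conjugation mapping one dihedral group into another maps rotations to rotations -/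
theorem conj_data (h : Dih D a b m) (h' : Dih D' a' b' m) {y : G}
    (hy : ∀ d ∈ D, y * d * y⁻¹ ∈ D') :
    ∃ l j : ℤ, Odd l ∧ y * a * y⁻¹ = a' ^ l ∧ y * b * y⁻¹ = a' ^ j * b' := by
  have haa : y * a * y⁻¹ * (y * a * y⁻¹) ≠ 1 := by
    intro h1
    have h2 : a * a = 1 := by
      calc a * a = y⁻¹ * (y * a * y⁻¹ * (y * a * y⁻¹)) * y := by group
        _ = 1 := by rw [h1]; group
    have h3 := h.odd_sq (k := 1) (by decide)
    rw [zpow_one] at h3
    exact h3 h2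
  obtain ⟨l, hl⟩ : ∃ l : ℤ, y * a * y⁻¹ = a' ^ l := by
    rcases h'.cases (hy a h.r_mem) with h1 | ⟨i, hi⟩
    · exact h1
    · exact absurd (by rw [hi]; exact h'.refl_sq i) haa
  have hlo : Odd l := by
    rw [← Int.not_even_iff_odd]
    rintro ⟨k, hk⟩
    apply h.z_ne_one
    have h1 : y * zz a m * y⁻¹ = 1 := by
      rw [zz, ← conj_pow, hl, hk, ← zpow_natCast, ← zpow_mul, h'.rpow_eq_one, h'.two_pow]
      exact ⟨k, by push_cast; ring⟩
    calc zz a m = y⁻¹ * (y * zz a m * y⁻¹) * y := by group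
      _ = 1 := by rw [h1]; group
  obtain ⟨j, hj⟩ : ∃ j : ℤ, y * b * y⁻¹ = a' ^ j * b' := by
    rcases h'.cases (hy b h.c_mem) with ⟨i, hi⟩ | h1
    · exfalso
      have h2 : a * b = b * a := by
        have h3 : (y * a * y⁻¹) * (y * b * y⁻¹) = (y * b * y⁻¹) * (y * a * y⁻¹) := by
          rw [hl, hi, ← zpow_add, ← zpow_add, add_comm]
        calc a * b = y⁻¹ * ((y * a * y⁻¹) * (y * b * y⁻¹)) * y := by group
          _ = b * a := by rw [h3]; group
      have h3 : a⁻¹ = a := by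
        rw [← h.crc]
        calc b * a * b = a * b * b := by rw [h2]
          _ = a := by rw [mul_assoc, h.cc, mul_one]
      have h4 := h.odd_sq (k := 1) (by decide)
      rw [zpow_one] at h4
      apply h4
      calc a * a = a⁻¹ * a := by rw [h3]
        _ = 1 := by group
    · exact h1
  exact ⟨l, j, hlo, hl, hj⟩

/-- transport of parity -/
theorem ev_conj_iff (h : Dih D a b m) (h' : Dih D' a' b' m) {y p : G}
    (hy : ∀ d ∈ D, y * d * y⁻¹ ∈ D') (hp : Act a b p) (hq : Act a' b' (y * p * y⁻¹)) :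
    Ev a' b' (y * p * y⁻¹) ↔ Ev a b p := by
  obtain ⟨l, j, hl, h1, h2⟩ := conj_data h h' hy
  obtain ⟨k, hk⟩ := hp.refl
  obtain ⟨k', hk'⟩ := hq.refl
  obtain ⟨j', hj', hj2⟩ := hq.exists_zpow j
  rw [ev_iff h hk, ev_iff h' hk']
  have e1 : (y * p * y⁻¹) * (a' ^ j * b') * (y * p * y⁻¹)⁻¹ = a' ^ (j' + k') * b' := by
    calc (y * p * y⁻¹) * (a' ^ j * b') * (y * p * y⁻¹)⁻¹
        = ((y * p * y⁻¹) * a' ^ j * (y * p * y⁻¹)⁻¹) * ((y * p * y⁻¹) * b' * (y * p * y⁻¹)⁻¹) := by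
          group
      _ = a' ^ (j' + k') * b' := by rw [hj2, hk', zpow_add, mul_assoc]
  have e2 : (y * p * y⁻¹) * (a' ^ j * b') * (y * p * y⁻¹)⁻¹ = a' ^ (l * k + j) * b' := by
    calc (y * p * y⁻¹) * (a' ^ j * b') * (y * p * y⁻¹)⁻¹ = y * (p * b * p⁻¹) * y⁻¹ := by
          rw [← h2]; group
      _ = (y * a ^ k * y⁻¹) * (y * b * y⁻¹) := by rw [hk]; group
      _ = a' ^ (l * k + j) * b' := by
        rw [← conj_zpow, h1, h2, ← zpow_mul, zpow_add, mul_assoc]
  rw [e1] at e2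
  have h3 := even_sub_of_eq' h' e2
  have h4 : Even (l * k) ↔ Even k := by
    rw [Int.even_mul]
    constructor
    · rintro (h5 | h5)
      · exact absurd h5 (Int.not_even_iff_odd.2 hl)
      · exact h5
    · exact Or.inr
  rw [Int.even_sub, Int.even_add, Int.even_add, h4] at h3
  rw [Int.even_sub] at hj'
  tauto

end two

end Cfsg.Agent.GH.L2.CaseIDih
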