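import Cfsg.Agent.GH.L2.CaseISitu
import Cfsg.Agent.GH.Q2.Rank

/-!
# GH-L2, Case I: from the entry (`P = C_S(x)`, `x ^ s = z`) to the structure of `S`
(sections 2.2 - 3 of blueprints/GH-L2-CaseI-helper153.md)
-/

set_option autoImplicit false

open Subgroup
open Cfsg.Agent.GH.L2One.DihD
open Cfsg.Agent.GH.L2.CaseIDih
open Cfsg.Agent.GH.L2.CaseISitu

namespace Cfsg.Agent.GH.L2.CaseIEntry

variable {G : Type*} [Group G]

/-! ### products of commuting subgroups -/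

/-- The product of two elementwise commuting subgroups. -/
def prodSub (A B : Subgroup G) (h : ∀ a ∈ A, ∀ b ∈ B, a * b = b * a) : Subgroup G where
  carrier := {g | ∃ a ∈ A, ∃ b ∈ B, g = a * b}
  one_mem' := ⟨1, one_mem _, 1, one_mem _, by simp⟩
  mul_mem' := by
    rintro _ _ ⟨a, ha, b, hb, rfl⟩ ⟨c, hc, d, hd, rfl⟩
    refine ⟨a * c, A.mul_mem ha hc, b * d, B.mul_mem hb hd, ?_⟩
    rw [mul_assoc, ← mul_assoc b, ← h c hc b hb]
    simp only [mul_assoc]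
  inv_mem' := by
    rintro _ ⟨a, ha, b, hb, rfl⟩
    refine ⟨a⁻¹, A.inv_mem ha, b⁻¹, B.inv_mem hb, ?_⟩
    rw [h a ha b hb, mul_inv_rev]

theorem card_prodSub_le [Finite G] {A B : Subgroup G} (h : ∀ a ∈ A, ∀ b ∈ B, a * b = b * a) :
    Nat.card (prodSub A B h) ≤ Nat.card A * Nat.card B := by
  rw [← Nat.card_prod]
  refine Nat.card_le_card_of_surjective
    (fun p : A × B => (⟨(p.1 : G) * p.2, p.1, p.1.2, p.2, p.2.2, rfl⟩ : prodSub A B h)) ?_
  rintro ⟨_, a, ha, b, hb, rfl⟩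
  exact ⟨(⟨a, ha⟩, ⟨b, hb⟩), rfl⟩

theorem le_card_prodSub [Finite G] {A B : Subgroup G} (h : ∀ a ∈ A, ∀ b ∈ B, a * b = b * a)
    (hd : ∀ a ∈ A, a ∈ B → a = 1) : Nat.card A * Nat.card B ≤ Nat.card (prodSub A B h) := by
  rw [← Nat.card_prod]
  refine Nat.card_le_card_of_injective
    (fun p : A × B => (⟨(p.1 : G) * p.2, p.1, p.1.2, p.2, p.2.2, rfl⟩ : prodSub A B h)) ?_
  rintro ⟨a, b⟩ ⟨c, d⟩ he
  have h1 : (a : G) * b = c * d := congrArg Subtype.val he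
  have h2 : (c : G)⁻¹ * a = d * (b : G)⁻¹ := by
    calc (c : G)⁻¹ * a = (c : G)⁻¹ * (a * b) * (b : G)⁻¹ := by group
      _ = d * (b : G)⁻¹ := by rw [h1]; group
  have h3 : (c : G)⁻¹ * a = 1 := hd _ (A.mul_mem (A.inv_mem c.2) a.2)
    (h2 ▸ B.mul_mem d.2 (B.inv_mem b.2))
  have h4 : (a : G) = c := (inv_mul_eq_one.1 h3).symm
  have h5 : (b : G) = d := by
    rw [h4] at h1
    exact mul_left_cancel h1
  exact Prod.ext (Subtype.ext h4) (Subtype.ext h5)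

theorem two_mul_card_le [Finite G] {A B : Subgroup G} (hAB : A ≤ B) {x : G} (hx : x ∈ B) (hxA : x ∉ A) :
    2 * Nat.card A ≤ Nat.card B := by
  have h1 : Nat.card A * A.relIndex B = Nat.card B := by
    have h := (A.subgroupOf B).card_mul_index
    rwa [Nat.card_congr (subgroupOfEquivOfLe hAB).toEquiv] at h
  have h2 : A.relIndex B ≠ 1 := by
    rw [Ne, relIndex_eq_one]
    exact fun h => hxA (h hx)
  have h3 : A.relIndex B ≠ 0 := index_ne_zero_of_finite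
  rw [← h1, mul_comm]
  exact Nat.mul_le_mul_left _ (by omega)

variable {D D₁ D₂ : Subgroup G} {a b a₁ b₁ a₂ b₂ : G} {m : ℕ}

theorem le_card_dih [Finite G] (h : Dih D a b m) : 2 ^ (m + 1) ≤ Nat.card D := by
  have h1 : zpowers a ≤ D := by rw [zpowers_le]; exact h.r_mem
  have h2 := two_mul_card_le h1 h.c_mem h.ncz
  rw [Nat.card_zpowers, h.ord] at h2
  rw [pow_succ, mul_comm]
  exact h2

theorem comm_gen (h₁ : Dih D₁ a₁ b₁ m) {t : G} (ha : t * a₁ = a₁ * t) (hb : t * b₁ = b₁ * t) :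
    ∀ d ∈ D₁, t * d = d * t := by
  intro d hd
  have ca : Commute t a₁ := ha
  have cb : Commute t b₁ := hb
  rcases h₁.cases hd with ⟨i, rfl⟩ | ⟨i, rfl⟩
  · exact (ca.zpow_right i).eq
  · exact ((ca.zpow_right i).mul_right cb).eq

theorem two_zpow (c : G) (i : ℤ) : c ^ (2 * i) = (c ^ 2) ^ i := by
  rw [zpow_mul]
  norm_cast

/-- **The rank argument (2.3).** -/
theorem cent_rank [Finite G] (hr : Cfsg.SectionalPRankLE 2 4 G) (h₁ : Dih D₁ a₁ b₁ m)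
    (h₂ : Dih D₂ a₂ b₂ m) (comm : ∀ d ∈ D₁, ∀ e ∈ D₂, d * e = e * d) (disj : ∀ d ∈ D₁, d ∈ D₂ → d = 1)
    {t : G} (ht1 : ∀ d ∈ D₁, t * d = d * t) (ht2 : ∀ d ∈ D₂, t * d = d * t)
    (htt : ∃ i j : ℤ, t * t = a₁ ^ (2 * i) * a₂ ^ (2 * j)) : InB D₁ D₂ t := by
  by_contra hcon
  have hN : ∀ a ∈ zpowers (a₁ ^ 2), ∀ b ∈ zpowers (a₂ ^ 2), a * b = b * a := by
    rintro _ ⟨i, rfl⟩ _ ⟨j, rfl⟩
    exact comm _ (D₁.zpow_mem (D₁.pow_mem h₁.r_mem _) _) _ (D₂.zpow_mem (D₂.pow_mem h₂.r_mem _) _)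
  set N : Subgroup G := prodSub (zpowers (a₁ ^ 2)) (zpowers (a₂ ^ 2)) hN with hNdef
  have memN : ∀ i j : ℤ, a₁ ^ (2 * i) * a₂ ^ (2 * j) ∈ N := by
    intro i j
    refine ⟨_, ⟨i, rfl⟩, _, ⟨j, rfl⟩, ?_⟩
    rw [two_zpow, two_zpow]
  have Nmem : ∀ g ∈ N, ∃ i j : ℤ, g = a₁ ^ (2 * i) * a₂ ^ (2 * j) := by
    rintro _ ⟨_, ⟨i, rfl⟩, _, ⟨j, rfl⟩, rfl⟩
    refine ⟨i, j, ?_⟩
    rw [two_zpow, two_zpow]
  set X : Set G := {a₁, b₁, a₂, b₂, t} with hX
  have hXa1 : a₁ ∈ closure X := subset_closure (by simp [hX])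
  have hXb1 : b₁ ∈ closure X := subset_closure (by simp [hX])
  have hXa2 : a₂ ∈ closure X := subset_closure (by simp [hX])
  have hXb2 : b₂ ∈ closure X := subset_closure (by simp [hX])
  have hXt : t ∈ closure X := subset_closure (by simp [hX])
  have hNX : N ≤ closure X := by
    intro g hg
    obtain ⟨i, j, rfl⟩ := Nmem g hg
    exact mul_mem (zpow_mem hXa1 _) (zpow_mem hXa2 _)
  have ca12 := comm a₁ h₁.r_mem a₂ h₂.r_mem
  have cab : a₁ * b₂ = b₂ * a₁ := comm a₁ h₁.r_mem b₂ h₂.c_mem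
  have cba : b₁ * a₂ = a₂ * b₁ := comm b₁ h₁.c_mem a₂ h₂.r_mem
  have cbb : b₁ * b₂ = b₂ * b₁ := comm b₁ h₁.c_mem b₂ h₂.c_mem
  have cta1 := ht1 a₁ h₁.r_mem
  have ctb1 := ht1 b₁ h₁.c_mem
  have cta2 := ht2 a₂ h₂.r_mem
  have ctb2 := ht2 b₂ h₂.c_mem
  have ba1 : b₁ * a₁ * b₁⁻¹ = a₁⁻¹ := by rw [h₁.c_inv]; exact h₁.crc
  have ba2 : b₂ * a₂ * b₂⁻¹ = a₂⁻¹ := by rw [h₂.c_inv]; exact h₂.crc
  have conjN : ∀ g : G, (g * a₁ * g⁻¹ = a₁ ∨ g * a₁ * g⁻¹ = a₁⁻¹) → (g * a₂ * g⁻¹ = a₂ ∨ g * a₂ * g⁻¹ = a₂⁻¹) →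
      ∀ n ∈ N, g * n * g⁻¹ ∈ N := by
    intro g hg1 hg2 n hn
    obtain ⟨i, j, rfl⟩ := Nmem n hn
    have e : g * (a₁ ^ (2 * i) * a₂ ^ (2 * j)) * g⁻¹ = (g * a₁ * g⁻¹) ^ (2 * i) * (g * a₂ * g⁻¹) ^ (2 * j) := by
      rw [conj_zpow, conj_zpow]; group
    rw [e]
    rcases hg1 with h1 | h1 <;> rcases hg2 with h2 | h2 <;> rw [h1, h2]
    · exact memN i j
    · rw [inv_zpow', show -(2 * j) = 2 * (-j) by ring]; exact memN _ _
    · rw [inv_zpow', show -(2 * i) = 2 * (-i) by ring]; exact memN _ _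
    · rw [inv_zpow', inv_zpow', show -(2 * i) = 2 * (-i) by ring, show -(2 * j) = 2 * (-j) by ring]
      exact memN _ _
  have fix_of : ∀ {g c : G}, g * c = c * g → g * c * g⁻¹ = c := by
    intro g c hgc
    rw [hgc]; group
  have sec := Cfsg.Agent.GH.Q2.elem_closure (T := X) (N := N) hNX (by
      intro g hg n hn
      change g * n * g⁻¹ ∈ N
      simp only [hX, Set.mem_insert_iff, Set.mem_singleton_iff] at hg
      rcases hg with rfl | rfl | rfl | rfl | rfl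
      · exact conjN _ (Or.inl (by group)) (Or.inl (fix_of ca12)) n hn
      · exact conjN _ (Or.inr ba1) (Or.inl (fix_of cba)) n hn
      · exact conjN _ (Or.inl (fix_of ca12.symm)) (Or.inl (by group)) n hn
      · exact conjN _ (Or.inl (fix_of cab.symm)) (Or.inr ba2) n hn
      · exact conjN _ (Or.inl (fix_of cta1)) (Or.inl (fix_of cta2)) n hn) (by
      have one : (1 : G) ∈ N := one_mem _
      have cm : ∀ {g c : G}, g * c = c * g → g * c * g⁻¹ * c⁻¹ ∈ N := by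
        intro g c hgc
        rw [fix_of hgc, mul_inv_cancel]; exact one
      have n1 : b₁ * a₁ * b₁⁻¹ * a₁⁻¹ ∈ N := by
        rw [ba1]
        have := memN (-1) 0
        have e : a₁ ^ (2 * (-1 : ℤ)) * a₂ ^ (2 * (0 : ℤ)) = a₁⁻¹ * a₁⁻¹ := by
          rw [mul_zero, zpow_zero, mul_one]; group
        rwa [e] at this
      have n2 : b₂ * a₂ * b₂⁻¹ * a₂⁻¹ ∈ N := by
        rw [ba2]
        have := memN 0 (-1)
        have e : a₁ ^ (2 * (0 : ℤ)) * a₂ ^ (2 * (-1 : ℤ)) = a₂⁻¹ * a₂⁻¹ := by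
          rw [mul_zero, zpow_zero, one_mul]; group
        rwa [e] at this
      have inv : ∀ {g c : G}, g * c * g⁻¹ * c⁻¹ ∈ N → c * g * c⁻¹ * g⁻¹ ∈ N := by
        intro g c hgc
        have e : c * g * c⁻¹ * g⁻¹ = (g * c * g⁻¹ * c⁻¹)⁻¹ := by group
        rw [e]; exact inv_mem hgc
      intro g hg c hc
      simp only [hX, Set.mem_insert_iff, Set.mem_singleton_iff] at hg hc
      rcases hg with rfl | rfl | rfl | rfl | rfl <;> rcases hc with rfl | rfl | rfl | rfl | rfl <;>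
        first
        | exact cm rfl
        | exact n1
        | exact inv n1
        | exact n2
        | exact inv n2
        | exact cm (by assumption)
        | exact inv (cm (by assumption))) (by
      intro g hg
      simp only [hX, Set.mem_insert_iff, Set.mem_singleton_iff] at hg
      rcases hg with rfl | rfl | rfl | rfl | rfl
      · have := memN 1 0
        have e : g ^ (2 * (1 : ℤ)) * a₂ ^ (2 * (0 : ℤ)) = g * g := by
          rw [mul_zero, zpow_zero, mul_one, mul_one, zpow_two]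
        rwa [e] at this
      · rw [h₁.cc]; exact one_mem _
      · have := memN 0 1
        have e : a₁ ^ (2 * (0 : ℤ)) * g ^ (2 * (1 : ℤ)) = g * g := by
          rw [mul_zero, zpow_zero, one_mul, mul_one, zpow_two]
        rwa [e] at this
      · rw [h₂.cc]; exact one_mem _
      · obtain ⟨i, j, hij⟩ := htt
        rw [hij]
        exact memN i j)
  have hcard := (Cfsg.Agent.TwoFusion.SectionalRank.sectionalPRankLE_iff (p := 2) (k := 4)).1 hr _ _ sec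
  -- lower bound
  have hB : prodSub D₁ D₂ comm ≤ closure X := by
    rintro _ ⟨d, hd, e, he, rfl⟩
    refine mul_mem ?_ ?_
    · rcases h₁.cases hd with ⟨i, rfl⟩ | ⟨i, rfl⟩
      · exact zpow_mem hXa1 _
      · exact mul_mem (zpow_mem hXa1 _) hXb1
    · rcases h₂.cases he with ⟨i, rfl⟩ | ⟨i, rfl⟩
      · exact zpow_mem hXa2 _
      · exact mul_mem (zpow_mem hXa2 _) hXb2
  have h3 := two_mul_card_le hB hXt (fun h => hcon h)
  have h4 := le_card_prodSub comm disj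
  have h5 := le_card_dih h₁
  have h6 := le_card_dih h₂
  have h7 := card_prodSub_le hN
  have o1 : Nat.card (zpowers (a₁ ^ 2)) = 2 ^ (m - 1) := by
    obtain ⟨l, hl⟩ : ∃ l, m = l + 1 := ⟨m - 1, by have := h₁.two_le; omega⟩
    rw [Nat.card_zpowers, orderOf_pow' a₁ (by norm_num), h₁.ord, hl, pow_succ]
    simp
  have o2 : Nat.card (zpowers (a₂ ^ 2)) = 2 ^ (m - 1) := by
    obtain ⟨l, hl⟩ : ∃ l, m = l + 1 := ⟨m - 1, by have := h₁.two_le; omega⟩
    rw [Nat.card_zpowers, orderOf_pow' a₂ (by norm_num), h₂.ord, hl, pow_succ]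
    simp
  rw [o1, o2] at h7
  have h8 : 2 ^ (m + 1) * 2 ^ (m + 1) ≤ Nat.card D₁ * Nat.card D₂ := Nat.mul_le_mul h5 h6
  have h9 : (2 : ℕ) ^ (m + 1) * 2 ^ (m + 1) = 16 * (2 ^ (m - 1) * 2 ^ (m - 1)) := by
    obtain ⟨l, hl⟩ : ∃ l, m = l + 1 := ⟨m - 1, by have := h₁.two_le; omega⟩
    rw [hl, Nat.add_sub_cancel]
    ring
  have h10 : 0 < (2 : ℕ) ^ (m - 1) * 2 ^ (m - 1) := by positivity
  rw [← hNdef] at h7
  omega

end Cfsg.Agent.GH.L2.CaseIEntry
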