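import Cfsg.Agent.GH.L2.CaseIRep
import Cfsg.Agent.GH.L2One.Bridge
import Cfsg.Agent.GH.L2One.DihD

/-!
# GH-L2, Case I: (K1)-(K4) on the frame of a 2-component (blueprints/GH-L2-CaseI-helper153.md, section 1)

`F : L2Frame.Frame H K T`, `Q = T ⊓ fix K`, `D = T ⊓ K`, `HasK (STop K)` (`K/O(K) = L₂(q)` or `A₇`).
`exists_facts`: coordinates `r, c` of `D` with `Facts K T d r c` = (K1)-(K4).
-/

set_option autoImplicit false
set_option linter.unusedSectionVars false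

open Cfsg Subgroup
open Cfsg.Agent.SignalizersComponents
open Cfsg.Agent.Intrinsic.Basic Cfsg.Agent.GH.Defs Cfsg.Agent.GH.Comp
open Cfsg.Agent.Walter.SylowIn Cfsg.Agent.GH.L2Frame
open Cfsg.Agent.GH.L2One

namespace Cfsg.Agent.GH.L2.CaseIFacts

open Cfsg.Agent.GH.L2.CaseIRep

variable {G : Type*} [Group G]

/-- `p ∈ Q D` -/
def InQD (K T : Subgroup G) (p : G) : Prop := ∃ q ∈ T ⊓ fix K, ∃ e ∈ T ⊓ K, p = q * e

/-- (K1)-(K4): `D = T ⊓ K = ⟨r, c⟩` of order `2^d`, `Q = T ⊓ fix K`. -/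
structure Facts (K T : Subgroup G) (d : ℕ) (r c : G) : Prop where
  dih : AutSwap.Dih (T ⊓ K) d r c
  sq_mem : ∀ p ∈ T, (∀ e ∈ T ⊓ K, p * e = e * p) → p * p ∈ T ⊓ fix K
  mul_mem : 3 ≤ d → ∀ p ∈ T, ∀ q ∈ T, (∀ e ∈ T ⊓ K, p * e = e * p) → (∀ e ∈ T ⊓ K, q * e = e * q) →
    ¬ InQD K T p → ¬ InQD K T q → InQD K T (p * q)
  pm : 3 ≤ d → ∀ p ∈ T, InQD K T (p * p) → p * r * p⁻¹ = r ∨ p * r * p⁻¹ = r⁻¹
  one : ∀ a ∈ T ⊓ K, ∀ b ∈ T ⊓ K, a * a = 1 → a ≠ 1 → b * b = 1 → b ≠ 1 →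
    ∃ k ∈ K, (∀ q ∈ T ⊓ fix K, k * q = q * k) ∧ k * a * k⁻¹ = b
  move : 3 ≤ d → ∀ b ∈ T, (∀ e ∈ T ⊓ K, b * e = e * b) → b * b = 1 → ¬ InQD K T b →
    ∃ k ∈ K, k * b = b * k ∧ k * r ^ (2 ^ (d - 2) : ℤ) * k⁻¹ ∈ T ⊓ K ∧
      k * r ^ (2 ^ (d - 2) : ℤ) * k⁻¹ ≠ r ^ (2 ^ (d - 2) : ℤ)

variable [Finite G]

/-- Lifting of a conjugation in `STop K` fixed by a 2-group `P`. -/
theorem lift_conj {K P : Subgroup G} (hodd : ¬ EvenCenter K) (hP : IsPGroup 2 P)
    (hPK : P ≤ normalizer (K : Set G)) {a b : G} (ha : a ∈ K) (hb : b ∈ K) (haa : a * a = 1)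
    (hbb : b * b = 1) (hPa : ∀ p ∈ P, p * a = a * p) (hPb : ∀ p ∈ P, p * b = b * p) {l : STop K}
    (hl : ∀ p (hp : p ∈ P), act K ⟨p, hPK hp⟩ l = l)
    (hlab : l * topMap K ⟨a, ha⟩ * l⁻¹ = topMap K ⟨b, hb⟩) :
    ∃ k ∈ K, (∀ p ∈ P, p * k = k * p) ∧ k * a * k⁻¹ = b := by
  obtain ⟨k, hk, hkl⟩ := exists_fixed hodd hP hPK hl
  have hu : (k : G) * a * (k : G)⁻¹ ∈ K := mul_mem (mul_mem k.2 ha) (inv_mem k.2)
  have hmem : (k : G) * a * (k : G)⁻¹ * b ∈ K := mul_mem hu hb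
  have huu : (k : G) * a * (k : G)⁻¹ * ((k : G) * a * (k : G)⁻¹) = 1 := by
    calc (k : G) * a * (k : G)⁻¹ * ((k : G) * a * (k : G)⁻¹) = k * (a * a) * (k : G)⁻¹ := by group
      _ = 1 := by rw [haa, mul_one, mul_inv_cancel]
  have hker : (⟨(k : G) * a * (k : G)⁻¹ * b, hmem⟩ : K) ∈ (topMap K).ker := by
    rw [MonoidHom.mem_ker]
    have e1 : (⟨(k : G) * a * (k : G)⁻¹ * b, hmem⟩ : K) = k * ⟨a, ha⟩ * k⁻¹ * ⟨b, hb⟩ := rfl
    have e3 : (⟨b, hb⟩ : K) * ⟨b, hb⟩ = 1 := Subtype.ext hbb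
    rw [e1, map_mul, map_mul, map_mul, map_inv, hkl, hlab, ← map_mul, e3, map_one]
  have hord : Odd (orderOf ((k : G) * a * (k : G)⁻¹ * b)) := by
    have h2 : orderOf (⟨⟨(k : G) * a * (k : G)⁻¹ * b, hmem⟩, hker⟩ : (topMap K).ker) ∣
        Nat.card (topMap K).ker := orderOf_dvd_natCard _
    rw [Subgroup.orderOf_mk, Subgroup.orderOf_mk] at h2
    exact (odd_card_ker hodd).of_dvd_nat h2
  obtain ⟨t, ht, h1⟩ := exists_conj_of_odd huu hbb hord
  have htK : t ∈ K := (zpowers_le.2 hmem) ht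
  have htP : ∀ p ∈ P, p * t = t * p := by
    intro p hp
    obtain ⟨n, rfl⟩ := mem_zpowers_iff.1 ht
    have h2 : Commute p (k : G) := hk p hp
    have h3 : Commute p a := hPa p hp
    have h4 : Commute p b := hPb p hp
    exact ((((h2.mul_right h3).mul_right h2.inv_right).mul_right h4).zpow_right n).eq
  refine ⟨t⁻¹ * k, mul_mem (inv_mem htK) k.2, ?_, ?_⟩
  · intro p hp
    have h2 : Commute p t := htP p hp
    have h3 : Commute p (k : G) := hk p hp
    exact (h2.inv_right.mul_right h3).eq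
  · calc t⁻¹ * k * a * (t⁻¹ * k)⁻¹ = t⁻¹ * (k * a * (k : G)⁻¹) * t := by group
      _ = t⁻¹ * (t * b * t⁻¹) * t := by rw [h1]
      _ = b := by group

section frame

variable {H K T : Subgroup G} (F : L2Frame.Frame H K T)

include F in
theorem rho_pow {t : G} (ht : t ∈ T) : ∃ n : ℕ, F.rho ⟨t, ht⟩ ^ 2 ^ n = 1 := by
  obtain ⟨n, hn'⟩ := F.exists_pow ht
  refine ⟨n, ?_⟩
  rw [← map_pow]
  have h1 : (⟨t, ht⟩ : T) ^ 2 ^ n = 1 := Subtype.ext hn'
  rw [h1, map_one]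

theorem rho_fix {t : G} (ht : t ∈ T) (h : ∀ e ∈ T ⊓ K, t * e = e * t) :
    ∀ s ∈ F.dTop.range, F.rho ⟨t, ht⟩ s = s := by
  rintro _ ⟨e, rfl⟩
  exact (F.comm_iff ⟨t, ht⟩ e).1 (h e e.2)

theorem rho_map {t : G} (ht : t ∈ T) : ∀ s ∈ F.dTop.range, F.rho ⟨t, ht⟩ s ∈ F.dTop.range := by
  rintro _ ⟨s, rfl⟩
  rw [F.rho_dTop]
  exact ⟨_, rfl⟩

theorem inQD_of_inner {t : G} (ht : t ∈ T) {l : STop K} (h : F.rho ⟨t, ht⟩ = MulAut.conj l) :
    InQD K T t := by
  obtain ⟨y, hy, a, h3, -⟩ := F.exists_mul h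
  exact ⟨y, hy, a, a.2, h3⟩

theorem inner_of_inQD {t : G} (ht : t ∈ T) (h : InQD K T t) :
    ∃ l, F.rho ⟨t, ht⟩ = MulAut.conj l := by
  obtain ⟨q, hq, e, he, rfl⟩ := h
  refine ⟨F.dTop ⟨e, he⟩, ?_⟩
  have h1 : (⟨q * e, ht⟩ : T) = ⟨q, hq.1⟩ * ⟨e, he.1⟩ := rfl
  rw [h1, map_mul, (F.rho_eq_one_iff ⟨q, hq.1⟩).2 hq.2, one_mul, ← F.rho_of_mem]

include F in
/-- **(K1)-(K4)** -/
theorem exists_facts (h : HasK (STop K)) : ∃ d r c, Facts K T d r c := by
  have : Fact (Nat.Prime 2) := ⟨Nat.prime_two⟩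
  obtain ⟨S, hS⟩ := F.exists_sylow
  obtain ⟨d, r, c, E⟩ := h S
  rw [hS] at E
  obtain ⟨r', hr'⟩ := E.dih.r_mem
  obtain ⟨c', hc'⟩ := E.dih.c_mem
  have hinj := F.dTop_injective
  refine ⟨d, r', c', ?_⟩
  have hact : ∀ {t : G} (ht : t ∈ T) (hn : t ∈ normalizer (K : Set G)),
      act K ⟨t, hn⟩ = F.rho ⟨t, ht⟩ := fun _ _ => rfl
  exact
    { dih :=
        { d_ge := E.dih.d_ge
          r_mem := r'.2
          c_mem := c'.2
          cc := by
            have h1 : c' * c' = 1 := hinj (by rw [map_mul, hc', E.dih.cc, map_one])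
            exact congrArg Subtype.val h1
          crc := by
            have h1 : c' * r' * c'⁻¹ = r'⁻¹ := hinj (by
              rw [map_mul, map_mul, map_inv, map_inv, hc', hr', E.dih.crc])
            exact congrArg Subtype.val h1
          or_eq := by
            rw [Subgroup.orderOf_coe, ← orderOf_injective F.dTop hinj, hr', E.dih.or_eq]
          c_not := by
            intro k h
            apply E.dih.c_not k
            have h1 : c' = r' ^ k := Subtype.ext h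
            rw [← hc', h1, map_zpow, hr']
          form := by
            intro g hg
            obtain ⟨k, hk | hk⟩ := E.dih.form (F.dTop ⟨g, hg⟩) ⟨_, rfl⟩
            · refine ⟨k, Or.inl ?_⟩
              have h1 : (⟨g, hg⟩ : ↥(T ⊓ K)) = r' ^ k := hinj (by rw [hk, map_zpow, hr'])
              exact congrArg Subtype.val h1
            · refine ⟨k, Or.inr ?_⟩
              have h1 : (⟨g, hg⟩ : ↥(T ⊓ K)) = r' ^ k * c' := hinj (by
                rw [hk, map_mul, map_zpow, hr', hc'])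
              exact congrArg Subtype.val h1 }
      sq_mem := by
        intro p hp h
        have h1 := E.sq _ (rho_pow F hp) (rho_fix F hp h)
        rw [← map_mul] at h1
        exact ⟨mul_mem hp hp, (F.rho_eq_one_iff _).1 h1⟩
      mul_mem := by
        intro hd p hp q hq h1 h2 h3 h4
        obtain ⟨l, hl⟩ := E.cen2 hd _ _ (rho_pow F hp) (rho_pow F hq) (rho_fix F hp h1)
          (rho_fix F hq h2) (fun l hl => h3 (inQD_of_inner F hp hl))
          (fun l hl => h4 (inQD_of_inner F hq hl))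
        rw [← map_mul] at hl
        exact inQD_of_inner F (mul_mem hp hq) hl
      pm := by
        intro hd p hp h1
        obtain ⟨l, hl⟩ := inner_of_inQD F (mul_mem hp hp) h1
        have h2 : F.rho ⟨p, hp⟩ * F.rho ⟨p, hp⟩ = MulAut.conj l := by rw [← hl, ← map_mul]; rfl
        have h3 := E.pm hd _ (rho_pow F hp) (rho_map F hp) ⟨l, h2⟩
        rw [← hr', F.rho_dTop, ← map_inv, hinj.eq_iff, hinj.eq_iff] at h3
        rcases h3 with h3 | h3
        · exact Or.inl (congrArg Subtype.val h3)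
        · exact Or.inr (congrArg Subtype.val h3)
      one := by
        intro a ha b hb haa ha1 hbb hb1
        have haa' : (⟨a, ha⟩ : ↥(T ⊓ K)) * ⟨a, ha⟩ = 1 := Subtype.ext haa
        have hbb' : (⟨b, hb⟩ : ↥(T ⊓ K)) * ⟨b, hb⟩ = 1 := Subtype.ext hbb
        obtain ⟨l, hl⟩ := E.inv_conj (F.dTop ⟨a, ha⟩) (F.dTop ⟨b, hb⟩)
          (by rw [← map_mul, haa', map_one])
          (fun h => ha1 (congrArg Subtype.val (hinj (h.trans (map_one _).symm))))
          (by rw [← map_mul, hbb', map_one])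
          (fun h => hb1 (congrArg Subtype.val (hinj (h.trans (map_one _).symm))))
        obtain ⟨k, hk, h1, h2⟩ := lift_conj (P := T ⊓ fix K) F.odd (F.two.to_le inf_le_left)
          (inf_le_left.trans F.norm) ha.2 hb.2 haa hbb (fun p hp => F.comm hp ha)
          (fun p hp => F.comm hp hb) (l := l) (by
            intro p hp
            rw [hact hp.1, (F.rho_eq_one_iff ⟨p, hp.1⟩).2 hp.2]
            rfl) hl
        exact ⟨k, hk, fun q hq => (h1 q hq).symm, h2⟩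
      move := by
        intro hd b hb h1 h2 h3
        have h4 : F.rho ⟨b, hb⟩ * F.rho ⟨b, hb⟩ = 1 := by
          rw [← map_mul]
          have h5 : (⟨b, hb⟩ : T) * ⟨b, hb⟩ = 1 := Subtype.ext h2
          rw [h5, map_one]
        obtain ⟨l, hl, hm, hn⟩ := E.move hd _ h4 (rho_fix F hb h1)
          (fun l hl => h3 (inQD_of_inner F hb hl))
        obtain ⟨v, hv⟩ := hm
        have hz : F.dTop (r' ^ (2 ^ (d - 2) : ℤ)) = r ^ (2 ^ (d - 2) : ℤ) := by rw [map_zpow, hr']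
        have hzz : r' ^ (2 ^ (d - 2) : ℤ) * r' ^ (2 ^ (d - 2) : ℤ) = 1 := hinj (by
          rw [map_mul, hz, E.dih.z_sq, map_one])
        have hvv : v * v = 1 := hinj (by
          rw [map_mul, hv, map_one]
          calc l * r ^ (2 ^ (d - 2) : ℤ) * l⁻¹ * (l * r ^ (2 ^ (d - 2) : ℤ) * l⁻¹) =
                l * (r ^ (2 ^ (d - 2) : ℤ) * r ^ (2 ^ (d - 2) : ℤ)) * l⁻¹ := by group
            _ = 1 := by rw [E.dih.z_sq, mul_one, mul_inv_cancel])
        have hbN : b ∈ normalizer (K : Set G) := F.norm hb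
        have hb2 : IsPGroup 2 (zpowers b) := F.two.to_le (zpowers_le.2 hb)
        have hcm : ∀ e ∈ T ⊓ K, ∀ p ∈ zpowers b, p * e = e * p := by
          intro e he p hp
          obtain ⟨n, rfl⟩ := mem_zpowers_iff.1 hp
          have h5 : Commute b e := h1 e he
          exact (h5.zpow_left n).eq
        obtain ⟨k, hk, h5, h6⟩ := lift_conj (P := zpowers b) F.odd hb2 (zpowers_le.2 hbN)
          (a := ((r' ^ (2 ^ (d - 2) : ℤ) : ↥(T ⊓ K)) : G)) (b := (v : G))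
          (r' ^ (2 ^ (d - 2) : ℤ)).2.2 v.2.2 (congrArg Subtype.val hzz) (congrArg Subtype.val hvv)
          (hcm _ (r' ^ (2 ^ (d - 2) : ℤ)).2) (hcm _ v.2) (l := l) (by
            rintro p hp
            obtain ⟨n, rfl⟩ := mem_zpowers_iff.1 hp
            have h5 : act K ⟨b ^ n, (zpowers_le.2 hbN) hp⟩ = (F.rho ⟨b, hb⟩) ^ n := by
              rw [← map_zpow]; rfl
            rw [h5]
            have h6 : F.rho ⟨b, hb⟩ ∈ MulAction.stabilizer (MulAut (STop K)) l := hl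
            exact (zpow_mem h6 n : _)) (by
            have h5 : topMap K ⟨((r' ^ (2 ^ (d - 2) : ℤ) : ↥(T ⊓ K)) : G),
              (r' ^ (2 ^ (d - 2) : ℤ)).2.2⟩ = r ^ (2 ^ (d - 2) : ℤ) := hz
            rw [h5, ← hv]
            rfl)
        have e1 : (r' : G) ^ (2 ^ (d - 2) : ℤ) = ((r' ^ (2 ^ (d - 2) : ℤ) : ↥(T ⊓ K)) : G) := by
          push_cast; rfl
        rw [e1]
        refine ⟨k, hk, (h5 b (mem_zpowers b)).symm, ?_, ?_⟩
        · rw [h6]; exact v.2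
        · rw [h6]
          intro h7
          apply hn
          have h8 : v = r' ^ (2 ^ (d - 2) : ℤ) := Subtype.ext h7
          rw [← hv, h8, hz] }

end frame

end Cfsg.Agent.GH.L2.CaseIFacts
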