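import Cfsg.Agent.GH.L2.CaseIKill

/-!
# GH-L2, case I: the element `g` (section 5A (A1), (A3) of blueprints/GH-L2-CaseI-helper153.md)
-/

set_option autoImplicit false

namespace Cfsg.Agent.GH.L2.CaseIG

open Subgroup Cfsg.Agent.GH.L2.CaseIBase Cfsg.Agent.GH.L2.CaseIKill

variable {G : Type*} [Group G]
variable {k : ℕ} {S P : Subgroup G} {a₁ b₁ a₂ b₂ s : G}

/-- `g` centralises `a₁`, `a₂`, `s` and maps `bᵢ` to `aᵢ ^ m bᵢ`, `m` odd. -/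
structure Alpha (P : Subgroup G) (a₁ b₁ a₂ b₂ s g : G) (m : ℤ) : Prop where
  gP : g ∈ P
  gs : Commute g s
  ga : Commute g a₁
  ga2 : Commute g a₂
  gb : g * b₁ * g⁻¹ = a₁ ^ m * b₁
  gb2 : g * b₂ * g⁻¹ = a₂ ^ m * b₂
  odd : Odd m

section
variable (h : Base k S P a₁ b₁ a₂ b₂ s)
include h

omit h in
theorem act_mul' {a b p q : G} {i j : ℤ} (hp : p * b * p⁻¹ = a ^ i * b) (hq : q * b * q⁻¹ = a ^ j * b)
    (hqa : q * a * q⁻¹ = a) : (q * p) * b * (q * p)⁻¹ = a ^ (i + j) * b := by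
  have e : (q * p) * b * (q * p)⁻¹ = (q * a * q⁻¹) ^ i * (q * b * q⁻¹) := by
    calc (q * p) * b * (q * p)⁻¹ = q * (p * b * p⁻¹) * q⁻¹ := by group
      _ = q * a ^ i * q⁻¹ * (q * b * q⁻¹) := by rw [hp]; group
      _ = _ := by rw [conj_zpow]
  rw [e, hqa, hq, zpow_add]
  group

/-- The elements of `P` centralising `a₁, b₁, a₂, b₂` are `1, x, z, e`. -/
theorem cen_xz {p : G} (hp : p ∈ P) (c1 : Commute p a₁) (c2 : Commute p b₁) (c3 : Commute p a₂)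
    (c4 : Commute p b₂) : ∃ i j : ℤ, p = a₁ ^ (i * 2 ^ k) * a₂ ^ (j * 2 ^ k) := by
  obtain ⟨i, j, hij⟩ := h.cen p hp c1 c2 c3 c4
  have hb1 : b₁ * p * b₁⁻¹ = p := by rw [c2.symm.eq]; group
  have hb2 : b₂ * p * b₂⁻¹ = p := by rw [c4.symm.eq]; group
  have e1 : b₁ * p * b₁⁻¹ = a₁ ^ (-i) * a₂ ^ j := by
    rw [hij]
    calc b₁ * (a₁ ^ i * a₂ ^ j) * b₁⁻¹ = (b₁ * a₁ ^ i * b₁⁻¹) * (b₁ * a₂ ^ j * b₁⁻¹) := by group
      _ = a₁ ^ (-i) * a₂ ^ j := by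
          rw [← conj_zpow, h.ba, (h.ba'.zpow_right j).eq, inv_zpow', mul_inv_cancel_right]
  have e2 : b₂ * p * b₂⁻¹ = a₁ ^ i * a₂ ^ (-j) := by
    rw [hij]
    calc b₂ * (a₁ ^ i * a₂ ^ j) * b₂⁻¹ = (b₂ * a₁ ^ i * b₂⁻¹) * (b₂ * a₂ ^ j * b₂⁻¹) := by group
      _ = a₁ ^ i * a₂ ^ (-j) := by
          rw [← conj_zpow (a := b₂) (b := a₂), h.ba2, (h.ab.symm.zpow_right i).eq, inv_zpow',
            mul_inv_cancel_right]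
  rw [hb1, hij] at e1
  rw [hb2, hij] at e2
  have f1 := h.pow_eq.1 (h.coord e1).1
  have f2 := h.pow_eq2.1 (h.coord e2).2
  have key : ∀ i : ℤ, (2 : ℤ) ^ (k + 1) ∣ i - -i → ∃ i', i = i' * 2 ^ k := by
    rintro i ⟨l, hl⟩
    refine ⟨l, ?_⟩
    apply mul_right_cancel₀ (two_ne_zero (α := ℤ))
    rw [show i * 2 = i - -i by ring, hl]
    ring
  obtain ⟨i', rfl⟩ := key i f1
  obtain ⟨j', rfl⟩ := key j f2
  exact ⟨i', j', hij⟩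

theorem s_conj_A (i j : ℤ) : s * (a₁ ^ i * a₂ ^ j) * s⁻¹ = a₁ ^ j * a₂ ^ i := by
  have e : s * (a₁ ^ i * a₂ ^ j) * s⁻¹ = (s * a₁ * s⁻¹) ^ i * (s * a₂ * s⁻¹) ^ j := by
    rw [conj_zpow, conj_zpow]; group
  rw [e, h.sa, h.sa', (h.aa.symm.zpow_zpow i j).eq]

/-- (A1) -/
theorem exists_alpha {g₀ : G} (hg : g₀ ∈ P) {i j : ℤ} (hi : g₀ * b₁ * g₀⁻¹ = a₁ ^ i * b₁)
    (hj : g₀ * b₂ * g₀⁻¹ = a₂ ^ j * b₂) (hio : Odd i) (hjo : Odd j) :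
    ∃ (g : G) (m : ℤ), Alpha P a₁ b₁ a₂ b₂ s g m := by
  have hb1a : b₁ * a₁ * b₁⁻¹ = a₁⁻¹ := h.ba
  have hb2a : b₂ * a₂ * b₂⁻¹ = a₂⁻¹ := h.ba2
  -- make `g` centralise `a₁`
  obtain ⟨g1, hg1P, hg1a, ⟨i1, hi1, hi1o⟩, ⟨j1, hj1, hj1o⟩⟩ : ∃ g ∈ P, g * a₁ * g⁻¹ = a₁ ∧
      (∃ i : ℤ, g * b₁ * g⁻¹ = a₁ ^ i * b₁ ∧ Odd i) ∧ (∃ j : ℤ, g * b₂ * g⁻¹ = a₂ ^ j * b₂ ∧ Odd j) := by
    rcases (h.act _ hg).1 with h1 | h1
    · exact ⟨g₀, hg, h1, ⟨i, hi, hio⟩, ⟨j, hj, hjo⟩⟩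
    · refine ⟨g₀ * b₁, P.mul_mem hg h.bP, ?_, ⟨i, ?_, hio⟩, ⟨j, ?_, hjo⟩⟩
      · calc g₀ * b₁ * a₁ * (g₀ * b₁)⁻¹ = g₀ * (b₁ * a₁ * b₁⁻¹) * g₀⁻¹ := by group
          _ = (g₀ * a₁ * g₀⁻¹)⁻¹ := by rw [hb1a, conj_inv]
          _ = a₁ := by rw [h1, inv_inv]
      · rw [← hi]; group
      · rw [← hj]
        calc g₀ * b₁ * b₂ * (g₀ * b₁)⁻¹ = g₀ * (b₁ * b₂ * b₁⁻¹) * g₀⁻¹ := by group
          _ = _ := by rw [h.bc.eq, mul_inv_cancel_right]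
  -- make `g` centralise `a₂`
  obtain ⟨g2, hg2P, hg2a, hg2a2, ⟨i2, hi2, hi2o⟩, ⟨j2, hj2, hj2o⟩⟩ : ∃ g ∈ P, g * a₁ * g⁻¹ = a₁ ∧
      g * a₂ * g⁻¹ = a₂ ∧
      (∃ i : ℤ, g * b₁ * g⁻¹ = a₁ ^ i * b₁ ∧ Odd i) ∧ (∃ j : ℤ, g * b₂ * g⁻¹ = a₂ ^ j * b₂ ∧ Odd j) := by
    rcases (h.act2 hg1P).1 with h1 | h1
    · exact ⟨g1, hg1P, hg1a, h1, ⟨i1, hi1, hi1o⟩, ⟨j1, hj1, hj1o⟩⟩
    · refine ⟨g1 * b₂, P.mul_mem hg1P h.bP2, ?_, ?_, ⟨i1, ?_, hi1o⟩, ⟨j1, ?_, hj1o⟩⟩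
      · calc g1 * b₂ * a₁ * (g1 * b₂)⁻¹ = g1 * (b₂ * a₁ * b₂⁻¹) * g1⁻¹ := by group
          _ = a₁ := by rw [h.ab.symm.eq, mul_inv_cancel_right, hg1a]
      · calc g1 * b₂ * a₂ * (g1 * b₂)⁻¹ = g1 * (b₂ * a₂ * b₂⁻¹) * g1⁻¹ := by group
          _ = (g1 * a₂ * g1⁻¹)⁻¹ := by rw [hb2a, conj_inv]
          _ = a₂ := by rw [h1, inv_inv]
      · rw [← hi1]
        calc g1 * b₂ * b₁ * (g1 * b₂)⁻¹ = g1 * (b₂ * b₁ * b₂⁻¹) * g1⁻¹ := by group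
          _ = _ := by rw [h.bc.symm.eq, mul_inv_cancel_right]
      · rw [← hj1]; group
  -- equal exponents
  obtain ⟨g3, hg3P, hg3a, hg3a2, m, hi3, hj3, hm⟩ : ∃ g ∈ P, g * a₁ * g⁻¹ = a₁ ∧ g * a₂ * g⁻¹ = a₂ ∧
      ∃ m : ℤ, g * b₁ * g⁻¹ = a₁ ^ m * b₁ ∧ g * b₂ * g⁻¹ = a₂ ^ m * b₂ ∧ Odd m := by
    obtain ⟨l, hl⟩ : ∃ l : ℤ, i2 = j2 + 2 * l := by
      obtain ⟨i', hi'⟩ := hi2o
      obtain ⟨j', hj'⟩ := hj2o
      exact ⟨i' - j', by omega⟩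
    have c12 : ∀ l : ℤ, a₂ ^ l * a₁ * (a₂ ^ l)⁻¹ = a₁ := by
      intro l
      rw [(h.aa.symm.zpow_left l).eq, mul_inv_cancel_right]
    have c12b : ∀ l : ℤ, a₂ ^ l * b₁ * (a₂ ^ l)⁻¹ = b₁ := by
      intro l
      rw [(h.ba'.symm.zpow_left l).eq, mul_inv_cancel_right]
    have c22 : ∀ l : ℤ, a₂ ^ l * b₂ * (a₂ ^ l)⁻¹ = a₂ ^ (2 * l) * b₂ := by
      intro l
      have h1 : b₂ * (a₂ ^ l)⁻¹ = a₂ ^ l * b₂ := by
        have h2 := conj_zpow (a := b₂) (b := a₂) (i := -l)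
        rw [hb2a, inv_zpow', neg_neg] at h2
        rw [← zpow_neg]
        exact (mul_inv_eq_iff_eq_mul.mp h2.symm)
      rw [mul_assoc, h1, ← mul_assoc, ← zpow_add, two_mul]
    refine ⟨a₂ ^ l * g2, P.mul_mem (P.zpow_mem h.aP2 _) hg2P, ?_, ?_, i2, ?_, ?_, hi2o⟩
    · calc a₂ ^ l * g2 * a₁ * (a₂ ^ l * g2)⁻¹ = a₂ ^ l * (g2 * a₁ * g2⁻¹) * (a₂ ^ l)⁻¹ := by group
        _ = a₁ := by rw [hg2a, c12]
    · calc a₂ ^ l * g2 * a₂ * (a₂ ^ l * g2)⁻¹ = a₂ ^ l * (g2 * a₂ * g2⁻¹) * (a₂ ^ l)⁻¹ := by group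
        _ = a₂ := by rw [hg2a2]; group
    · calc a₂ ^ l * g2 * b₁ * (a₂ ^ l * g2)⁻¹ = a₂ ^ l * (g2 * b₁ * g2⁻¹) * (a₂ ^ l)⁻¹ := by group
        _ = (a₂ ^ l * a₁ ^ i2) * b₁ * (a₂ ^ l)⁻¹ := by rw [hi2]; group
        _ = a₁ ^ i2 * (a₂ ^ l * b₁ * (a₂ ^ l)⁻¹) := by rw [(h.aa.symm.zpow_zpow l i2).eq]; group
        _ = _ := by rw [c12b]
    · calc a₂ ^ l * g2 * b₂ * (a₂ ^ l * g2)⁻¹ = a₂ ^ l * (g2 * b₂ * g2⁻¹) * (a₂ ^ l)⁻¹ := by group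
        _ = a₂ ^ j2 * (a₂ ^ l * b₂ * (a₂ ^ l)⁻¹) := by rw [hj2]; group
        _ = a₂ ^ i2 * b₂ := by rw [c22, ← mul_assoc, ← zpow_add, hl]
  -- `g ^ s = g η`
  have hgs : ∀ u : G, s * g3 * s⁻¹ * (s * u * s⁻¹) * (s * g3 * s⁻¹)⁻¹ = s * (g3 * u * g3⁻¹) * s⁻¹ := by
    intro u; group
  set r : G := g3⁻¹ * (s * g3 * s⁻¹) with hr
  have hrP : r ∈ P := P.mul_mem (P.inv_mem hg3P) (h.nrm s h.sS _ hg3P)
  have hru : ∀ u w : G, g3 * u * g3⁻¹ = w → s * g3 * s⁻¹ * u * (s * g3 * s⁻¹)⁻¹ = w → Commute r u := by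
    intro u w h1 h2
    have h3 : r * u * r⁻¹ = u := by
      calc r * u * r⁻¹ = g3⁻¹ * (s * g3 * s⁻¹ * u * (s * g3 * s⁻¹)⁻¹) * g3 := by rw [hr]; group
        _ = g3⁻¹ * (g3 * u * g3⁻¹) * g3 := by rw [h2, h1]
        _ = u := by group
    exact mul_inv_eq_iff_eq_mul.mp h3
  obtain ⟨u, v, huv⟩ := cen_xz h hrP
    (hru _ _ hg3a (by have := hgs a₂; rwa [h.sa', hg3a2, h.sa'] at this))
    (hru _ _ hi3 (by
      have := hgs b₂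
      rw [h.sb', hj3] at this
      rw [this]
      calc s * (a₂ ^ m * b₂) * s⁻¹ = (s * a₂ ^ m * s⁻¹) * (s * b₂ * s⁻¹) := by group
        _ = _ := by rw [← conj_zpow, h.sa', h.sb']))
    (hru _ _ hg3a2 (by have := hgs a₁; rwa [h.sa, hg3a, h.sa] at this))
    (hru _ _ hj3 (by
      have := hgs b₁
      rw [h.sb, hi3] at this
      rw [this]
      calc s * (a₁ ^ m * b₁) * s⁻¹ = (s * a₁ ^ m * s⁻¹) * (s * b₁ * s⁻¹) := by group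
        _ = _ := by rw [← conj_zpow, h.sa, h.sb]))
  have hsg : s * g3 * s⁻¹ = g3 * r := by rw [hr]; group
  -- `r` is fixed by `s`
  have hrs : s * r * s⁻¹ = r := by
    have h1 : s * (g3 * r) * s⁻¹ = g3 := by
      rw [← hsg, h.s_inv]
      calc s * (s * g3 * s) * s = (s * s) * g3 * (s * s) := by group
        _ = g3 := by rw [h.ss]; group
    have h2 : s * (g3 * r) * s⁻¹ = g3 * r * (s * r * s⁻¹) := by
      calc s * (g3 * r) * s⁻¹ = (s * g3 * s⁻¹) * (s * r * s⁻¹) := by group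
        _ = _ := by rw [hsg]
    rw [h2] at h1
    have h3 : r * (s * r * s⁻¹) = 1 := by
      have h4 : g3 * (r * (s * r * s⁻¹)) = g3 * 1 := by rw [← mul_assoc, h1, mul_one]
      exact mul_left_cancel h4
    have h4 : r * r = 1 := by
      rw [huv]
      have := pow_A h (i := u * 2 ^ k) (j := v * 2 ^ k) 2
      rw [pow_two] at this
      rw [this]
      push_cast
      rw [show u * 2 ^ k * 2 = (2 * u) * 2 ^ k by ring, show v * 2 ^ k * 2 = (2 * v) * 2 ^ k by ring,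
        (xe h ⟨u, by ring⟩).1, (xe h ⟨v, by ring⟩).2, one_mul]
    have h5 : s * r * s⁻¹ = r⁻¹ := eq_inv_of_mul_eq_one_right h3
    rw [h5]
    exact (eq_inv_of_mul_eq_one_left h4).symm
  have huv2 : a₁ ^ (v * 2 ^ k) = a₁ ^ (u * 2 ^ k) := by
    rw [huv, s_conj_A h] at hrs
    exact (h.coord hrs).1
  have hxr : r = 1 ∨ r = a₁ ^ 2 ^ k * a₂ ^ 2 ^ k := by
    have hz : a₂ ^ (v * 2 ^ k) = a₂ ^ (u * 2 ^ k) := by
      rw [h.pow_eq2]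
      exact h.pow_eq.1 huv2
    rw [hz] at huv
    rcases Int.even_or_odd u with hu | hu
    · left
      rw [huv, (xe h hu).1, (xe h hu).2, one_mul]
    · right
      rw [huv, (xo h hu).1, (xo h hu).2]
  have cA : ∀ c : G, Commute g3 c → g3 * c = c * g3 := fun c hc => hc.eq
  have ca1 : Commute g3 a₁ := mul_inv_eq_iff_eq_mul.mp hg3a
  have ca2 : Commute g3 a₂ := mul_inv_eq_iff_eq_mul.mp hg3a2
  rcases hxr with hr1 | hr1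
  · refine ⟨g3, m, hg3P, ?_, ca1, ca2, hi3, hj3, hm⟩
    rw [hr1, mul_one] at hsg
    exact (mul_inv_eq_iff_eq_mul.mp hsg).symm
  · -- replace `g` by `g z`
    have hzP : a₂ ^ 2 ^ k ∈ P := P.pow_mem h.aP2 _
    have hza : Commute (a₂ ^ 2 ^ k) a₁ := h.aa.symm.pow_left _
    have hzb : Commute (a₂ ^ 2 ^ k) b₁ := h.ba'.symm.pow_left _
    have hzb2 : Commute (a₂ ^ 2 ^ k) b₂ := by
      have h1 : b₂ * a₂ ^ 2 ^ k * b₂⁻¹ = a₂ ^ 2 ^ k := by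
        rw [← conj_pow, hb2a, inv_pow]
        exact (eq_inv_of_mul_eq_one_left (z_sq h)).symm
      exact (mul_inv_eq_iff_eq_mul.mp h1).symm
    have hcc : ∀ u w : G, g3 * u * g3⁻¹ = w → Commute (a₂ ^ 2 ^ k) u →
        g3 * a₂ ^ 2 ^ k * u * (g3 * a₂ ^ 2 ^ k)⁻¹ = w := by
      intro u w h1 h2
      calc g3 * a₂ ^ 2 ^ k * u * (g3 * a₂ ^ 2 ^ k)⁻¹
          = g3 * (a₂ ^ 2 ^ k * u * (a₂ ^ 2 ^ k)⁻¹) * g3⁻¹ := by
            simp only [mul_assoc, mul_inv_rev]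
        _ = w := by rw [h2.eq, mul_inv_cancel_right, h1]
    refine ⟨g3 * a₂ ^ 2 ^ k, m, P.mul_mem hg3P hzP, ?_, ca1.mul_left hza,
      ca2.mul_left (Commute.pow_self _ _), hcc _ _ hi3 hzb, hcc _ _ hj3 hzb2, hm⟩
    have h1 : s * (g3 * a₂ ^ 2 ^ k) * s⁻¹ = g3 * a₂ ^ 2 ^ k := by
      have e1 : s * (g3 * a₂ ^ 2 ^ k) * s⁻¹ = (s * g3 * s⁻¹) * (s * a₂ ^ 2 ^ k * s⁻¹) := by
        simp only [mul_assoc, inv_mul_cancel_left]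
      rw [e1, hsg, hr1, ← conj_pow, h.sa']
      have c : Commute (a₁ ^ 2 ^ k) (a₂ ^ 2 ^ k) := h.aa.pow_pow _ _
      calc g3 * (a₁ ^ 2 ^ k * a₂ ^ 2 ^ k) * a₁ ^ 2 ^ k
          = g3 * (a₂ ^ 2 ^ k * (a₁ ^ 2 ^ k * a₁ ^ 2 ^ k)) := by rw [c.eq]; simp only [mul_assoc]
        _ = _ := by rw [x_sq h, mul_one]
    exact (mul_inv_eq_iff_eq_mul.mp h1).symm

theorem Alpha.sq {g : G} {m : ℤ} (ha : Alpha P a₁ b₁ a₂ b₂ s g m) :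
    ∃ l : ℤ, g * g = a₁ ^ l * a₂ ^ l ∧ Odd l := by
  have hggP : g * g ∈ P := P.mul_mem ha.gP ha.gP
  have hga : g * a₁ * g⁻¹ = a₁ := by rw [ha.ga.eq, mul_inv_cancel_right]
  have hga2 : g * a₂ * g⁻¹ = a₂ := by rw [ha.ga2.eq, mul_inv_cancel_right]
  have h1 := act_mul' ha.gb ha.gb hga
  have h2 := act_mul' ha.gb2 ha.gb2 hga2
  -- `q = g g a₁ ^ (-m) a₂ ^ (-m)` centralises everything
  set q : G := a₁ ^ (-m) * (a₂ ^ (-m) * (g * g)) with hq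
  have hqP : q ∈ P := P.mul_mem (P.zpow_mem h.aP _) (P.mul_mem (P.zpow_mem h.aP2 _) hggP)
  have inv1 : ∀ l : ℤ, b₁ * (a₁ ^ l)⁻¹ = a₁ ^ l * b₁ := by
    intro l
    have h2 := conj_zpow (a := b₁) (b := a₁) (i := -l)
    rw [h.ba, inv_zpow', neg_neg] at h2
    rw [← zpow_neg]
    exact (mul_inv_eq_iff_eq_mul.mp h2.symm)
  have inv2 : ∀ l : ℤ, b₂ * (a₂ ^ l)⁻¹ = a₂ ^ l * b₂ := by
    intro l
    have h2 := conj_zpow (a := b₂) (b := a₂) (i := -l)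
    rw [h.ba2, inv_zpow', neg_neg] at h2
    rw [← zpow_neg]
    exact (mul_inv_eq_iff_eq_mul.mp h2.symm)
  have cq1 : Commute q a₁ := by
    refine (Commute.zpow_self _ _).mul_left ((h.aa.symm.zpow_left _).mul_left (ha.ga.mul_left ha.ga))
  have cq2 : Commute q a₂ := by
    refine (h.aa.zpow_left _).mul_left ((Commute.zpow_self _ _).mul_left (ha.ga2.mul_left ha.ga2))
  have cq3 : Commute q b₁ := by
    have e : q * b₁ * q⁻¹ = b₁ := by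
      calc q * b₁ * q⁻¹ = a₁ ^ (-m) * (a₂ ^ (-m) * ((g * g) * b₁ * (g * g)⁻¹) * (a₂ ^ (-m))⁻¹) *
            (a₁ ^ (-m))⁻¹ := by rw [hq]; simp only [mul_assoc, mul_inv_rev]
        _ = a₁ ^ (-m) * ((a₂ ^ (-m) * a₁ ^ (m + m)) * b₁ * (a₂ ^ (-m))⁻¹) * (a₁ ^ (-m))⁻¹ := by
            rw [h1]; simp only [mul_assoc]
        _ = a₁ ^ (-m) * (a₁ ^ (m + m) * (a₂ ^ (-m) * b₁ * (a₂ ^ (-m))⁻¹)) * (a₁ ^ (-m))⁻¹ := by
            rw [(h.aa.symm.zpow_zpow (-m) (m + m)).eq]; simp only [mul_assoc]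
        _ = a₁ ^ (-m) * (a₁ ^ (m + m) * b₁) * (a₁ ^ (-m))⁻¹ := by
            rw [(h.ba'.symm.zpow_left (-m)).eq, mul_inv_cancel_right]
        _ = (a₁ ^ (-m) * a₁ ^ (m + m)) * (b₁ * (a₁ ^ (-m))⁻¹) := by simp only [mul_assoc]
        _ = b₁ := by rw [inv1, ← zpow_add, ← mul_assoc, ← zpow_add]; simp
    exact mul_inv_eq_iff_eq_mul.mp e
  have cq4 : Commute q b₂ := by
    have e : q * b₂ * q⁻¹ = b₂ := by
      calc q * b₂ * q⁻¹ = a₁ ^ (-m) * (a₂ ^ (-m) * ((g * g) * b₂ * (g * g)⁻¹) * (a₂ ^ (-m))⁻¹) *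
            (a₁ ^ (-m))⁻¹ := by rw [hq]; simp only [mul_assoc, mul_inv_rev]
        _ = a₁ ^ (-m) * ((a₂ ^ (-m) * a₂ ^ (m + m)) * (b₂ * (a₂ ^ (-m))⁻¹)) * (a₁ ^ (-m))⁻¹ := by
            rw [h2]; simp only [mul_assoc]
        _ = a₁ ^ (-m) * b₂ * (a₁ ^ (-m))⁻¹ := by
            rw [inv2, ← zpow_add, ← mul_assoc (a₂ ^ _), ← zpow_add]; simp
        _ = b₂ := by rw [(h.ab.zpow_left (-m)).eq, mul_inv_cancel_right]
    exact mul_inv_eq_iff_eq_mul.mp e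
  obtain ⟨u, v, huv⟩ := cen_xz h hqP cq1 cq3 cq2 cq4
  have hgg : g * g = a₁ ^ (m + u * 2 ^ k) * a₂ ^ (m + v * 2 ^ k) := by
    have e1 : g * g = a₂ ^ m * (a₁ ^ m * q) := by
      rw [hq, ← mul_assoc (a₁ ^ m), ← zpow_add, add_neg_cancel, zpow_zero, one_mul, ← mul_assoc,
        ← zpow_add, add_neg_cancel, zpow_zero, one_mul]
    rw [e1, huv, zpow_add, zpow_add]
    calc a₂ ^ m * (a₁ ^ m * (a₁ ^ (u * 2 ^ k) * a₂ ^ (v * 2 ^ k)))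
        = (a₂ ^ m * (a₁ ^ m * a₁ ^ (u * 2 ^ k))) * a₂ ^ (v * 2 ^ k) := by simp only [mul_assoc]
      _ = ((a₁ ^ m * a₁ ^ (u * 2 ^ k)) * a₂ ^ m) * a₂ ^ (v * 2 ^ k) := by
          rw [← zpow_add, (h.aa.symm.zpow_zpow m _).eq]
      _ = _ := by simp only [mul_assoc]
  have hs := s_conj_A h (m + u * 2 ^ k) (m + v * 2 ^ k)
  have hs2 : s * (g * g) * s⁻¹ = g * g := by
    have c := (ha.gs.mul_left ha.gs).symm.eq
    rw [c, mul_inv_cancel_right]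
  rw [← hgg, hs2, hgg] at hs
  have hc := (h.coord hs).2
  refine ⟨m + u * 2 ^ k, ?_, ?_⟩
  · rw [hgg, hc]
  · obtain ⟨n, hn⟩ : ∃ n, k = n + 1 := ⟨k - 1, by have := h.hk; omega⟩
    refine ha.odd.add_even ?_
    rw [hn, pow_succ]
    exact ⟨u * 2 ^ n, by ring⟩

/-- The data needed by `kill`. -/
theorem Alpha.data {g : G} {m : ℤ} (ha : Alpha P a₁ b₁ a₂ b₂ s g m) :
    g ^ 2 ^ (k + 1) = a₁ ^ 2 ^ k * a₂ ^ 2 ^ k ∧ b₁ * b₂ * (g * g) * (b₁ * b₂)⁻¹ = (g * g)⁻¹ := by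
  obtain ⟨l, hl, hlo⟩ := ha.sq h
  constructor
  · rw [show (2 : ℕ) ^ (k + 1) = 2 * 2 ^ k by ring, pow_mul, pow_two, hl, pow_A h]
    push_cast
    rw [(xo h hlo).1, (xo h hlo).2]
  · rw [hl]
    calc b₁ * b₂ * (a₁ ^ l * a₂ ^ l) * (b₁ * b₂)⁻¹
        = (b₁ * (b₂ * a₁ ^ l * b₂⁻¹) * b₁⁻¹) * (b₁ * (b₂ * a₂ ^ l * b₂⁻¹) * b₁⁻¹) := by group
      _ = (a₁⁻¹) ^ l * (a₂⁻¹) ^ l := by
          rw [(h.ab.symm.zpow_right l).eq, mul_inv_cancel_right, ← conj_zpow, h.ba,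
            ← conj_zpow (a := b₂), h.ba2, (h.ba'.inv_right.zpow_right l).eq, mul_inv_cancel_right]
      _ = (a₁ ^ l * a₂ ^ l)⁻¹ := by
          rw [(h.aa.zpow_zpow l l).eq, mul_inv_rev, inv_zpow, inv_zpow]

/-- The second class of involutions of `S - P`. -/
theorem Alpha.base {g : G} {m : ℤ} (ha : Alpha P a₁ b₁ a₂ b₂ s g m) {l : ℤ}
    (hl : g * g = a₁ ^ l * a₂ ^ l) :
    Base k S P a₁ b₁ a₂ (a₂ ^ m * b₂) (s * g * a₂ ^ (-l)) where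
  hk := h.hk
  PS := h.PS
  cov := by
    intro w hw
    rcases h.cov w hw with h1 | h1
    · exact Or.inl h1
    · right
      have e : s * g * a₂ ^ (-l) * w = (s * (g * a₂ ^ (-l)) * s⁻¹) * (s * w) := by group
      rw [e]
      exact P.mul_mem (h.nrm s h.sS _ (P.mul_mem ha.gP (P.zpow_mem h.aP2 _))) h1
  nrm := h.nrm
  sS := S.mul_mem (S.mul_mem h.sS (h.PS ha.gP)) (h.PS (P.zpow_mem h.aP2 _))
  sP := by
    intro hc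
    apply h.sP
    have h1 := P.mul_mem hc (P.inv_mem (P.mul_mem ha.gP (P.zpow_mem h.aP2 (-l))))
    have e : s * g * a₂ ^ (-l) * (g * a₂ ^ (-l))⁻¹ = s := by group
    rwa [e] at h1
  ss := by
    have e : s * g * a₂ ^ (-l) * (s * g * a₂ ^ (-l)) = (s * s) * ((s⁻¹ * (g * a₂ ^ (-l)) * s) * (g * a₂ ^ (-l))) := by
      group
    rw [e, h.ss, one_mul, h.s_inv]
    have e2 : s * (g * a₂ ^ (-l)) * s = g * a₁ ^ (-l) := by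
      calc s * (g * a₂ ^ (-l)) * s = (s * g) * a₂ ^ (-l) * s := by group
        _ = g * (s * a₂ ^ (-l) * s⁻¹) := by rw [ha.gs.symm.eq, h.s_inv]; simp only [mul_assoc]
        _ = g * a₁ ^ (-l) := by rw [← conj_zpow, h.sa']
    rw [e2]
    calc g * a₁ ^ (-l) * (g * a₂ ^ (-l)) = g * (a₁ ^ (-l) * g) * a₂ ^ (-l) := by simp only [mul_assoc]
      _ = g * (g * a₁ ^ (-l)) * a₂ ^ (-l) := by rw [(ha.ga.zpow_right (-l)).eq]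
      _ = (g * g) * (a₁ ^ (-l) * a₂ ^ (-l)) := by simp only [mul_assoc]
      _ = 1 := by
        rw [hl, (h.aa.zpow_zpow l l).eq, mul_assoc, ← mul_assoc (a₁ ^ l), ← zpow_add, ← zpow_zero a₁]
        simp
  aP := h.aP
  bP := h.bP
  sa := by
    calc s * g * a₂ ^ (-l) * a₁ * (s * g * a₂ ^ (-l))⁻¹
        = s * (g * (a₂ ^ (-l) * a₁ * (a₂ ^ (-l))⁻¹) * g⁻¹) * s⁻¹ := by simp only [mul_assoc, mul_inv_rev]
      _ = a₂ := by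
          rw [(h.aa.symm.zpow_left (-l)).eq, mul_inv_cancel_right, ha.ga.eq, mul_inv_cancel_right, h.sa]
  sb := by
    calc s * g * a₂ ^ (-l) * b₁ * (s * g * a₂ ^ (-l))⁻¹
        = s * (g * (a₂ ^ (-l) * b₁ * (a₂ ^ (-l))⁻¹) * g⁻¹) * s⁻¹ := by simp only [mul_assoc, mul_inv_rev]
      _ = s * (a₁ ^ m * b₁) * s⁻¹ := by
          rw [(h.ba'.symm.zpow_left (-l)).eq, mul_inv_cancel_right, ha.gb]
      _ = (s * a₁ ^ m * s⁻¹) * (s * b₁ * s⁻¹) := by group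
      _ = _ := by rw [← conj_zpow, h.sa, h.sb]
  oa := h.oa
  bb := h.bb
  ba := h.ba
  aa := h.aa
  ab := (h.aa.zpow_right m).mul_right h.ab
  bc := (h.ba'.zpow_right m).mul_right h.bc
  dir := h.dir
  act := h.act
  cen := by
    intro p hp c1 c2 c3 c4
    refine h.cen p hp c1 c2 c3 ?_
    have e : b₂ = (a₂ ^ m)⁻¹ * (a₂ ^ m * b₂) := by group
    rw [e]
    exact ((c3.zpow_right m).inv_right).mul_right c4

/-- **Section 5A.** `P` has an element acting as a noninner automorphism on both dihedral groups: impossible. -/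
theorem false_of_odd [Finite G] (T : Sylow 2 G) (hT : (T : Subgroup G) = S)
    (hG : ∀ (f : G →* ℤˣ) (u : G), f u = 1) {g₀ : G} (hg : g₀ ∈ P) {i j : ℤ}
    (hi : g₀ * b₁ * g₀⁻¹ = a₁ ^ i * b₁) (hj : g₀ * b₂ * g₀⁻¹ = a₂ ^ j * b₂) (hio : Odd i) (hjo : Odd j)
    (hx : ¬ IsConj (a₁ ^ 2 ^ k) (a₁ ^ 2 ^ k * a₂ ^ 2 ^ k))
    (hb : IsConj (b₁ * b₂) (a₁ ^ 2 ^ k * a₂ ^ 2 ^ k) ∨
      IsConj (b₁ * (a₂ * b₂)) (a₁ ^ 2 ^ k * a₂ ^ 2 ^ k))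
    (syl : ∀ R : Subgroup G, IsPGroup 2 R → (∀ r ∈ R, Commute r (a₁ ^ 2 ^ k)) →
      ∃ c, Commute c (a₁ ^ 2 ^ k) ∧ ∀ r ∈ R, c * r * c⁻¹ ∈ P) : False := by
  obtain ⟨g, m, ha⟩ := exists_alpha h hg hi hj hio hjo
  obtain ⟨h1, h2⟩ := ha.data h
  rcases hb with hb | hb
  · exact kill h T hT (fun f => hG f s) ha.gP ha.gs h1 h2 hx hb syl
  · obtain ⟨l, hl, hlo⟩ := ha.sq h
    have h' := ha.base h hl
    -- the element `g` for the new involution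
    have e1 : Commute g (s * g * a₂ ^ (-l)) :=
      (ha.gs.mul_right (Commute.refl g)).mul_right (ha.ga2.zpow_right _)
    have ha' : Alpha P a₁ b₁ a₂ (a₂ ^ m * b₂) (s * g * a₂ ^ (-l)) g m :=
      ⟨ha.gP, e1, ha.ga, ha.ga2, ha.gb, by
        have e2 : g * (a₂ ^ m * b₂) * g⁻¹ = (g * a₂ ^ m * g⁻¹) * (g * b₂ * g⁻¹) := by group
        rw [e2, ha.gb2, (ha.ga2.zpow_right m).eq, mul_inv_cancel_right], ha.odd⟩
    obtain ⟨h3, h4⟩ := ha'.data h'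
    refine kill h' T hT (fun f => hG f _) ha.gP e1 h3 h4 hx ?_ syl
    -- `b₁ a₂ ^ m b₂` is conjugate to `b₁ a₂ b₂`
    obtain ⟨j', hj'⟩ := ha.odd
    refine IsConj.trans ?_ hb
    rw [isConj_iff]
    refine ⟨a₂ ^ (-j'), ?_⟩
    have inv2 : ∀ l : ℤ, b₂ * (a₂ ^ l)⁻¹ = a₂ ^ l * b₂ := by
      intro l
      have h2 := conj_zpow (a := b₂) (b := a₂) (i := -l)
      rw [h.ba2, inv_zpow', neg_neg] at h2
      rw [← zpow_neg]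
      exact (mul_inv_eq_iff_eq_mul.mp h2.symm)
    calc a₂ ^ (-j') * (b₁ * (a₂ ^ m * b₂)) * (a₂ ^ (-j'))⁻¹
        = (a₂ ^ (-j') * b₁) * (a₂ ^ m * (b₂ * (a₂ ^ (-j'))⁻¹)) := by simp only [mul_assoc]
      _ = b₁ * (a₂ ^ (-j') * (a₂ ^ m * (a₂ ^ (-j') * b₂))) := by
          rw [inv2, (h.ba'.symm.zpow_left (-j')).eq]; simp only [mul_assoc]
      _ = b₁ * (a₂ * b₂) := by
          rw [← mul_assoc (a₂ ^ m), ← zpow_add, ← mul_assoc (a₂ ^ (-j')), ← zpow_add,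
            show -j' + (m + -j') = 1 by omega, zpow_one]

end

end Cfsg.Agent.GH.L2.CaseIG
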