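import Cfsg.Agent.GH.L2.CaseIEntry

/-!
# GH-L2, Case I: from the entry (`P = C_S(x)`, `x ^ s = z`) to `Situ`
(sections 2.2 - 3 of blueprints/GH-L2-CaseI-helper153.md)

`Entry S P D Q a b x s m`: `P = C_S(x)`, `D ≤ P` dihedral of order `2 ^ (m + 1) ≥ 8`, normalised by `P`, `Q ≤ P`
normalised by `P`, `[Q, D] = 1 = Q ∩ D`, `x ∈ Q`, `s ∈ S` normalises `P` and swaps `x` and `z = zz a m`;
(K1), (K2): facts on the action on the component.
-/

set_option autoImplicit false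

open Subgroup
open Cfsg.Agent.GH.L2One.DihD
open Cfsg.Agent.GH.L2.CaseIDih
open Cfsg.Agent.GH.L2.CaseISitu
open Cfsg.Agent.GH.L2.CaseIEntry

namespace Cfsg.Agent.GH.L2.CaseIStruct

variable {G : Type*} [Group G]

/-- The entry of Case I. `InB Q D g`: `g ∈ Q D` (`g` acts on the component as an inner automorphism). -/
structure Entry (S P D Q : Subgroup G) (a b x s : G) (m : ℕ) : Prop where
  dih : Dih D a b m
  P_le : P ≤ S
  D_le : D ≤ P
  nD : ∀ p ∈ P, ∀ d ∈ D, p * d * p⁻¹ ∈ D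
  nQ : ∀ p ∈ P, ∀ q ∈ Q, p * q * p⁻¹ ∈ Q
  comm : ∀ q ∈ Q, ∀ d ∈ D, q * d = d * q
  disj : ∀ d ∈ D, d ∈ Q → d = 1
  xQ : x ∈ Q
  xP : ∀ p ∈ P, p * x = x * p
  Px : ∀ g ∈ S, g * x = x * g → g ∈ P
  sS : s ∈ S
  nP : ∀ p ∈ P, s * p * s⁻¹ ∈ P
  sx : s * x * s⁻¹ = zz a m
  sz : s * zz a m * s⁻¹ = x
  /-- (K1a) -/
  sqQ : ∀ p ∈ P, (∀ d ∈ D, p * d = d * p) → p * p ∈ Q
  /-- (K1b) -/
  idxQ : ∀ p ∈ P, ∀ q ∈ P, (∀ d ∈ D, p * d = d * p) → (∀ d ∈ D, q * d = d * q) → ¬ InB Q D p →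
    ¬ InB Q D q → InB Q D (p * q)
  /-- (K2) -/
  act : 3 ≤ m → ∀ p ∈ P, InB Q D (p * p) → p * a * p⁻¹ = a ∨ p * a * p⁻¹ = a⁻¹

section prelim

variable {D : Subgroup G} {a b : G} {m : ℕ}

/-- A nontrivial normal subgroup of `D` contains the centre. -/
theorem zz_mem_of_normal (h : Dih D a b m) {N : Subgroup G} (hN : ∀ u ∈ N, u ∈ D)
    (hn : ∀ d ∈ D, ∀ u ∈ N, d * u * d⁻¹ ∈ N) {u : G} (hu : u ∈ N) (hu1 : u ≠ 1) : zz a m ∈ N := by
  have key : ∀ i : ℤ, a ^ i ∈ N → a ^ i ≠ 1 → zz a m ∈ N := by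
    intro i hi hi1
    have hp : ∃ k : ℕ, orderOf (a ^ i) = 2 ^ k := by
      have h1 := orderOf_dvd_of_pow_eq_one (h.pow_eq_one (h.rpow_mem i))
      obtain ⟨k, -, hk⟩ := (Nat.dvd_prime_pow Nat.prime_two).1 h1
      exact ⟨k, hk⟩
    obtain ⟨k, hk⟩ := hp
    have hk0 : k ≠ 0 := by
      rintro rfl
      rw [pow_zero, orderOf_eq_one_iff] at hk
      exact hi1 hk
    obtain ⟨l, rfl⟩ : ∃ l, k = l + 1 := ⟨k - 1, by omega⟩
    have h2 : (a ^ i) ^ 2 ^ l = a ^ (i * 2 ^ l) := by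
      rw [zpow_mul, ← zpow_natCast]
      push_cast
      rfl
    have h3 : a ^ (i * 2 ^ l) * a ^ (i * 2 ^ l) = 1 := by
      rw [← h2, ← pow_add, ← mul_two, ← pow_succ, ← hk]
      exact pow_orderOf_eq_one _
    rcases h.rot_sq h3 with h4 | h4
    · exfalso
      rw [← h2] at h4
      have h5 := orderOf_dvd_of_pow_eq_one h4
      rw [hk] at h5
      have h6 := Nat.le_of_dvd (by positivity) h5
      have h7 : (2 : ℕ) ^ l < 2 ^ (l + 1) := Nat.pow_lt_pow_right (by norm_num) (by omega)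
      omega
    · rw [← h4, ← h2]
      exact N.pow_mem hi _
  rcases h.cases (hN u hu) with ⟨i, rfl⟩ | ⟨i, rfl⟩
  · exact key i hu hu1
  · have h1 := hn a h.r_mem _ hu
    have h2 := N.mul_mem h1 (N.inv_mem hu)
    have e : a * (a ^ i * b) * a⁻¹ * (a ^ i * b)⁻¹ = a ^ (2 : ℤ) := by
      have h3 : b * a⁻¹ * b⁻¹ = a := by
        rw [h.c_inv]
        have h4 := h.c_rpow (-1)
        rw [neg_neg, zpow_one, zpow_neg, zpow_one] at h4
        rw [h4, mul_assoc, h.cc, mul_one]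
      calc a * (a ^ i * b) * a⁻¹ * (a ^ i * b)⁻¹ = a * a ^ i * (b * a⁻¹ * b⁻¹) * (a ^ i)⁻¹ := by group
        _ = a ^ (2 : ℤ) := by rw [h3]; group
    rw [e] at h2
    refine key 2 h2 ?_
    rw [zpow_two]
    have := h.odd_sq (k := 1) (by decide)
    rwa [zpow_one] at this

theorem dih_conj (h : Dih D a b m) (s : G) :
    Dih (D.map (MulAut.conj s).toMonoidHom) (s * a * s⁻¹) (s * b * s⁻¹) m where
  two_le := h.two_le
  ord := by
    rw [← h.ord]
    exact orderOf_injective (MulAut.conj s).toMonoidHom (MulAut.conj s).injective a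
  cc := by
    calc s * b * s⁻¹ * (s * b * s⁻¹) = s * (b * b) * s⁻¹ := by group
      _ = 1 := by rw [h.cc]; group
  crc := by
    calc s * b * s⁻¹ * (s * a * s⁻¹) * (s * b * s⁻¹) = s * (b * a * b) * s⁻¹ := by group
      _ = (s * a * s⁻¹)⁻¹ := by rw [h.crc]; group
  ncz := by
    rintro ⟨i, hi⟩
    apply h.ncz
    refine ⟨i, ?_⟩
    have h1 : s * a ^ i * s⁻¹ = s * b * s⁻¹ := by
      rw [← conj_zpow]
      exact hi
    have h2 := mul_right_cancel h1
    exact mul_left_cancel h2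
  mem := by
    intro g
    constructor
    · rintro ⟨d, hd, rfl⟩
      rcases h.cases hd with ⟨i, rfl⟩ | ⟨i, rfl⟩
      · left
        refine ⟨i, ?_⟩
        rw [conj_zpow]
        rfl
      · right
        refine ⟨i, ?_⟩
        rw [conj_zpow]
        change s * (a ^ i * b) * s⁻¹ = _
        group
    · rintro (⟨i, rfl⟩ | ⟨i, rfl⟩)
      · refine ⟨a ^ i, h.rpow_mem i, ?_⟩
        rw [conj_zpow]
        rfl
      · refine ⟨a ^ i * b, D.mul_mem (h.rpow_mem i) h.c_mem, ?_⟩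
        rw [conj_zpow]
        change s * (a ^ i * b) * s⁻¹ = _
        group

theorem zz_conj (s : G) : zz (s * a * s⁻¹) m = s * zz a m * s⁻¹ := by
  rw [zz, zz, conj_pow]

end prelim

namespace Entry

variable {S P D Q : Subgroup G} {a b x s : G} {m : ℕ} (h : Entry S P D Q a b x s m)
include h

theorem zQ : zz a m ∉ Q := fun hc => h.dih.z_ne_one (h.disj _ h.dih.z_mem hc)

theorem sP : s ∉ P := by
  intro hc
  apply h.zQ
  have h1 := h.sx
  rw [h.xP s hc, mul_inv_cancel_right] at h1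
  rw [← h1]
  exact h.xQ

theorem ssP : s * s ∈ P := by
  apply h.Px _ (S.mul_mem h.sS h.sS)
  have e : s * s * x * (s * s)⁻¹ = x := by
    calc s * s * x * (s * s)⁻¹ = s * (s * x * s⁻¹) * s⁻¹ := by group
      _ = x := by rw [h.sx, h.sz]
  exact mul_inv_eq_iff_eq_mul.mp e

theorem nP' : ∀ p ∈ P, s⁻¹ * p * s ∈ P := by
  intro p hp
  have e : s⁻¹ * p * s = (s * s)⁻¹ * (s * p * s⁻¹) * (s * s) := by group
  rw [e]
  exact P.mul_mem (P.mul_mem (P.inv_mem h.ssP) (h.nP p hp)) h.ssP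

/-- `D₁ = s D s⁻¹`. -/
abbrev D₁ (_ : Entry S P D Q a b x s m) : Subgroup G := D.map (MulAut.conj s).toMonoidHom

theorem mem_D₁ {g : G} : g ∈ h.D₁ ↔ s⁻¹ * g * s ∈ D := by
  constructor
  · rintro ⟨d, hd, rfl⟩
    change s⁻¹ * (s * d * s⁻¹) * s ∈ D
    have e : s⁻¹ * (s * d * s⁻¹) * s = d := by group
    rw [e]; exact hd
  · intro hg
    refine ⟨_, hg, ?_⟩
    change s * (s⁻¹ * g * s) * s⁻¹ = g
    group

theorem mem_D₁' {g : G} : g ∈ h.D₁ ↔ s * g * s⁻¹ ∈ D := by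
  rw [h.mem_D₁]
  constructor
  · intro h1
    have h2 := h.nD _ h.ssP _ h1
    have e : s * s * (s⁻¹ * g * s) * (s * s)⁻¹ = s * g * s⁻¹ := by group
    rwa [e] at h2
  · intro h1
    have h2 := h.nD _ (P.inv_mem h.ssP) _ h1
    have e : (s * s)⁻¹ * (s * g * s⁻¹) * (s * s)⁻¹⁻¹ = s⁻¹ * g * s := by group
    rwa [e] at h2

theorem dih₁ : Dih h.D₁ (s * a * s⁻¹) (s * b * s⁻¹) m := dih_conj h.dih s

theorem zz₁ : zz (s * a * s⁻¹) m = x := by rw [zz_conj, h.sz]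

theorem D₁_le : h.D₁ ≤ P := by
  rintro _ ⟨d, hd, rfl⟩
  exact h.nP d (h.D_le hd)

theorem n₁ : ∀ p ∈ P, ∀ d ∈ h.D₁, p * d * p⁻¹ ∈ h.D₁ := by
  intro p hp d hd
  rw [h.mem_D₁] at hd ⊢
  have e : s⁻¹ * (p * d * p⁻¹) * s = (s⁻¹ * p * s) * (s⁻¹ * d * s) * (s⁻¹ * p * s)⁻¹ := by group
  rw [e]
  exact h.nD _ (h.nP' p hp) _ hd

theorem x_ne_one : x ≠ 1 := by
  rw [← h.zz₁]
  exact h.dih₁.z_ne_one

/-- `D₁ ∩ D = 1` -/
theorem disj₁ : ∀ d ∈ h.D₁, d ∈ D → d = 1 := by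
  intro d hd hdD
  by_contra hne
  have h1 := zz_mem_of_normal h.dih₁ (N := h.D₁ ⊓ D) (fun u hu => hu.1)
    (fun d hd u hu => ⟨h.D₁.mul_mem (h.D₁.mul_mem hd hu.1) (h.D₁.inv_mem hd), h.nD d (h.D₁_le hd) u hu.2⟩) ⟨hd, hdD⟩ hne
  rw [h.zz₁] at h1
  exact h.x_ne_one (h.disj x h1.2 h.xQ)

theorem comm₁ : ∀ d ∈ h.D₁, ∀ e ∈ D, d * e = e * d := by
  intro d hd e he
  have h1 : d * e * d⁻¹ * e⁻¹ ∈ D := mul_mem (h.nD d (h.D₁_le hd) e he) (inv_mem he)
  have h2 : d * e * d⁻¹ * e⁻¹ ∈ h.D₁ := by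
    have e1 : d * e * d⁻¹ * e⁻¹ = d * (e * d⁻¹ * e⁻¹) := by group
    rw [e1]
    exact mul_mem hd (h.n₁ e (h.D_le he) _ (inv_mem hd))
  have h3 := h.disj₁ _ h2 h1
  calc d * e = (d * e * d⁻¹ * e⁻¹) * (e * d) := by group
    _ = e * d := by rw [h3, one_mul]

/-- `{1, x}{1, z}` -/
theorem center {g : G} (hg : InB h.D₁ D g) (h1 : ∀ d ∈ h.D₁, g * d = d * g) (h2 : ∀ d ∈ D, g * d = d * g) :
    (g = 1 ∨ g = x) ∨ (g = zz a m ∨ g = x * zz a m) := by
  obtain ⟨u, hu, v, hv, rfl⟩ := hg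
  have hu1 : ∀ d ∈ h.D₁, u * d = d * u := by
    intro d hd
    have h3 := h1 d hd
    have h4 := h.comm₁ d hd v hv
    apply mul_right_cancel (b := v)
    calc u * d * v = u * (d * v) := by group
      _ = u * v * d := by rw [h4]; group
      _ = d * (u * v) := h3
      _ = d * u * v := by group
  have hv1 : ∀ d ∈ D, v * d = d * v := by
    intro d hd
    have h3 := h2 d hd
    have h4 := h.comm₁ u hu d hd
    apply mul_left_cancel (a := u)
    calc u * (v * d) = u * v * d := by group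
      _ = d * (u * v) := h3
      _ = (u * d) * v := by rw [h4]; group
      _ = u * (d * v) := by group
  have h5 := h.dih₁.center_of_comm hu hu1
  rw [h.zz₁] at h5
  rcases h5 with rfl | rfl <;> rcases h.dih.center_of_comm hv hv1 with rfl | rfl <;> simp

variable [Finite G]

/-- **(2.3)** `C_S(D₁D) = {1, x, z, xz}`. -/
theorem cent_inB (hr : Cfsg.SectionalPRankLE 2 4 G) (hS : IsPGroup 2 S) {g : G} (hg : g ∈ S)
    (h1 : ∀ d ∈ h.D₁, g * d = d * g) (h2 : ∀ d ∈ D, g * d = d * g) : InB h.D₁ D g := by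
  by_contra hcon
  -- the smallest power in `InB`
  obtain ⟨k, hk⟩ := hS ⟨g, hg⟩
  have hk' : g ^ 2 ^ k = 1 := by
    have := congrArg Subtype.val hk
    simpa using this
  have hex : ∃ k, InB h.D₁ D (g ^ 2 ^ k) := ⟨k, by rw [hk']; exact ⟨1, one_mem _, 1, one_mem _, by simp⟩⟩
  classical
  have hn := Nat.find_spec hex
  have hn0 : Nat.find hex ≠ 0 := by
    intro h0
    rw [h0, pow_zero, pow_one] at hn
    exact hcon hn
  obtain ⟨l, hl⟩ : ∃ l, Nat.find hex = l + 1 := ⟨Nat.find hex - 1, by omega⟩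
  have hl' : ¬ InB h.D₁ D (g ^ 2 ^ l) := Nat.find_min hex (by omega)
  rw [hl] at hn
  set t : G := g ^ 2 ^ l with ht
  have htt : t * t = g ^ 2 ^ (l + 1) := by rw [ht, ← pow_add, ← mul_two, ← pow_succ]
  have c1 : ∀ d ∈ h.D₁, t * d = d * t := fun d hd => by
    have : Commute g d := h1 d hd
    exact (this.pow_left _).eq
  have c2 : ∀ d ∈ D, t * d = d * t := fun d hd => by
    have : Commute g d := h2 d hd
    exact (this.pow_left _).eq
  have hcc : (t * t = 1 ∨ t * t = x) ∨ (t * t = zz a m ∨ t * t = x * zz a m) := by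
    apply h.center
    · rw [htt]; exact hn
    · intro d hd
      have : Commute t d := c1 d hd
      exact (this.mul_left this).eq
    · intro d hd
      have : Commute t d := c2 d hd
      exact (this.mul_left this).eq
  apply hl'
  refine cent_rank hr h.dih₁ h.dih h.comm₁ h.disj₁ c1 c2 ?_
  have ex : x = (s * a * s⁻¹) ^ (2 * (2 : ℤ) ^ (m - 2)) := by
    rw [← h.zz₁, Dih.zz_eq, h.dih.two_pow']
  have ez : zz a m = a ^ (2 * (2 : ℤ) ^ (m - 2)) := by
    rw [Dih.zz_eq, h.dih.two_pow']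
  rcases hcc with (h3 | h3) | (h3 | h3)
  · exact ⟨0, 0, by rw [h3]; simp⟩
  · exact ⟨2 ^ (m - 2), 0, by rw [h3, mul_zero, zpow_zero, mul_one]; exact ex⟩
  · exact ⟨0, 2 ^ (m - 2), by rw [h3, mul_zero, zpow_zero, one_mul]; exact ez⟩
  · refine ⟨2 ^ (m - 2), 2 ^ (m - 2), ?_⟩
    rw [h3, ← ex, ← ez]

omit [Finite G] in
/-- `S₁ = P ∪ sP`. -/
def S₁ (h : Entry S P D Q a b x s m) : Subgroup G where
  carrier := {g | g ∈ P ∨ s * g ∈ P}
  one_mem' := Or.inl P.one_mem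
  mul_mem' := by
    rintro g k (hg | hg) (hk | hk)
    · exact Or.inl (P.mul_mem hg hk)
    · right
      have e : s * (g * k) = (s * g * s⁻¹) * (s * k) := by group
      rw [e]
      exact P.mul_mem (h.nP g hg) hk
    · right
      have e : s * (g * k) = (s * g) * k := by group
      rw [e]
      exact P.mul_mem hg hk
    · left
      have e : g * k = (s⁻¹ * (s * g) * s) * (s * s)⁻¹ * (s * k) := by group
      rw [e]
      exact P.mul_mem (P.mul_mem (h.nP' _ hg) (P.inv_mem h.ssP)) hk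
  inv_mem' := by
    rintro g (hg | hg)
    · exact Or.inl (P.inv_mem hg)
    · right
      have e : s * g⁻¹ = (s * (s * g)⁻¹ * s⁻¹) * (s * s) := by group
      rw [e]
      exact P.mul_mem (h.nP _ (P.inv_mem hg)) h.ssP

omit [Finite G] in
theorem mem_S₁ {g : G} : g ∈ h.S₁ ↔ g ∈ P ∨ s * g ∈ P := Iff.rfl

omit [Finite G] in
theorem S₁_le : h.S₁ ≤ S := by
  rintro g (hg | hg)
  · exact h.P_le hg
  · have e : g = s⁻¹ * (s * g) := by group
    rw [e]
    exact S.mul_mem (S.inv_mem h.sS) (h.P_le hg)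

omit [Finite G] in
/-- `S₁` has at most two cosets of `P`. -/
theorem idx₁ {g k : G} (hg : g ∈ h.S₁) (hgP : g ∉ P) (hk : k ∈ h.S₁) (hkP : k ∉ P) : g * k ∈ P := by
  rcases hg with hg | hg
  · exact absurd hg hgP
  rcases hk with hk | hk
  · exact absurd hk hkP
  have e : g * k = (s⁻¹ * (s * g) * s) * (s * s)⁻¹ * (s * k) := by group
  rw [e]
  exact P.mul_mem (P.mul_mem (h.nP' _ hg) (P.inv_mem h.ssP)) hk

omit [Finite G] in
/-- elements of `S₁ - P` swap `D₁` and `D`. -/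
theorem swap₁ {y : G} (hy : y ∈ h.S₁) (hyP : y ∉ P) : (∀ d ∈ h.D₁, y * d * y⁻¹ ∈ D) ∧
    (∀ d ∈ D, y * d * y⁻¹ ∈ h.D₁) := by
  rcases hy with hy | hy
  · exact absurd hy hyP
  constructor
  · intro d hd
    have h1 := h.n₁ _ hy d hd
    rw [h.mem_D₁] at h1
    have e : s⁻¹ * (s * y * d * (s * y)⁻¹) * s = y * d * y⁻¹ := by group
    rwa [e] at h1
  · intro d hd
    have h1 := h.nD _ hy d hd
    rw [h.mem_D₁']
    have e : s * (y * d * y⁻¹) * s⁻¹ = s * y * d * (s * y)⁻¹ := by group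
    rwa [e]

omit [Finite G] in
theorem x_D₁ : x ∈ h.D₁ := by
  have h1 := h.dih₁.z_mem
  rwa [h.zz₁] at h1

omit [Finite G] in
/-- `xz` is central in `S₁`. -/
theorem e_central {g : G} (hg : g ∈ h.S₁) : g * (x * zz a m) = x * zz a m * g := by
  have hz : ∀ p ∈ P, p * zz a m = zz a m * p := by
    intro p hp
    have h1 := h.xP _ (h.nP p hp)
    have h2 : s * (s * p * s⁻¹) * s⁻¹ = (s * s) * p * (s * s)⁻¹ := by group
    have h3 : s⁻¹ * x * s = zz a m := by rw [← h.sz]; group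
    calc p * zz a m = s⁻¹ * ((s * p * s⁻¹) * x) * s := by rw [← h3]; group
      _ = s⁻¹ * (x * (s * p * s⁻¹)) * s := by rw [h1]
      _ = zz a m * p := by rw [← h3]; group
  have hp : ∀ p ∈ P, p * (x * zz a m) = x * zz a m * p := by
    intro p hp
    rw [← mul_assoc, h.xP p hp, mul_assoc, hz p hp, mul_assoc]
  have hs : s * (x * zz a m) * s⁻¹ = x * zz a m := by
    have h1 : s * (x * zz a m) * s⁻¹ = (s * x * s⁻¹) * (s * zz a m * s⁻¹) := by group
    rw [h1, h.sx, h.sz]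
    exact (h.xP _ (h.D_le h.dih.z_mem))
  rcases hg with hg | hg
  · exact hp g hg
  · have h1 := hp _ hg
    have h2 : g = s⁻¹ * (s * g) := by group
    have h3 : s⁻¹ * (x * zz a m) = x * zz a m * s⁻¹ := by
      rw [eq_mul_inv_iff_mul_eq, mul_assoc, mul_eq_of_eq_inv_mul]
      rw [inv_inv]
      exact (mul_inv_eq_iff_eq_mul.mp hs).symm
    calc g * (x * zz a m) = s⁻¹ * ((s * g) * (x * zz a m)) := by group
      _ = (s⁻¹ * (x * zz a m)) * (s * g) := by rw [h1]; group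
      _ = x * zz a m * g := by rw [h3]; group

/-- **(2.4)** the normalizer of `S₁` in `S`. -/
theorem mem_S₁_of_normalizes (hr : Cfsg.SectionalPRankLE 2 4 G) (hS : IsPGroup 2 S) {g : G} (hg : g ∈ S)
    (hn : ∀ u, u ∈ h.S₁ ↔ g * u * g⁻¹ ∈ h.S₁) : g ∈ h.S₁ := by
  set w : G := g * x * g⁻¹ with hw
  have hPS : ∀ p ∈ P, p ∈ h.S₁ := fun p hp => Or.inl hp
  have hxS : x ∈ h.S₁ := hPS x (h.D₁_le h.x_D₁)
  have hwS : w ∈ h.S₁ := (hn x).1 hxS
  -- centraliser of `w` in `S₁`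
  have cen : ∀ u ∈ h.S₁, (u * w = w * u ↔ g⁻¹ * u * g ∈ P) := by
    intro u hu
    have hu' : g⁻¹ * u * g ∈ h.S₁ := by
      rw [hn]
      have e : g * (g⁻¹ * u * g) * g⁻¹ = u := by group
      rwa [e]
    constructor
    · intro h1
      apply h.Px _ (h.S₁_le hu')
      calc g⁻¹ * u * g * x = g⁻¹ * (u * w) * g := by rw [hw]; group
        _ = g⁻¹ * (w * u) * g := by rw [h1]
        _ = x * (g⁻¹ * u * g) := by rw [hw]; group
    · intro h1
      have h2 := h.xP _ h1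
      calc u * w = g * ((g⁻¹ * u * g) * x) * g⁻¹ := by rw [hw]; group
        _ = g * (x * (g⁻¹ * u * g)) * g⁻¹ := by rw [h2]
        _ = w * u := by rw [hw]; group
  have idx : ∀ u ∈ h.S₁, ∀ v ∈ h.S₁, ¬ u * w = w * u → ¬ v * w = w * v → (u * v) * w = w * (u * v) := by
    intro u hu v hv h1 h2
    rw [cen u hu] at h1
    rw [cen v hv] at h2
    rw [cen _ (mul_mem hu hv)]
    have hu' : g⁻¹ * u * g ∈ h.S₁ := by
      rw [hn]
      have e : g * (g⁻¹ * u * g) * g⁻¹ = u := by group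
      rwa [e]
    have hv' : g⁻¹ * v * g ∈ h.S₁ := by
      rw [hn]
      have e : g * (g⁻¹ * v * g) * g⁻¹ = v := by group
      rwa [e]
    have e : g⁻¹ * (u * v) * g = (g⁻¹ * u * g) * (g⁻¹ * v * g) := by group
    rw [e]
    exact h.idx₁ hu' h1 hv' h2
  -- (a) `w ∈ P`
  have hwP : w ∈ P := by
    by_contra hwP
    have h1 := h.swap₁ hwS hwP
    set c : G := s * a * s⁻¹ with hc
    have hcD : c ∈ h.D₁ := h.dih₁.r_mem
    have h2 : (c * c) * w = w * (c * c) := by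
      by_cases h3 : c * w = w * c
      · have : Commute c w := h3
        exact (this.mul_left this).eq
      · exact idx c (hPS c (h.D₁_le hcD)) c (hPS c (h.D₁_le hcD)) h3 h3
    have h3 : w * (c * c) * w⁻¹ = c * c := by rw [← h2]; group
    have h4 : c * c = 1 := by
      apply h.disj₁ _ (mul_mem hcD hcD)
      rw [← h3]
      exact h1.1 _ (mul_mem hcD hcD)
    have h5 := h.dih₁.odd_sq (k := 1) (by decide)
    rw [zpow_one] at h5
    exact h5 h4
  -- (b) `w` centralises `D₁` and `D`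
  have hB : (∀ d ∈ h.D₁, w * d = d * w) ∧ (∀ d ∈ D, w * d = d * w) := by
    by_cases hall : ∀ p ∈ P, p * w = w * p
    · exact ⟨fun d hd => (hall d (h.D₁_le hd)).symm, fun d hd => (hall d (h.D_le hd)).symm⟩
    · push Not at hall
      obtain ⟨p, hp, hpw⟩ := hall
      -- an element `y` of `S₁ - P` centralising `w`
      obtain ⟨y, hy, hyP, hyw⟩ : ∃ y ∈ h.S₁, y ∉ P ∧ y * w = w * y := by
        have hs1 : s ∈ h.S₁ := Or.inr h.ssP
        by_cases h1 : s * w = w * s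
        · exact ⟨s, hs1, h.sP, h1⟩
        · refine ⟨s * p, mul_mem hs1 (hPS p hp), fun hc => h.sP ?_, idx s hs1 p (hPS p hp) h1 hpw⟩
          have := P.mul_mem hc (P.inv_mem hp)
          rwa [mul_inv_cancel_right] at this
      have h1 := h.swap₁ hy hyP
      have hor : (∀ d ∈ h.D₁, w * d = d * w) ∨ (∀ d ∈ D, w * d = d * w) := by
        by_contra hc
        push Not at hc
        obtain ⟨⟨d, hd, hdw⟩, ⟨e, he, hew⟩⟩ := hc
        have h2 := idx d (hPS d (h.D₁_le hd)) e (hPS e (h.D_le he)) (Ne.symm hdw) (Ne.symm hew)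
        -- `w d e w⁻¹ = d e`
        have h3 : (w * d * w⁻¹) * (w * e * w⁻¹) = d * e := by
          calc (w * d * w⁻¹) * (w * e * w⁻¹) = w * (d * e) * w⁻¹ := by group
            _ = d * e := by rw [← h2]; group
        have h4 : w * d * w⁻¹ ∈ h.D₁ := h.n₁ w hwP d hd
        have h5 : w * e * w⁻¹ ∈ D := h.nD w hwP e he
        have h6 : d⁻¹ * (w * d * w⁻¹) = e * (w * e * w⁻¹)⁻¹ := by
          calc d⁻¹ * (w * d * w⁻¹) = d⁻¹ * ((w * d * w⁻¹) * (w * e * w⁻¹)) * (w * e * w⁻¹)⁻¹ := by group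
            _ = _ := by rw [h3]; group
        have h7 := h.disj₁ _ (mul_mem (inv_mem hd) h4) (h6 ▸ mul_mem he (inv_mem h5))
        apply hdw
        have h8 : w * d * w⁻¹ = d := (inv_mul_eq_one.1 h7).symm
        exact mul_inv_eq_iff_eq_mul.mp h8
      have tr : ∀ d : G, w * (y * d * y⁻¹) = (y * d * y⁻¹) * w → w * d = d * w := by
        intro d hd
        have e1 : w = y⁻¹ * w * y := by
          rw [mul_assoc, ← hyw]; group
        calc w * d = y⁻¹ * (w * (y * d * y⁻¹)) * y := by nth_rewrite 1 [e1]; group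
          _ = y⁻¹ * ((y * d * y⁻¹) * w) * y := by rw [hd]
          _ = d * (y⁻¹ * w * y) := by group
          _ = d * w := by rw [← e1]
      rcases hor with h2 | h2
      · exact ⟨h2, fun d hd => tr d (h2 _ (h1.2 d hd))⟩
      · exact ⟨fun d hd => tr d (h2 _ (h1.1 d hd)), h2⟩
  -- (c)
  have hwB := h.cent_inB hr hS (h.S₁_le hwS) hB.1 hB.2
  rcases h.center hwB hB.1 hB.2 with (h1 | h1) | (h1 | h1)
  · exfalso
    apply h.x_ne_one
    rw [hw] at h1
    calc x = g⁻¹ * (g * x * g⁻¹) * g := by group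
      _ = 1 := by rw [h1]; group
  · left
    apply h.Px g hg
    rw [hw] at h1
    exact mul_inv_eq_iff_eq_mul.mp h1
  · right
    apply h.Px _ (S.mul_mem h.sS hg)
    have e : s * g * x * (s * g)⁻¹ = x := by
      calc s * g * x * (s * g)⁻¹ = s * (g * x * g⁻¹) * s⁻¹ := by group
        _ = x := by rw [← hw, h1, h.sz]
    exact mul_inv_eq_iff_eq_mul.mp e
  · exfalso
    apply h.sP
    have hs1 : s ∈ h.S₁ := Or.inr h.ssP
    have hu : g * s * g⁻¹ ∈ h.S₁ := (hn s).1 hs1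
    have h2 := (cen _ hu).1 (by rw [h1]; exact h.e_central hu)
    have e : g⁻¹ * (g * s * g⁻¹) * g = s := by group
    rwa [e] at h2

/-- **(2.4)** `S = S₁`. -/
theorem S₁_eq (hr : Cfsg.SectionalPRankLE 2 4 G) (hS : IsPGroup 2 S) : h.S₁ = S := by
  by_contra hne
  have hlt : h.S₁.subgroupOf S < ⊤ := by
    rw [lt_top_iff_ne_top, Ne, subgroupOf_eq_top]
    exact fun hle => hne (le_antisymm h.S₁_le hle)
  have : Fact (Nat.Prime 2) := ⟨Nat.prime_two⟩
  have hnil : Group.IsNilpotent S := hS.isNilpotent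
  have hnc := Group.normalizerCondition_of_isNilpotent (G := S) _ hlt
  obtain ⟨⟨g, hg⟩, hgN, hgS⟩ := SetLike.exists_of_lt hnc
  apply hgS
  rw [mem_subgroupOf]
  refine h.mem_S₁_of_normalizes hr hS hg fun u => ?_
  constructor
  · intro hu
    have h1 := (mem_normalizer_iff.1 hgN ⟨u, h.S₁_le hu⟩).1 (by rw [mem_subgroupOf]; exact hu)
    rw [mem_subgroupOf] at h1
    exact h1
  · intro hu
    have huS : u ∈ S := by
      have h1 := S.mul_mem (S.mul_mem (S.inv_mem hg) (h.S₁_le hu)) hg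
      have e : g⁻¹ * (g * u * g⁻¹) * g = u := by group
      rwa [e] at h1
    have h1 := (mem_normalizer_iff.1 hgN ⟨u, huS⟩).2 (by rw [mem_subgroupOf]; exact hu)
    rw [mem_subgroupOf] at h1
    exact h1

end Entry

end Cfsg.Agent.GH.L2.CaseIStruct
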