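import Cfsg.Agent.GH.L2.CaseIFacts
import Cfsg.Agent.GH.L2.CaseIStruct
import Cfsg.Agent.GH.L2NoComp
import Cfsg.Agent.GH.L2One.CoreHOf
import Cfsg.Agent.GH.XSet

/-!
# GH-L2, Case I: the input (sections 1, 2.5, 2.6 of blueprints/GH-L2-CaseI-helper153.md)

`exists_entry`: `x ∈ X`, `T` a Sylow 2-subgroup of `C(x)`, `T ≤ S` a Sylow 2-subgroup of `G`, `s ∈ S` normalises `T`,
swaps `x` and an involution of `KK x`, `8 ∣ |T ∩ KK x|`: `CaseIStruct.Entry` and the fusion facts `FusIn`.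
-/

set_option autoImplicit false
set_option linter.unusedSectionVars false

open Cfsg Subgroup
open Cfsg.Agent.SignalizersComponents
open Cfsg.Agent.Intrinsic.Basic Cfsg.Agent.GH.Defs Cfsg.Agent.GH.Comp
open Cfsg.Agent.Walter.SylowIn Cfsg.Agent.GH.L2Frame Cfsg.Agent.GH.XSet
open Cfsg.Agent.GH.L2One Cfsg.Agent.GH.L2One.DihD
open Cfsg.Agent.GH.L2.CaseIRep Cfsg.Agent.GH.L2.CaseIFacts
open Cfsg.Agent.GH.L2.CaseIDih Cfsg.Agent.GH.L2.CaseISitu Cfsg.Agent.GH.L2.CaseIStruct

namespace Cfsg.Agent.GH.L2.CaseIIn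

open Cfsg.Agent.GH.L2Aut in
theorem hasK_of_l2 {L : Type*} [Group L] (h : IsL2odd L) : HasK L := by
  obtain ⟨F, _, _, hodd, -, ⟨e⟩⟩ := h
  exact HasK.of_rep (Rep.ofEquiv (two_ne_zero_of_odd hodd) e)

theorem hasK_of_top {L : Type*} [Group L] (h : IsL2odd L ∨ IsAlt 7 L) : HasK L := by
  rcases h with h | ⟨⟨e⟩⟩
  · exact hasK_of_l2 h
  · exact HasK.alt7.congr e.symm

variable {G : Type*} [Group G]

/-- conversion of the two structures `Dih` -/
theorem dihD {D : Subgroup G} {d : ℕ} {r c : G} (h : AutSwap.Dih D d r c) (hd : 3 ≤ d) :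
    DihD.Dih D r c (d - 1) where
  two_le := by omega
  ord := h.or_eq
  cc := h.cc
  crc := by
    have h1 := h.crc
    rwa [h.c_inv] at h1
  ncz := by
    intro h1
    obtain ⟨k, hk⟩ := mem_zpowers_iff.1 h1
    exact h.c_not k hk.symm
  mem := by
    intro g
    constructor
    · intro hg
      obtain ⟨k, hk | hk⟩ := h.form g hg
      · exact Or.inl ⟨k, hk⟩
      · exact Or.inr ⟨k, hk⟩
    · rintro (⟨i, rfl⟩ | ⟨i, rfl⟩)
      · exact zpow_mem h.r_mem i
      · exact mul_mem (zpow_mem h.r_mem i) h.c_mem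

theorem zz_eq' (r : G) (d : ℕ) : zz r (d - 1) = r ^ (2 ^ (d - 2) : ℤ) := by
  rw [Dih.zz_eq]
  rfl

/-- The fusion facts of Case I, `x = zz (s r s⁻¹)`, `z = zz r m`. -/
structure FusIn (S T D Q : Subgroup G) (r c x s : G) (m : ℕ) : Prop where
  conj_r : ∀ i : ℤ, IsConj ((s * r * s⁻¹) ^ i * (s * c * s⁻¹)) x
  conj_rz : ∀ i : ℤ, IsConj ((s * r * s⁻¹) ^ i * (s * c * s⁻¹) * zz r m) (x * zz r m)
  conj_rr : ∃ i j : ℤ, IsConj ((s * r * s⁻¹) ^ i * (s * c * s⁻¹) * (r ^ j * c)) (x * zz r m)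
  ne : ¬ IsConj (x * zz r m) x
  sylx : ¬ 2 ∣ T.relIndex (centralizer {x})
  syle : ¬ 2 ∣ S.relIndex (centralizer {x * zz r m})
  /-- 2-subgroups of `C(x)` are `C(x)`-conjugate into `T` -/
  syl : ∀ R : Subgroup G, IsPGroup 2 R → (∀ g ∈ R, g * x = x * g) →
    ∃ k, k * x = x * k ∧ ∀ g ∈ R, k * g * k⁻¹ ∈ T
  core : ∃ N R : Subgroup G, CoreH S N R x (x * zz r m)

section facts

variable {S T K : Subgroup G} {d : ℕ} {r c x s : G}

theorem conj_refl_pow (s r c : G) (i : ℤ) :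
    (s * r * s⁻¹) ^ i * (s * c * s⁻¹) = s * (r ^ i * c) * s⁻¹ := by
  rw [conj_zpow]; group

theorem s_inv_z (e : Entry S T (T ⊓ K) (T ⊓ fix K) r c x s (d - 1)) :
    s⁻¹ * zz r (d - 1) * s = x := by
  rw [← e.sx]; group

/-- an element of `K` moving a reflection `r^i c` to `z`, commuting with `Q` -/
theorem exists_k (E : Facts K T d r c) (hd : 3 ≤ d) (i : ℤ) :
    ∃ k ∈ K, (∀ q ∈ T ⊓ fix K, k * q = q * k) ∧ k * (r ^ i * c) * k⁻¹ = zz r (d - 1) := by
  have h := dihD E.dih hd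
  refine E.one _ (mul_mem (zpow_mem E.dih.r_mem i) E.dih.c_mem) _ h.z_mem (h.refl_sq i) ?_ ?_
    h.z_ne_one
  · intro h1
    apply E.dih.refl_ne i 0
    rw [h1, zpow_zero]
  · rw [zz_eq']
    exact E.dih.z_sq

theorem conj_rz (E : Facts K T d r c) (hd : 3 ≤ d)
    (e : Entry S T (T ⊓ K) (T ⊓ fix K) r c x s (d - 1)) (i : ℤ) :
    ∃ g, g * ((s * r * s⁻¹) ^ i * (s * c * s⁻¹)) * g⁻¹ = x ∧ g * zz r (d - 1) * g⁻¹ = zz r (d - 1) := by
  obtain ⟨k, -, hkQ, hk⟩ := exists_k E hd i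
  refine ⟨s * k * s⁻¹, ?_, ?_⟩
  · rw [conj_refl_pow]
    calc s * k * s⁻¹ * (s * (r ^ i * c) * s⁻¹) * (s * k * s⁻¹)⁻¹ =
          s * (k * (r ^ i * c) * k⁻¹) * s⁻¹ := by group
      _ = x := by rw [hk, e.sz]
  · have h1 : k * x * k⁻¹ = x := by rw [hkQ x e.xQ, mul_inv_cancel_right]
    calc s * k * s⁻¹ * zz r (d - 1) * (s * k * s⁻¹)⁻¹ =
          s * (k * (s⁻¹ * zz r (d - 1) * s) * k⁻¹) * s⁻¹ := by group
      _ = zz r (d - 1) := by rw [s_inv_z e, h1, e.sx]

theorem isConj_rz (E : Facts K T d r c) (hd : 3 ≤ d)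
    (e : Entry S T (T ⊓ K) (T ⊓ fix K) r c x s (d - 1)) (i : ℤ) :
    IsConj ((s * r * s⁻¹) ^ i * (s * c * s⁻¹) * zz r (d - 1)) (x * zz r (d - 1)) := by
  obtain ⟨g, h1, h2⟩ := conj_rz E hd e i
  rw [isConj_iff]
  refine ⟨g, ?_⟩
  calc g * ((s * r * s⁻¹) ^ i * (s * c * s⁻¹) * zz r (d - 1)) * g⁻¹ =
        (g * ((s * r * s⁻¹) ^ i * (s * c * s⁻¹)) * g⁻¹) * (g * zz r (d - 1) * g⁻¹) := by group
    _ = x * zz r (d - 1) := by rw [h1, h2]

theorem conj_rr [Finite G] (E : Facts K T d r c) (hd : 3 ≤ d)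
    (e : Entry S T (T ⊓ K) (T ⊓ fix K) r c x s (d - 1))
    (hX : ∀ q ∈ T ⊓ fix K, q * q = 1 → ¬ IsConj q (x * zz r (d - 1))) :
    ∃ i j : ℤ, IsConj ((s * r * s⁻¹) ^ i * (s * c * s⁻¹) * (r ^ j * c)) (x * zz r (d - 1)) := by
  have h := dihD E.dih hd
  have hz : zz r (d - 1) = r ^ (2 ^ (d - 2) : ℤ) := zz_eq' r d
  have uT : ∀ i : ℤ, (s * r * s⁻¹) ^ i * (s * c * s⁻¹) ∈ T := by
    intro i
    rw [conj_refl_pow]
    exact e.nP _ (mul_mem (zpow_mem E.dih.r_mem i) E.dih.c_mem).1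
  have uD₁ : ∀ i : ℤ, (s * r * s⁻¹) ^ i * (s * c * s⁻¹) ∈ e.D₁ := by
    intro i
    rw [conj_refl_pow]
    exact ⟨_, mul_mem (zpow_mem E.dih.r_mem i) E.dih.c_mem, rfl⟩
  have uc : ∀ i : ℤ, ∀ f ∈ T ⊓ K, (s * r * s⁻¹) ^ i * (s * c * s⁻¹) * f =
      f * ((s * r * s⁻¹) ^ i * (s * c * s⁻¹)) := fun i f hf => e.comm₁ _ (uD₁ i) f hf
  have uu : ∀ i : ℤ, (s * r * s⁻¹) ^ i * (s * c * s⁻¹) * ((s * r * s⁻¹) ^ i * (s * c * s⁻¹)) = 1 := by
    intro i
    rw [conj_refl_pow]
    calc s * (r ^ i * c) * s⁻¹ * (s * (r ^ i * c) * s⁻¹) = s * ((r ^ i * c) * (r ^ i * c)) * s⁻¹ := by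
          group
      _ = 1 := by rw [h.refl_sq i, mul_one, mul_inv_cancel]
  have hzz : zz r (d - 1) * zz r (d - 1) = 1 := by rw [hz]; exact E.dih.z_sq
  by_cases hA : ∃ i : ℤ, ¬ InQD K T ((s * r * s⁻¹) ^ i * (s * c * s⁻¹))
  · obtain ⟨i, hi⟩ := hA
    set u : G := (s * r * s⁻¹) ^ i * (s * c * s⁻¹) with hu
    obtain ⟨k, -, hku, hkD, hkz⟩ := E.move hd u (uT i) (uc i) (uu i) hi
    rw [← hz] at hkD hkz
    have hvv : k * zz r (d - 1) * k⁻¹ * (k * zz r (d - 1) * k⁻¹) = 1 := by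
      calc k * zz r (d - 1) * k⁻¹ * (k * zz r (d - 1) * k⁻¹) =
            k * (zz r (d - 1) * zz r (d - 1)) * k⁻¹ := by group
        _ = 1 := by rw [hzz, mul_one, mul_inv_cancel]
    obtain ⟨j, hj⟩ : ∃ j : ℤ, k * zz r (d - 1) * k⁻¹ = r ^ j * c := by
      rcases h.sq_one hkD hvv with h1 | h1 | h1
      · exfalso
        apply h.z_ne_one
        have h2 : zz r (d - 1) = k⁻¹ * (k * zz r (d - 1) * k⁻¹) * k := by group
        rw [h2, h1]; group
      · exact absurd h1 hkz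
      · exact h1
    refine ⟨i, j, ?_⟩
    have h2 : IsConj (u * (r ^ j * c)) (u * zz r (d - 1)) := by
      rw [isConj_comm, isConj_iff]
      refine ⟨k, ?_⟩
      have h3 : k * u * k⁻¹ = u := by rw [hku, mul_inv_cancel_right]
      calc k * (u * zz r (d - 1)) * k⁻¹ = (k * u * k⁻¹) * (k * zz r (d - 1) * k⁻¹) := by group
        _ = u * (r ^ j * c) := by rw [h3, hj]
    exact h2.trans (isConj_rz E hd e i)
  · push Not at hA
    refine ⟨0, 0, ?_⟩
    obtain ⟨q, hq, f, hf, huf⟩ := hA 0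
    have e0 : (s * r * s⁻¹) ^ (0 : ℤ) * (s * c * s⁻¹) = s * c * s⁻¹ := by rw [zpow_zero, one_mul]
    have e1 : r ^ (0 : ℤ) * c = c := by rw [zpow_zero, one_mul]
    have hu0 := uu 0
    have hc0 := uc 0
    have hcz := isConj_rz E hd e 0
    rw [e0] at huf hu0 hc0 hcz
    rw [e0, e1]
    set u : G := s * c * s⁻¹ with hu
    -- `f` is central in `D`
    have hfc : ∀ g ∈ T ⊓ K, f * g = g * f := by
      intro g hg
      have h1 := hc0 g hg
      have h2 := e.comm q hq g hg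
      rw [huf] at h1
      apply mul_left_cancel (a := q)
      calc q * (f * g) = q * f * g := by group
        _ = g * (q * f) := h1
        _ = (q * g) * f := by rw [h2]; group
        _ = q * (g * f) := by group
    have hf' : f = 1 ∨ f = zz r (d - 1) := h.center_of_comm hf hfc
    have hqu : q * f = f * q := e.comm q hq f hf
    obtain ⟨k, -, hkQ, hk⟩ := exists_k E hd 0
    rw [e1] at hk
    rcases hf' with h1 | h1
    · -- `u ∈ Q`
      have h2 : u = q := by rw [huf, h1, mul_one]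
      have h3 : IsConj (u * c) (u * zz r (d - 1)) := by
        rw [isConj_iff]
        refine ⟨k, ?_⟩
        have h4 : k * u * k⁻¹ = u := by rw [h2, hkQ q hq, mul_inv_cancel_right]
        calc k * (u * c) * k⁻¹ = (k * u * k⁻¹) * (k * c * k⁻¹) := by group
          _ = u * zz r (d - 1) := by rw [h4, hk]
      exact h3.trans hcz
    · exfalso
      have h2 : q = u * zz r (d - 1) := by
        rw [huf, h1, mul_assoc, hzz, mul_one]
      apply hX q hq
      · have h3 : u * zz r (d - 1) = zz r (d - 1) * u := hc0 _ h.z_mem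
        calc q * q = u * (zz r (d - 1) * u) * zz r (d - 1) := by rw [h2]; group
          _ = (u * u) * (zz r (d - 1) * zz r (d - 1)) := by rw [← h3]; group
          _ = 1 := by rw [hu0, hzz, mul_one]
      · rw [h2]
        exact hcz

end facts

variable [Finite G]

/-- **The input of Case I.** -/
theorem exists_entry (hG : Hyp G) (ho : AllOdd G) {X : Set G} (hX : XBase X) {x s : G} (hx : x ∈ X)
    (hK : IsL2odd (STop (KK x)) ∨ IsAlt 7 (STop (KK x))) {T : Subgroup G}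
    (hT : SylIn 2 T (centralizer ({x} : Set G))) (h8 : 8 ∣ Nat.card ↥(T ⊓ KK x)) (S : Sylow 2 G)
    (hTS : T ≤ S) (hs : s ∈ S) (hsT : ∀ t ∈ T, s * t * s⁻¹ ∈ T) (hsx : s * x * s⁻¹ ∈ KK x)
    (hss : s * (s * x * s⁻¹) * s⁻¹ = x) :
    ∃ (r c : G) (m : ℕ), 2 ≤ m ∧ s * x * s⁻¹ = zz r m ∧
      Entry (S : Subgroup G) T (T ⊓ KK x) (T ⊓ fix (KK x)) r c x s m ∧
      FusIn (S : Subgroup G) T (T ⊓ KK x) (T ⊓ fix (KK x)) r c x s m := by
  have : Fact (Nat.Prime 2) := ⟨Nat.prime_two⟩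
  have hcK : Comp2 x (KK x) := ⟨hX.inv x hx, hX.comp x hx⟩
  have hn : centralizer ({x} : Set G) ≤ normalizer (KK x : Set G) := fun g hg =>
    hX.mem_normalizer hx (mem_centralizer_singleton_iff.1 hg)
  have F : L2Frame.Frame (centralizer ({x} : Set G)) (KK x) T :=
    ⟨hcK.comp, ho x _ hcK, hT.le.trans hn, hT⟩
  obtain ⟨d, r, c, E⟩ := exists_facts F (hasK_of_top hK)
  have hTx : ∀ t ∈ T, t * x = x * t := fun t ht => (mem_cent.1 (F.le ht)).symm
  have hxx : x * x = 1 := hX.sq hx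
  have hx1 : x ≠ 1 := hX.ne_one hx
  -- `d ≥ 3`
  have hcard : Nat.card ↥(T ⊓ KK x) ≤ 2 * 2 ^ (d - 1) := by
    have h1 : ∀ g : ↥(T ⊓ KK x), ∃ p : zpowers r × Fin 2, (g : G) = (p.1 : G) * c ^ (p.2 : ℕ) := by
      rintro ⟨g, hg⟩
      obtain ⟨k, hk | hk⟩ := E.dih.form g hg
      · refine ⟨(⟨r ^ k, mem_zpowers_iff.2 ⟨k, rfl⟩⟩, 0), ?_⟩
        change g = r ^ k * c ^ 0
        rw [hk, pow_zero, mul_one]
      · refine ⟨(⟨r ^ k, mem_zpowers_iff.2 ⟨k, rfl⟩⟩, 1), ?_⟩
        change g = r ^ k * c ^ 1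
        rw [hk, pow_one]
    choose f hf using h1
    have hinj : Function.Injective f := by
      intro a b hab
      apply Subtype.ext
      rw [hf a, hf b, hab]
    have h2 := Nat.card_le_card_of_injective f hinj
    have h3 : Nat.card (Fin 2) = 2 := by rw [Nat.card_eq_fintype_card, Fintype.card_fin]
    rw [Nat.card_prod, Nat.card_zpowers, E.dih.or_eq, h3, mul_comm] at h2
    exact h2
  have hd : 3 ≤ d := by
    by_contra hlt
    have h1 : d = 2 := by have := E.dih.d_ge; omega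
    subst h1
    have h2 := Nat.le_of_dvd Nat.card_pos h8
    have h3 : 2 * 2 ^ (2 - 1) = 4 := by norm_num
    rw [h3] at hcard
    omega
  have h := dihD E.dih hd
  -- `z := s x s⁻¹`
  have hxT : x ∈ T := by
    have h1 : IsPGroup 2 (zpowers x) := by
      rintro ⟨y, hy⟩
      obtain ⟨k, rfl⟩ := mem_zpowers_iff.1 hy
      refine ⟨1, Subtype.ext ?_⟩
      change (x ^ k) ^ 2 ^ 1 = 1
      rw [pow_one, ← zpow_natCast, ← zpow_mul, mul_comm, zpow_mul, zpow_natCast, _root_.sq, hxx,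
        one_zpow]
    have h2 : IsPGroup 2 ↥(zpowers x ⊔ T) := by
      refine IsPGroup.to_sup_of_normal_left' h1 F.two ?_
      intro t ht
      rw [mem_normalizer_iff]
      intro y
      constructor
      · rintro ⟨k, rfl⟩
        refine ⟨k, ?_⟩
        have h3 : Commute t x := hTx t ht
        change x ^ k = t * x ^ k * t⁻¹
        rw [(h3.zpow_right k).eq, mul_inv_cancel_right]
      · rintro ⟨k, hk⟩
        refine ⟨k, ?_⟩
        have h3 : Commute t x := hTx t ht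
        have h4 : x ^ k = t * y * t⁻¹ := hk
        change x ^ k = y
        have h5 : y = t⁻¹ * x ^ k * t := by rw [h4]; group
        rw [h5, mul_assoc, ← (h3.zpow_right k).eq, inv_mul_cancel_left]
    have h3 := F.eq_of_le h2 le_sup_right (sup_le ?_ F.le)
    · rw [← h3]
      exact mem_sup_left (mem_zpowers x)
    · rw [zpowers_le, mem_centralizer_singleton_iff]
  have hxf : x ∈ fix (KK x) := mem_fix.2 (hX.fixes_self hx)
  set z : G := s * x * s⁻¹ with hz
  have hzT : z ∈ T := hsT x hxT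
  have hsT' : ∀ t ∈ T, s⁻¹ * t * s ∈ T := by
    have h1 : T.map (MulAut.conj s).toMonoidHom = T := by
      apply Subgroup.eq_of_le_of_card_ge
      · rintro _ ⟨t, ht, rfl⟩
        exact hsT t ht
      · rw [card_map_of_injective (MulAut.conj s).injective]
    intro t ht
    rw [← h1] at ht
    obtain ⟨t', ht', rfl⟩ := ht
    change s⁻¹ * (s * t' * s⁻¹) * s ∈ T
    have e1 : s⁻¹ * (s * t' * s⁻¹) * s = t' := by group
    rw [e1]; exact ht'
  have hzc : ∀ t ∈ T, z * t = t * z := by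
    intro t ht
    have h1 := hTx _ (hsT' t ht)
    calc z * t = s * (x * (s⁻¹ * t * s)) * s⁻¹ := by rw [hz]; group
      _ = s * ((s⁻¹ * t * s) * x) * s⁻¹ := by rw [h1]
      _ = t * z := by rw [hz]; group
  have hz1 : z ≠ 1 := by
    intro h1
    apply hx1
    have h2 : x = s⁻¹ * z * s := by rw [hz]; group
    rw [h2, h1]; group
  have hzz : z = zz r (d - 1) := by
    have h1 := h.center_of_comm (g := z) ⟨hzT, hsx⟩ (fun g hg => hzc g hg.1)
    exact h1.resolve_left hz1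
  have e : Entry (S : Subgroup G) T (T ⊓ KK x) (T ⊓ fix (KK x)) r c x s (d - 1) :=
    { dih := h
      P_le := hTS
      D_le := inf_le_left
      nD := fun p hp g hg => F.conj_mem_D hp hg
      nQ := fun p hp g hg => F.conj_mem_Q hp hg
      comm := fun q hq g hg => F.comm hq hg
      disj := fun g hg hgQ => F.eq_one hg hgQ.2
      xQ := ⟨hxT, hxf⟩
      xP := hTx
      Px := by
        intro g hg hgx
        have h1 : T ≤ (S : Subgroup G) ⊓ centralizer ({x} : Set G) := le_inf hTS F.le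
        have h2 := F.eq_of_le (S.2.to_le inf_le_left) h1 inf_le_right
        rw [← h2]
        exact ⟨hg, mem_centralizer_singleton_iff.2 hgx⟩
      sS := hs
      nP := hsT
      sx := hzz
      sz := by rw [← hzz]; exact hss
      sqQ := fun p hp h1 => E.sq_mem p hp h1
      idxQ := fun p hp q hq h1 h2 h3 h4 => E.mul_mem hd p hp q hq h1 h2 h3 h4
      act := fun _ p hp h1 => E.pm hd p hp h1 }
  have hcen : ∀ g ∈ (S : Subgroup G), g * (x * zz r (d - 1)) = x * zz r (d - 1) * g := by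
    intro g hg
    apply e.e_central
    rw [e.S₁_eq hG.rank4 S.2]
    exact hg
  have hmulz : x * zz r (d - 1) * (x * zz r (d - 1)) = 1 := by
    have h1 : zz r (d - 1) * x = x * zz r (d - 1) := by
      rw [← hzz]
      exact hzc x hxT
    have h2 : zz r (d - 1) * zz r (d - 1) = 1 := by
      rw [zz_eq']
      exact E.dih.z_sq
    calc x * zz r (d - 1) * (x * zz r (d - 1)) = x * (zz r (d - 1) * x) * zz r (d - 1) := by group
      _ = (x * x) * (zz r (d - 1) * zz r (d - 1)) := by rw [h1]; group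
      _ = 1 := by rw [hxx, h2, mul_one]
  have he1 : x * zz r (d - 1) ≠ 1 := by
    intro h1
    have h2 : zz r (d - 1) = x := by
      have h3 := eq_inv_of_mul_eq_one_right h1
      rw [h3]
      exact inv_eq_of_mul_eq_one_left hxx
    have h3 : z = x := hzz.trans h2
    have h4 : x ∈ KK x := by
      have h5 := hsx
      rwa [h3] at h5
    exact hx1 (F.eq_one (d := x) ⟨hxT, h4⟩ hxf)
  have he2 : orderOf (x * zz r (d - 1)) = 2 := by
    apply orderOf_eq_prime _ he1
    rw [_root_.sq, hmulz]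
  have hZ : ∀ w ∈ (S : Subgroup G), orderOf w = 2 → (∀ g ∈ (S : Subgroup G), Commute g w) →
      w = x * zz r (d - 1) := by
    intro w hw hw2 hwc
    have h1 : ∀ g ∈ e.D₁, w * g = g * w := fun g hg => (hwc g (e.P_le (e.D₁_le hg))).eq.symm
    have h2 : ∀ g ∈ T ⊓ KK x, w * g = g * w := fun g hg => (hwc g (e.P_le hg.1)).eq.symm
    have h3 := e.cent_inB hG.rank4 S.2 hw h1 h2
    have hw1 : w ≠ 1 := by
      rintro rfl
      rw [orderOf_one] at hw2
      exact absurd hw2 (by norm_num)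
    have hsw : s * w = w * s := (hwc s hs).eq
    have hxz : x ≠ zz r (d - 1) := by
      intro h4
      apply he1
      rw [← h4, hxx]
    rcases e.center h3 h1 h2 with (h4 | h4) | (h4 | h4)
    · exact absurd h4 hw1
    · exfalso
      apply hxz
      have h5 := e.sx
      rw [← h4, hsw, mul_inv_cancel_right] at h5
      rw [← h5, h4]
    · exfalso
      apply hxz
      have h5 := e.sz
      rw [← h4, hsw, mul_inv_cancel_right] at h5
      rw [← h5, h4]
    · exact h4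
  have hcomm : ∀ g ∈ (S : Subgroup G), Commute g (x * zz r (d - 1)) := fun g hg => hcen g hg
  -- no element of `X` is conjugate to `x z`
  have hXe : ∀ y ∈ X, ¬ IsConj y (x * zz r (d - 1)) := by
    intro y hy hc
    obtain ⟨g, hg⟩ := isConj_iff.1 hc
    have h1 : x * zz r (d - 1) ∈ X := by rw [← hg]; exact hX.conj y hy g
    exact L2NoComp.not_comp2 hG ho S hcomm hZ ⟨hX.inv _ h1, hX.comp _ h1⟩
  have heS : x * zz r (d - 1) ∈ (S : Subgroup G) :=
    mul_mem (hTS hxT) (hTS (by rw [← hzz]; exact hzT))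
  refine ⟨r, c, d - 1, by omega, hzz, e, ?_⟩
  exact
    { conj_r := by
        intro i
        obtain ⟨g, h1, -⟩ := conj_rz E hd e i
        exact isConj_iff.2 ⟨g, h1⟩
      conj_rz := isConj_rz E hd e
      conj_rr := by
        apply conj_rr E hd e
        intro q hq hqq hc
        by_cases hq1 : q = 1
        · rw [hq1] at hc
          obtain ⟨g, hg⟩ := isConj_iff.1 hc
          apply he1
          rw [← hg, mul_one, mul_inv_cancel]
        · apply hXe q _ hc
          apply hX.closed x hx q (orderOf_eq_prime (by rw [_root_.sq, hqq]) hq1) (hTx q hq.1)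
          exact mem_fix.1 hq.2
      ne := fun hc => hXe x hx hc.symm
      sylx := F.syl.not_dvd
      syle := by
        apply (sylIn_of_sylow S _).not_dvd
        intro g hg
        exact mem_centralizer_singleton_iff.2 (hcen g hg)
      syl := by
        intro R hR hRx
        obtain ⟨g, hg, h1⟩ := F.syl.conj_le (fun p hp => mem_centralizer_singleton_iff.2 (hRx p hp)) hR
        exact ⟨g, mem_centralizer_singleton_iff.1 hg, h1⟩
      core := by
        apply CoreHOf.exists_coreH_of_pLayer (S := S) heS hmulz (fun g hg => (hcen g hg).symm)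
          (L2NoComp.pLayer_centralizer hG ho S he2 hcomm hZ) (hTS hxT)
        intro g hg
        have hg' : g ∈ e.S₁ := by rw [e.S₁_eq hG.rank4 S.2]; exact hg
        rcases hg' with hgP | hgP
        · left
          rw [hTx g hgP, mul_inv_cancel_right, mul_inv_cancel]
        · right
          have h1 : g * x * g⁻¹ = zz r (d - 1) := by
            have h2 := hTx _ hgP
            calc g * x * g⁻¹ = s⁻¹ * (s * g * x) * (s * g)⁻¹ * s := by group
              _ = s⁻¹ * (x * (s * g)) * (s * g)⁻¹ * s := by rw [h2]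
              _ = s⁻¹ * x * s := by group
              _ = zz r (d - 1) := by
                have h3 : x = s * zz r (d - 1) * s⁻¹ := e.sz.symm
                nth_rw 1 [h3]; group
          rw [h1, inv_eq_of_mul_eq_one_left hxx, ← hzz]
          exact hzc x hxT }

end Cfsg.Agent.GH.L2.CaseIIn
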