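import Cfsg.Agent.GH.L2.CaseIBase
import Cfsg.Agent.SylowSp4.ExtTransfer

/-!
# GH-L2, case I: the transfer argument (section 5A of blueprints/GH-L2-CaseI-helper153.md)
-/

set_option autoImplicit false

namespace Cfsg.Agent.GH.L2.CaseIKill

open Subgroup Cfsg.Agent.GH.L2.CaseIBase

variable {G : Type*} [Group G]
variable {k : ℕ} {S P : Subgroup G} {a₁ b₁ a₂ b₂ s : G}

section
variable (h : Base k S P a₁ b₁ a₂ b₂ s)
include h

theorem exists_par {p : G} (hp : p ∈ P) : ∃ i : ℤ, p⁻¹ * b₁ * p = a₁ ^ i * b₁ ∧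
    ∀ j : ℤ, p * b₁ * p⁻¹ = a₁ ^ j * b₁ → (Even i ↔ Even j) := by
  obtain ⟨h1, i, h2⟩ := h.act _ (P.inv_mem hp)
  rw [inv_inv] at h2
  refine ⟨i, h2, fun j hj => ?_⟩
  obtain ⟨l, hl, hle⟩ := Base.act_mul (a := a₁) (b := b₁) (p := p⁻¹) (q := p) (i := i) (j := j)
    (by rw [inv_inv]; exact h2) hj (h.act p hp).1
  rw [mul_inv_cancel, inv_one, one_mul, mul_one] at hl
  have h3 : a₁ ^ l = 1 := by
    have := hl
    rw [eq_comm, mul_eq_right] at this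
    exact this
  have h4 := h.four_dvd (h.pow_one.1 h3)
  have h5 : Even (i + j) := hle.1 (by rw [Int.even_iff]; omega)
  rw [Int.even_add] at h5
  exact h5

theorem transport {v y : G} (hv : v ∈ P) (hy : y ∈ S) (hyP : y ∉ P) (hvy : Commute v y) :
    (v * a₁ * v⁻¹ = a₁ → v * a₂ * v⁻¹ = a₂) ∧ (v * a₁ * v⁻¹ = a₁⁻¹ → v * a₂ * v⁻¹ = a₂⁻¹) ∧
    ∀ i j : ℤ, v * b₁ * v⁻¹ = a₁ ^ i * b₁ → v * b₂ * v⁻¹ = a₂ ^ j * b₂ → (Even i ↔ Even j) := by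
  obtain ⟨p, hp, rfl⟩ : ∃ p ∈ P, y = s * p := by
    rcases h.cov y hy with h1 | h1
    · exact absurd h1 hyP
    · refine ⟨s * y, h1, ?_⟩
      rw [← mul_assoc, h.ss, one_mul]
  set q : G := p * v * p⁻¹ with hq
  have hqP : q ∈ P := P.mul_mem (P.mul_mem hp hv) (P.inv_mem hp)
  have hvq : v = s * q * s⁻¹ := by
    have h1 : v = (s * p) * v * (s * p)⁻¹ := by
      rw [← hvy.eq]; group
    rw [hq]
    nth_rewrite 1 [h1]
    group
  have hev : ∀ u : G, v * (s * u * s⁻¹) * v⁻¹ = s * (q * u * q⁻¹) * s⁻¹ := by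
    intro u
    rw [hvq]
    group
  have hpa := (h.act _ (P.inv_mem hp)).1
  rw [inv_inv] at hpa
  have hqa : ∀ u : G, q * u * q⁻¹ = p * (v * (p⁻¹ * u * p) * v⁻¹) * p⁻¹ := by
    intro u
    rw [hq]
    group
  have key1 : v * a₁ * v⁻¹ = a₁ → q * a₁ * q⁻¹ = a₁ := by
    intro h1
    rw [hqa]
    rcases hpa with hpa | hpa
    · rw [hpa, h1]
      nth_rewrite 1 [← hpa]
      group
    · rw [hpa]
      have h2 : v * a₁⁻¹ * v⁻¹ = a₁⁻¹ := by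
        have : v * a₁⁻¹ * v⁻¹ = (v * a₁ * v⁻¹)⁻¹ := by group
        rw [this, h1]
      rw [h2]
      have h3 : a₁⁻¹ = p⁻¹ * a₁ * p := hpa.symm
      rw [h3]
      group
  have key2 : v * a₁ * v⁻¹ = a₁⁻¹ → q * a₁ * q⁻¹ = a₁⁻¹ := by
    intro h1
    rw [hqa]
    rcases hpa with hpa | hpa
    · rw [hpa, h1]
      have h3 : p * a₁ * p⁻¹ = a₁ := by
        nth_rewrite 1 [← hpa]
        group
      have h4 : p * a₁⁻¹ * p⁻¹ = (p * a₁ * p⁻¹)⁻¹ := by group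
      rw [h4, h3]
    · rw [hpa]
      have h2 : v * a₁⁻¹ * v⁻¹ = a₁ := by
        have : v * a₁⁻¹ * v⁻¹ = (v * a₁ * v⁻¹)⁻¹ := by group
        rw [this, h1, inv_inv]
      rw [h2]
      have h3 : p * a₁⁻¹ * p⁻¹ = a₁ := by
        rw [← hpa]; group
      have h4 : p * a₁ * p⁻¹ = (p * a₁⁻¹ * p⁻¹)⁻¹ := by group
      rw [h4, h3]
  refine ⟨fun h1 => ?_, fun h1 => ?_, ?_⟩
  · rw [← h.sa, hev, key1 h1]
  · rw [← h.sa, hev, key2 h1]
    group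
  · intro i j hi hj
    obtain ⟨r, hr, hrp⟩ := exists_par h hp
    obtain ⟨hpa', r', hr'⟩ := h.act p hp
    obtain ⟨l, hl, hle⟩ := Base.act_mul (a := a₁) (b := b₁) (p := p⁻¹) (q := v) (i := r) (j := i)
      (by rw [inv_inv]; exact hr) hi (h.act v hv).1
    obtain ⟨m, hm, hme⟩ := Base.act_mul (a := a₁) (b := b₁) (p := v * p⁻¹) (q := p) (i := l) (j := r')
      hl hr' hpa'
    have e : p * (v * p⁻¹) = q := by rw [hq, mul_assoc]
    rw [e] at hm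
    have h1 : v * b₂ * v⁻¹ = a₂ ^ m * b₂ := by
      rw [← h.sb, hev, hm, ← h.sa, conj_zpow]
      group
    have h2 : a₂ ^ j = a₂ ^ m := by
      rw [hj] at h1
      exact mul_right_cancel h1
    have h3 := h.four_dvd (h.pow_eq2.1 h2)
    have h4 := hrp r' hr'
    rw [Int.even_add] at hle hme
    have h5 : Even j ↔ Even m := by
      rw [Int.even_iff, Int.even_iff]
      omega
    rw [h5, hme, hle, h4]
    by_cases c1 : Even i <;> by_cases c2 : Even r' <;> simp [c1, c2]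

theorem mem_A_of_commute {v y : G} (hv : v ∈ P) (hy : y ∈ S) (hyP : y ∉ P) (hvy : Commute v y)
    (h1 : v * a₁ * v⁻¹ = a₁) {i : ℤ} (hi : v * b₁ * v⁻¹ = a₁ ^ i * b₁) (hie : Even i) :
    ∃ i j : ℤ, v = a₁ ^ i * a₂ ^ j := by
  obtain ⟨h2, -, h3⟩ := transport h hv hy hyP hvy
  obtain ⟨-, j, hj⟩ := h.act2 hv
  obtain ⟨t, rfl⟩ := hie
  obtain ⟨u, rfl⟩ := (h3 _ _ hi hj).1 ⟨t, rfl⟩
  exact h.mem_A hv h1 (h2 h1) (t := t) (u := u) (by rw [hi, two_mul]) (by rw [hj, two_mul])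

/-- An involution centralising `a₁` has even type. -/
theorem even_of_sq {t : G} (ht : t * t = 1) (h1 : t * a₁ * t⁻¹ = a₁) {i : ℤ}
    (hi : t * b₁ * t⁻¹ = a₁ ^ i * b₁) : Even i := by
  have h2 : t * (t * b₁ * t⁻¹) * t⁻¹ = a₁ ^ (i + i) * b₁ := by
    have e : t * (t * b₁ * t⁻¹) * t⁻¹ = (t * a₁ * t⁻¹) ^ i * (t * b₁ * t⁻¹) := by
      rw [conj_zpow]
      nth_rewrite 1 [hi]
      group
    rw [e, h1, hi, zpow_add]
    group
  have h3 : t * (t * b₁ * t⁻¹) * t⁻¹ = b₁ := by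
    calc t * (t * b₁ * t⁻¹) * t⁻¹ = (t * t) * b₁ * (t * t)⁻¹ := by group
      _ = b₁ := by rw [ht]; group
  rw [h3, eq_comm, mul_eq_right] at h2
  refine h.even_of ?_
  rw [two_mul]
  exact h.pow_one.1 h2

theorem even_of_sq2 {t : G} (ht : t * t = 1) (h1 : t * a₂ * t⁻¹ = a₂) {i : ℤ}
    (hi : t * b₂ * t⁻¹ = a₂ ^ i * b₂) : Even i := by
  have h2 : t * (t * b₂ * t⁻¹) * t⁻¹ = a₂ ^ (i + i) * b₂ := by
    have e : t * (t * b₂ * t⁻¹) * t⁻¹ = (t * a₂ * t⁻¹) ^ i * (t * b₂ * t⁻¹) := by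
      rw [conj_zpow]
      nth_rewrite 1 [hi]
      group
    rw [e, h1, hi, zpow_add]
    group
  have h3 : t * (t * b₂ * t⁻¹) * t⁻¹ = b₂ := by
    calc t * (t * b₂ * t⁻¹) * t⁻¹ = (t * t) * b₂ * (t * t)⁻¹ := by group
      _ = b₂ := by rw [ht]; group
  rw [h3, eq_comm, mul_eq_right] at h2
  refine h.even_of ?_
  rw [two_mul]
  exact h.pow_one2.1 h2

/-- `p` inverts or centralises `a₁`; if `p` fixes `a₁ ^ i a₂ ^ j` with `i`, `j` odd, then `p` centralises `a₁`, `a₂`. -/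
theorem cen_of_odd {p : G} (hp : p ∈ P) {i j : ℤ} (hi : Odd i) (hj : Odd j)
    (hc : p * (a₁ ^ i * a₂ ^ j) * p⁻¹ = a₁ ^ i * a₂ ^ j) : p * a₁ * p⁻¹ = a₁ ∧ p * a₂ * p⁻¹ = a₂ := by
  have e : p * (a₁ ^ i * a₂ ^ j) * p⁻¹ = (p * a₁ * p⁻¹) ^ i * (p * a₂ * p⁻¹) ^ j := by
    rw [conj_zpow, conj_zpow]; group
  rw [e] at hc
  have hne : ∀ {i : ℤ}, Odd i → ¬ (2 : ℤ) ^ (k + 1) ∣ (-i - i) := by
    intro i hi hd
    have := h.four_dvd hd
    obtain ⟨m, rfl⟩ := hi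
    omega
  constructor
  · rcases (h.act p hp).1 with h1 | h1
    · exact h1
    · exfalso
      rcases (h.act2 hp).1 with h2 | h2
      · rw [h1, h2, inv_zpow'] at hc
        exact hne hi (h.pow_eq.1 (h.coord hc).1)
      · rw [h1, h2, inv_zpow', inv_zpow'] at hc
        exact hne hi (h.pow_eq.1 (h.coord hc).1)
  · rcases (h.act2 hp).1 with h2 | h2
    · exact h2
    · exfalso
      rcases (h.act p hp).1 with h1 | h1
      · rw [h1, h2, inv_zpow'] at hc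
        exact hne hj (h.pow_eq2.1 (h.coord hc).2)
      · rw [h1, h2, inv_zpow', inv_zpow'] at hc
        exact hne hj (h.pow_eq2.1 (h.coord hc).2)

theorem t_mem {t y : G} (ht : t ∈ P) (htt : t * t = 1) (hy : y ∈ S) (hty : Commute t y)
    (hy4 : y * y * (y * y) ≠ 1)
    (hyo : y ∈ P → ∃ i j : ℤ, Odd i ∧ Odd j ∧ y * y = a₁ ^ i * a₂ ^ j) :
    ∃ i j : ℤ, t = a₁ ^ i * a₂ ^ j := by
  by_cases hyP : y ∈ P
  · obtain ⟨i, j, hi, hj, hij⟩ := hyo hyP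
    have h1 : t * (a₁ ^ i * a₂ ^ j) * t⁻¹ = a₁ ^ i * a₂ ^ j := by
      rw [← hij, mul_inv_eq_iff_eq_mul]
      exact (hty.mul_right hty).eq
    obtain ⟨h2, h3⟩ := cen_of_odd h ht hi hj h1
    obtain ⟨-, l, hl⟩ := h.act t ht
    obtain ⟨-, m, hm⟩ := h.act2 ht
    obtain ⟨l', rfl⟩ := even_of_sq h htt h2 hl
    obtain ⟨m', rfl⟩ := even_of_sq2 h htt h3 hm
    exact h.mem_A ht h2 h3 (t := l') (u := m') (by rw [hl, two_mul]) (by rw [hm, two_mul])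
  · obtain ⟨h1, j, hj⟩ := h.act t ht
    rcases h1 with h1 | h1
    · exact mem_A_of_commute h ht hy hyP hty h1 hj (even_of_sq h htt h1 hj)
    · exfalso
      have hyy : y * y ∈ P := by
        rcases h.cov y hy with h2 | h2
        · exact absurd h2 hyP
        · -- `y = s p`, `y * y = (s p s⁻¹) p`
          have e2 : y * y = (s * (s * y) * s⁻¹) * (s * y) := by
            calc y * y = (s * s) * y * (s⁻¹ * s) * y := by rw [h.ss]; group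
              _ = (s * (s * y) * s⁻¹) * (s * y) := by simp only [mul_assoc]
          rw [e2]
          exact P.mul_mem (h.nrm s h.sS _ h2) h2
      -- an element `v` of `P` centralising `a₁`, commuting with `t`, `y`, with `v * v = y ^ 4`
      obtain ⟨v, hv, hva, hvt, hvy, hvv⟩ : ∃ v ∈ P, v * a₁ * v⁻¹ = a₁ ∧ Commute t v ∧ Commute v y ∧
          v * v = y * y * (y * y) := by
        rcases (h.act _ hyy).1 with h2 | h2
        · exact ⟨y * y, hyy, h2, hty.mul_right hty, (Commute.refl y).mul_left (Commute.refl y), rfl⟩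
        · refine ⟨y * y * t, P.mul_mem hyy ht, ?_, (hty.mul_right hty).mul_right (Commute.refl t),
            ((Commute.refl y).mul_left (Commute.refl y)).mul_left hty, ?_⟩
          · calc y * y * t * a₁ * (y * y * t)⁻¹ = (y * y) * (t * a₁ * t⁻¹) * (y * y)⁻¹ := by group
              _ = ((y * y) * a₁ * (y * y)⁻¹)⁻¹ := by rw [h1, conj_inv]
              _ = a₁ := by rw [h2, inv_inv]
          · have c : Commute t (y * y) := hty.mul_right hty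
            calc y * y * t * (y * y * t) = (y * y) * (t * (y * y)) * t := by group
              _ = (y * y) * ((y * y) * t) * t := by rw [c.eq]
              _ = (y * y) * (y * y) * (t * t) := by group
              _ = _ := by rw [htt, mul_one]
      obtain ⟨-, l, hl⟩ := h.act v hv
      have hle : Even l := by
        have e1 : t * (v * b₁ * v⁻¹) * t⁻¹ = v * (t * b₁ * t⁻¹) * v⁻¹ := by
          have c := hvt.eq
          calc t * (v * b₁ * v⁻¹) * t⁻¹ = (t * v) * b₁ * (t * v)⁻¹ := by group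
            _ = (v * t) * b₁ * (v * t)⁻¹ := by rw [c]
            _ = _ := by group
        have e2 : t * (a₁ ^ l * b₁) * t⁻¹ = (t * a₁ * t⁻¹) ^ l * (t * b₁ * t⁻¹) := by
          rw [conj_zpow]; group
        have e3 : v * (a₁ ^ j * b₁) * v⁻¹ = (v * a₁ * v⁻¹) ^ j * (v * b₁ * v⁻¹) := by
          rw [conj_zpow]; group
        rw [hl, hj, e2, e3, h1, hva, hl, hj, inv_zpow', ← mul_assoc, ← mul_assoc, ← zpow_add,
          ← zpow_add] at e1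
        have e4 := h.pow_eq.1 (mul_right_cancel e1)
        refine h.even_of ?_
        have e5 : (2 : ℤ) * l = -(-l + j - (j + l)) := by ring
        rw [e5]
        exact (dvd_neg).2 e4
      obtain ⟨r, r', hr⟩ := mem_A_of_commute h hv hy hyP hvy hva hl hle
      have h2 := (transport h ht hy hyP hty).2.1 h1
      have e1 : t * v * t⁻¹ = v⁻¹ := by
        have e : t * (a₁ ^ r * a₂ ^ r') * t⁻¹ = (t * a₁ * t⁻¹) ^ r * (t * a₂ * t⁻¹) ^ r' := by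
          rw [conj_zpow, conj_zpow]; group
        rw [hr, e, h1, h2, inv_zpow', inv_zpow', (h.aa.zpow_zpow (-r) (-r')).eq, mul_inv_rev,
          zpow_neg, zpow_neg]
      have e2 : t * v * t⁻¹ = v := by
        rw [mul_inv_eq_iff_eq_mul]
        exact hvt.eq
      rw [e2] at e1
      apply hy4
      rw [← hvv]
      nth_rewrite 2 [e1]
      exact mul_inv_cancel v

theorem xe {i : ℤ} (hi : Even i) : a₁ ^ (i * 2 ^ k) = 1 ∧ a₂ ^ (i * 2 ^ k) = 1 := by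
  obtain ⟨j, rfl⟩ := hi
  have hd : (2 : ℤ) ^ (k + 1) ∣ (j + j) * 2 ^ k := ⟨j, by ring⟩
  exact ⟨h.pow_one.2 hd, h.pow_one2.2 hd⟩

theorem xo {i : ℤ} (hi : Odd i) : a₁ ^ (i * 2 ^ k) = a₁ ^ 2 ^ k ∧ a₂ ^ (i * 2 ^ k) = a₂ ^ 2 ^ k := by
  obtain ⟨j, rfl⟩ := hi
  have h1 := xe h (i := 2 * j) ⟨j, by ring⟩
  constructor
  · rw [show (2 * j + 1) * 2 ^ k = 2 * j * 2 ^ k + ((2 ^ k : ℕ) : ℤ) by push_cast; ring, zpow_add, h1.1,
      one_mul, zpow_natCast]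
  · rw [show (2 * j + 1) * 2 ^ k = 2 * j * 2 ^ k + ((2 ^ k : ℕ) : ℤ) by push_cast; ring, zpow_add, h1.2,
      one_mul, zpow_natCast]

theorem yy_mem {y : G} (hy : y ∈ S) : y * y ∈ P := by
  rcases h.cov y hy with h2 | h2
  · exact P.mul_mem h2 h2
  · have e2 : y * y = (s * (s * y) * s⁻¹) * (s * y) := by
      calc y * y = (s * s) * y * (s⁻¹ * s) * y := by rw [h.ss]; group
        _ = (s * (s * y) * s⁻¹) * (s * y) := by simp only [mul_assoc]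
    rw [e2]
    exact P.mul_mem (h.nrm s h.sS _ h2) h2

theorem pow_A {i j : ℤ} (n : ℕ) : (a₁ ^ i * a₂ ^ j) ^ n = a₁ ^ (i * n) * a₂ ^ (j * n) := by
  rw [(h.aa.zpow_zpow i j).mul_pow, zpow_mul, zpow_mul, zpow_natCast, zpow_natCast]

/-- The power lemma. -/
theorem power {y : G} (hy : y ∈ S) (h1 : y ^ 2 ^ (k + 2) = 1) :
    ∃ i j : ℤ, y ^ 2 ^ (k + 1) = a₁ ^ (i * 2 ^ k) * a₂ ^ (j * 2 ^ k) ∧
      (y ∈ P → y * y = a₁ ^ i * a₂ ^ j) := by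
  by_cases hyP : y ∈ P
  · obtain ⟨i, j, hij⟩ := h.sq hyP
    refine ⟨i, j, ?_, fun _ => hij⟩
    rw [show (2 : ℕ) ^ (k + 1) = 2 * 2 ^ k by ring, pow_mul, pow_two, hij, pow_A h]
    push_cast
    rfl
  · obtain ⟨i, j, hij⟩ := h.sq (yy_mem h hy)
    obtain ⟨m, rfl⟩ := Nat.exists_eq_add_of_le h.hk
    have h2 : y ^ 2 ^ (1 + m + 1) = a₁ ^ (i * 2 ^ m) * a₂ ^ (j * 2 ^ m) := by
      rw [show (2 : ℕ) ^ (1 + m + 1) = 2 * (2 * 2 ^ m) by ring, pow_mul, pow_mul, pow_two, pow_two, hij, pow_A h]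
      push_cast
      rfl
    have h3 : a₁ ^ (i * 2 ^ m * 2) * a₂ ^ (j * 2 ^ m * 2) = a₁ ^ (0 : ℤ) * a₂ ^ (0 : ℤ) := by
      have e := pow_A h (i := i * 2 ^ m) (j := j * 2 ^ m) 2
      rw [← h2, ← pow_mul] at e
      have e2 : (2 : ℕ) ^ (1 + m + 1) * 2 = 2 ^ (1 + m + 2) := by ring
      rw [e2, h1] at e
      push_cast at e
      rw [← e]
      simp
    have h4 := h.coord h3
    rw [zpow_zero, zpow_zero] at h4
    have key : ∀ i : ℤ, (2 : ℤ) ^ (1 + m + 1) ∣ i * 2 ^ m * 2 → ∃ i', i = 2 * i' := by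
      rintro i ⟨l, hl⟩
      refine ⟨l, ?_⟩
      have e : (2 : ℤ) ^ m * 2 ≠ 0 := by positivity
      apply mul_right_cancel₀ e
      rw [show i * (2 ^ m * 2) = i * 2 ^ m * 2 by ring, hl]
      ring
    obtain ⟨i', rfl⟩ := key i (h.pow_one.1 h4.1)
    obtain ⟨j', rfl⟩ := key j (h.pow_one2.1 h4.2)
    refine ⟨i', j', ?_, fun hc => absurd hc hyP⟩
    rw [h2, show 2 * i' * 2 ^ m = i' * 2 ^ (1 + m) by ring, show 2 * j' * 2 ^ m = j' * 2 ^ (1 + m) by ring]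

theorem conj_xz : IsConj (a₁ ^ 2 ^ k) (a₂ ^ 2 ^ k) := by
  rw [isConj_iff]
  refine ⟨s, ?_⟩
  rw [← conj_pow, h.sa]

theorem x_ne_one : a₁ ^ 2 ^ k ≠ 1 := by
  intro hc
  have h1 := orderOf_dvd_of_pow_eq_one hc
  rw [h.oa] at h1
  have h2 := Nat.le_of_dvd (by positivity) h1
  have h3 : (2 : ℕ) ^ k < 2 ^ (k + 1) := Nat.pow_lt_pow_right (by norm_num) (by omega)
  omega

theorem x_sq : a₁ ^ 2 ^ k * a₁ ^ 2 ^ k = 1 := by
  rw [← pow_add, ← two_mul, ← pow_succ', ← h.oa]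
  exact pow_orderOf_eq_one a₁

theorem z_sq : a₂ ^ 2 ^ k * a₂ ^ 2 ^ k = 1 := by
  rw [← pow_add, ← two_mul, ← pow_succ', ← h.oa2]
  exact pow_orderOf_eq_one a₂

theorem e_sq : (a₁ ^ 2 ^ k * a₂ ^ 2 ^ k) * (a₁ ^ 2 ^ k * a₂ ^ 2 ^ k) = 1 := by
  have c : Commute (a₁ ^ 2 ^ k) (a₂ ^ 2 ^ k) := h.aa.pow_pow _ _
  calc (a₁ ^ 2 ^ k * a₂ ^ 2 ^ k) * (a₁ ^ 2 ^ k * a₂ ^ 2 ^ k)
      = a₁ ^ 2 ^ k * (a₂ ^ 2 ^ k * a₁ ^ 2 ^ k) * a₂ ^ 2 ^ k := by group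
    _ = (a₁ ^ 2 ^ k * a₁ ^ 2 ^ k) * (a₂ ^ 2 ^ k * a₂ ^ 2 ^ k) := by rw [c.symm.eq]; group
    _ = 1 := by rw [x_sq h, z_sq h, one_mul]

theorem e_ne_one : a₁ ^ 2 ^ k * a₂ ^ 2 ^ k ≠ 1 := by
  intro hc
  have h1 : a₁ ^ (((2 ^ k : ℕ) : ℤ)) = a₂ ^ (-((2 ^ k : ℕ) : ℤ)) := by
    rw [zpow_natCast, zpow_neg, zpow_natCast]
    exact eq_inv_of_mul_eq_one_left hc
  have h2 := h.dir _ _ h1
  rw [zpow_natCast] at h2
  exact x_ne_one h h2

/-- If `y ^ 2 ^ (k + 1)` is conjugate to `e`, and `e` is not conjugate to `x`, it is `e`. -/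
theorem power' {y : G} (hy : y ∈ S) (hye : IsConj (y ^ 2 ^ (k + 1)) (a₁ ^ 2 ^ k * a₂ ^ 2 ^ k))
    (hx : ¬ IsConj (a₁ ^ 2 ^ k) (a₁ ^ 2 ^ k * a₂ ^ 2 ^ k)) :
    y ^ 2 ^ (k + 1) = a₁ ^ 2 ^ k * a₂ ^ 2 ^ k ∧ (y ∈ P → ∃ i j : ℤ, Odd i ∧ Odd j ∧ y * y = a₁ ^ i * a₂ ^ j) := by
  obtain ⟨c, hc⟩ := isConj_iff.1 hye
  have h1 : y ^ 2 ^ (k + 1) = c⁻¹ * (a₁ ^ 2 ^ k * a₂ ^ 2 ^ k) * c := by rw [← hc]; group
  have h2 : y ^ 2 ^ (k + 2) = 1 := by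
    rw [show (2 : ℕ) ^ (k + 2) = 2 ^ (k + 1) * 2 by ring, pow_mul, pow_two, h1]
    calc c⁻¹ * (a₁ ^ 2 ^ k * a₂ ^ 2 ^ k) * c * (c⁻¹ * (a₁ ^ 2 ^ k * a₂ ^ 2 ^ k) * c)
        = c⁻¹ * ((a₁ ^ 2 ^ k * a₂ ^ 2 ^ k) * (a₁ ^ 2 ^ k * a₂ ^ 2 ^ k)) * c := by group
      _ = 1 := by rw [e_sq h]; group
  have hne1 : y ^ 2 ^ (k + 1) ≠ 1 := by
    intro h3
    rw [h3, isConj_one_right] at hye
    exact e_ne_one h hye
  have hnex : y ^ 2 ^ (k + 1) ≠ a₁ ^ 2 ^ k := by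
    intro h3
    rw [h3] at hye
    exact hx hye
  have hnez : y ^ 2 ^ (k + 1) ≠ a₂ ^ 2 ^ k := by
    intro h3
    rw [h3] at hye
    exact hx ((conj_xz h).trans hye)
  obtain ⟨i, j, hij, hP⟩ := power h hy h2
  rcases Int.even_or_odd i with hi | hi <;> rcases Int.even_or_odd j with hj | hj
  · rw [(xe h hi).1, (xe h hj).2, one_mul] at hij
    exact absurd hij hne1
  · rw [(xe h hi).1, (xo h hj).2, one_mul] at hij
    exact absurd hij hnez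
  · rw [(xo h hi).1, (xe h hj).2, mul_one] at hij
    exact absurd hij hnex
  · rw [(xo h hi).1, (xo h hj).2] at hij
    exact ⟨hij, fun hyP => ⟨i, j, hi, hj, hP hyP⟩⟩

theorem relIndex_eq : P.relIndex S = 2 := by
  unfold Subgroup.relIndex
  rw [Subgroup.index_eq_two_iff]
  refine ⟨⟨s, h.sS⟩, fun b => ?_⟩
  rw [mem_subgroupOf, mem_subgroupOf]
  rcases h.cov b b.2 with h1 | h1
  · right
    refine ⟨h1, fun h2 => h.sP ?_⟩
    have h3 := P.mul_mem (P.inv_mem h1) h2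
    simpa using h3
  · by_cases h2 : (b : G) ∈ P
    · right
      refine ⟨h2, fun h2' => h.sP ?_⟩
      have h3 := P.mul_mem (P.inv_mem h2) h2'
      simpa using h3
    · left
      refine ⟨?_, h2⟩
      have h3 := h.nrm s h.sS _ h1
      have e : s * (s * (b : G)) * s⁻¹ = (b : G) * s := by
        rw [← mul_assoc, h.ss, one_mul, h.s_inv]
      rw [e] at h3
      exact h3

/-- The last step: `s` is not conjugate to `x`. -/
theorem final (T : Sylow 2 G) (hT : (T : Subgroup G) = S) {g : G} (gP : g ∈ P) (gs : Commute g s)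
    (gk : g ^ 2 ^ (k + 1) = a₁ ^ 2 ^ k * a₂ ^ 2 ^ k)
    (ginv : b₁ * b₂ * (g * g) * (b₁ * b₂)⁻¹ = (g * g)⁻¹)
    (hx : ¬ IsConj (a₁ ^ 2 ^ k) (a₁ ^ 2 ^ k * a₂ ^ 2 ^ k))
    (hb : IsConj (b₁ * b₂) (a₁ ^ 2 ^ k * a₂ ^ 2 ^ k))
    (syl : ∀ R : Subgroup G, IsPGroup 2 R → (∀ r ∈ R, Commute r (a₁ ^ 2 ^ k)) →
      ∃ c, Commute c (a₁ ^ 2 ^ k) ∧ ∀ r ∈ R, c * r * c⁻¹ ∈ P)
    {c : G} (hc : c * s * c⁻¹ = a₁ ^ 2 ^ k) : False := by
  have hbs : Commute (b₁ * b₂) s := by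
    have h1 : s * (b₁ * b₂) * s⁻¹ = b₁ * b₂ := by
      have e : s * (b₁ * b₂) * s⁻¹ = (s * b₁ * s⁻¹) * (s * b₂ * s⁻¹) := by group
      rw [e, h.sb, h.sb', h.bc.eq]
    exact (mul_inv_eq_iff_eq_mul.mp h1).symm
  have hb12 : b₁ * b₂ ∈ P := P.mul_mem h.bP h.bP2
  let R0 : Subgroup G := centralizer {s} ⊓ S
  have hR0 : IsPGroup 2 R0 := by
    have h1 : R0 ≤ (T : Subgroup G) := by rw [hT]; exact inf_le_right
    exact T.isPGroup'.to_le h1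
  obtain ⟨d, hd1, hd2⟩ := syl (R0.map (MulAut.conj c).toMonoidHom) (hR0.map _) (by
    rintro _ ⟨r, hr, rfl⟩
    have h1 : Commute r s := by
      have := mem_centralizer_singleton_iff.1 hr.1
      exact this
    have h2 := h1.map (MulAut.conj c)
    simp only [MulAut.conj_apply] at h2
    rw [hc] at h2
    exact h2)
  have hmem : ∀ r, Commute r s → r ∈ S → (d * c) * r * (d * c)⁻¹ ∈ P := by
    intro r hr hrS
    have := hd2 (c * r * c⁻¹) ⟨r, ⟨mem_centralizer_singleton_iff.2 hr.eq, hrS⟩, rfl⟩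
    have e : (d * c) * r * (d * c)⁻¹ = d * (c * r * c⁻¹) * d⁻¹ := by group
    rw [e]
    exact this
  set f : G := d * c with hf
  have hfs : f * s * f⁻¹ = a₁ ^ 2 ^ k := by
    have e : f * s * f⁻¹ = d * (c * s * c⁻¹) * d⁻¹ := by rw [hf]; group
    rw [e, hc, hd1.eq]
    group
  have hyP : f * g * f⁻¹ ∈ P := hmem g gs (h.PS gP)
  have hbP : f * (b₁ * b₂) * f⁻¹ ∈ P := hmem _ hbs (h.PS hb12)
  have hpw : (f * g * f⁻¹) ^ 2 ^ (k + 1) = f * (a₁ ^ 2 ^ k * a₂ ^ 2 ^ k) * f⁻¹ := by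
    rw [conj_pow, gk]
  obtain ⟨h1, h2⟩ := power' h (h.PS hyP) (by
    rw [hpw, isConj_iff]
    exact ⟨f⁻¹, by group⟩) hx
  obtain ⟨i, j, hi, hj, hij⟩ := h2 hyP
  -- `b'` inverts `a₁`
  have hinv : (f * (b₁ * b₂) * f⁻¹) * a₁ * (f * (b₁ * b₂) * f⁻¹)⁻¹ = a₁⁻¹ := by
    rcases (h.act _ hbP).1 with h3 | h3
    · exfalso
      have e1 : (f * (b₁ * b₂) * f⁻¹) * (a₁ ^ i * a₂ ^ j) * (f * (b₁ * b₂) * f⁻¹)⁻¹ =
          (a₁ ^ i * a₂ ^ j)⁻¹ := by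
        rw [← hij]
        calc (f * (b₁ * b₂) * f⁻¹) * (f * g * f⁻¹ * (f * g * f⁻¹)) * (f * (b₁ * b₂) * f⁻¹)⁻¹
            = f * (b₁ * b₂ * (g * g) * (b₁ * b₂)⁻¹) * f⁻¹ := by group
          _ = f * (g * g)⁻¹ * f⁻¹ := by rw [ginv]
          _ = _ := by group
      have e2 : ∀ q : G, q * (a₁ ^ i * a₂ ^ j) * q⁻¹ = (q * a₁ * q⁻¹) ^ i * (q * a₂ * q⁻¹) ^ j := by
        intro q
        rw [conj_zpow, conj_zpow]; group
      have e3 : (a₁ ^ i * a₂ ^ j)⁻¹ = a₁ ^ (-i) * a₂ ^ (-j) := by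
        rw [(h.aa.zpow_zpow i j).eq, mul_inv_rev, zpow_neg, zpow_neg]
      rw [e2, e3, h3] at e1
      have hcc : a₁ ^ i = a₁ ^ (-i) := by
        rcases (h.act2 hbP).1 with h4 | h4
        · rw [h4] at e1
          exact (h.coord e1).1
        · rw [h4, inv_zpow'] at e1
          exact (h.coord e1).1
      have h5 := h.four_dvd (h.pow_eq.1 hcc)
      obtain ⟨l, rfl⟩ := hi
      omega
    · exact h3
  -- `b' x` is conjugate to `b'`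
  obtain ⟨m, hm⟩ : ∃ m, k = m + 1 := ⟨k - 1, by have := h.hk; omega⟩
  have hi1 : a₁ ^ 2 ^ m * a₁ ^ 2 ^ m = a₁ ^ 2 ^ k := by
    rw [← pow_add, hm, pow_succ, mul_two]
  have hbx : IsConj (f * (b₁ * b₂) * f⁻¹) (f * (b₁ * b₂) * f⁻¹ * a₁ ^ 2 ^ k) := by
    rw [isConj_iff]
    refine ⟨(a₁ ^ 2 ^ m)⁻¹, ?_⟩
    set q := f * (b₁ * b₂) * f⁻¹ with hq
    have h3 : q * a₁ ^ 2 ^ m * q⁻¹ = (a₁ ^ 2 ^ m)⁻¹ := by
      rw [← conj_pow, hinv, inv_pow]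
    have h4 : (a₁ ^ 2 ^ m)⁻¹ * q = q * a₁ ^ 2 ^ m := (mul_inv_eq_iff_eq_mul.mp h3).symm
    rw [h4, inv_inv, mul_assoc, hi1]
  apply hx
  -- chain
  have c1 : IsConj (f * (b₁ * b₂) * f⁻¹) (a₁ ^ 2 ^ k * a₂ ^ 2 ^ k) :=
    (isConj_iff.2 ⟨f⁻¹, by group⟩ : IsConj (f * (b₁ * b₂) * f⁻¹) (b₁ * b₂)).trans hb
  have c2 : IsConj s (b₁ * b₂ * s) := by
    rw [isConj_iff]
    refine ⟨b₁, ?_⟩
    rw [h.b_inv]
    calc b₁ * s * b₁ = b₁ * (s * b₁ * s⁻¹) * s := by group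
      _ = b₁ * b₂ * s := by rw [h.sb]
  have c3 : IsConj (b₁ * b₂ * s) (f * (b₁ * b₂) * f⁻¹ * a₁ ^ 2 ^ k) := by
    rw [isConj_iff]
    refine ⟨f, ?_⟩
    rw [← hfs]
    group
  have c4 : IsConj (a₁ ^ 2 ^ k) s := by
    rw [isConj_iff]
    refine ⟨f⁻¹, ?_⟩
    rw [← hfs]
    group
  exact ((c4.trans c2).trans c3).trans (hbx.symm.trans c1)

/-- **Section 5A.** -/
theorem kill [Finite G] (T : Sylow 2 G) (hT : (T : Subgroup G) = S) (hG : ∀ f : G →* ℤˣ, f s = 1)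
    {g : G} (gP : g ∈ P) (gs : Commute g s)
    (gk : g ^ 2 ^ (k + 1) = a₁ ^ 2 ^ k * a₂ ^ 2 ^ k)
    (ginv : b₁ * b₂ * (g * g) * (b₁ * b₂)⁻¹ = (g * g)⁻¹)
    (hx : ¬ IsConj (a₁ ^ 2 ^ k) (a₁ ^ 2 ^ k * a₂ ^ 2 ^ k))
    (hb : IsConj (b₁ * b₂) (a₁ ^ 2 ^ k * a₂ ^ 2 ^ k))
    (syl : ∀ R : Subgroup G, IsPGroup 2 R → (∀ r ∈ R, Commute r (a₁ ^ 2 ^ k)) →
      ∃ c, Commute c (a₁ ^ 2 ^ k) ∧ ∀ r ∈ R, c * r * c⁻¹ ∈ P) : False := by
  have hgT : g ∈ (T : Subgroup G) := by rw [hT]; exact h.PS gP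
  have hR : IsPGroup 2 (zpowers g) := T.isPGroup'.to_le (by rwa [zpowers_le])
  obtain ⟨c, hc1, hc2⟩ := SylowSp4.ExtTransfer.exists_extremal T P (by rw [hT]; exact h.PS)
    (by rw [hT]; exact relIndex_eq h) s h.ss hG (zpowers g) hR (by
      intro r hr
      obtain ⟨i, rfl⟩ := mem_zpowers_iff.1 hr
      exact (gs.zpow_left i).eq)
  have hy : c * g * c⁻¹ ∈ S := by
    rw [← hT]
    exact hc2 g (mem_zpowers g)
  have hpw : (c * g * c⁻¹) ^ 2 ^ (k + 1) = c * (a₁ ^ 2 ^ k * a₂ ^ 2 ^ k) * c⁻¹ := by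
    rw [conj_pow, gk]
  obtain ⟨h1, h2⟩ := power' h hy (by
    rw [hpw, isConj_iff]
    exact ⟨c⁻¹, by group⟩) hx
  have hss : c * s * c⁻¹ * (c * s * c⁻¹) = 1 := by
    calc c * s * c⁻¹ * (c * s * c⁻¹) = c * (s * s) * c⁻¹ := by group
      _ = 1 := by rw [h.ss]; group
  have hty : Commute (c * s * c⁻¹) (c * g * c⁻¹) := by
    have := gs.symm.map (MulAut.conj c)
    simpa using this
  obtain ⟨i, j, hij⟩ := t_mem h hc1 hss hy hty (by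
    intro h3
    obtain ⟨m, hm⟩ : ∃ m, k = m + 1 := ⟨k - 1, by have := h.hk; omega⟩
    apply e_ne_one h
    rw [← h1]
    have e : (2 : ℕ) ^ (k + 1) = 4 * 2 ^ m := by rw [hm]; ring
    rw [e, pow_mul]
    have e4 : (c * g * c⁻¹) ^ 4 = 1 := by
      rw [← h3]
      simp only [pow_succ, pow_zero, one_mul, mul_assoc]
    rw [e4, one_pow]) h2
  -- `t = c s c⁻¹` is in `⟨x, z⟩`
  have h3 : a₁ ^ (i * 2) * a₂ ^ (j * 2) = a₁ ^ (0 : ℤ) * a₂ ^ (0 : ℤ) := by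
    have e := pow_A h (i := i) (j := j) 2
    rw [← hij, pow_two, hss] at e
    push_cast at e
    rw [← e]
    simp
  have h4 := h.coord h3
  rw [zpow_zero, zpow_zero] at h4
  have key : ∀ i : ℤ, (2 : ℤ) ^ (k + 1) ∣ i * 2 → ∃ i', i = i' * 2 ^ k := by
    rintro i ⟨l, hl⟩
    refine ⟨l, ?_⟩
    apply mul_right_cancel₀ (two_ne_zero (α := ℤ))
    rw [hl]
    ring
  obtain ⟨i', rfl⟩ := key i (h.pow_one.1 h4.1)
  obtain ⟨j', rfl⟩ := key j (h.pow_one2.1 h4.2)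
  have hsP : ∀ p ∈ P, c * s * c⁻¹ ≠ c * p * c⁻¹ := by
    intro p hp he
    apply h.sP
    have : s = p := by
      have h5 := mul_right_cancel he
      exact mul_left_cancel h5
    rw [this]
    exact hp
  rcases Int.even_or_odd i' with hi | hi <;> rcases Int.even_or_odd j' with hj | hj
  · rw [(xe h hi).1, (xe h hj).2, one_mul] at hij
    exact hsP 1 P.one_mem (by rw [hij]; group)
  · rw [(xe h hi).1, (xo h hj).2, one_mul] at hij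
    refine final h T hT gP gs gk ginv hx hb syl (c := s * c) ?_
    have e : s * c * s * (s * c)⁻¹ = s * (c * s * c⁻¹) * s⁻¹ := by group
    rw [e, hij, ← conj_pow, h.sa']
  · rw [(xo h hi).1, (xe h hj).2, mul_one] at hij
    exact final h T hT gP gs gk ginv hx hb syl hij
  · rw [(xo h hi).1, (xo h hj).2, ← h1, hpw] at hij
    exact hsP _ (P.mul_mem (P.pow_mem h.aP _) (P.pow_mem h.aP2 _)) hij

end

end Cfsg.Agent.GH.L2.CaseIKill
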