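import Cfsg.Agent.GH.L2.CaseISitu
import Cfsg.Agent.GH.L2.CaseIG
import Cfsg.Agent.GH.L2.TypeL4Of
import Cfsg.Agent.LFourA.SylDih

/-!
# GH-L2, Case I (blueprints/GH-L2-CaseI-helper153.md): assembly of Theorem I on the 2-group side
-/

set_option autoImplicit false

open Subgroup
open Cfsg.Agent.GH.L2One.DihD
open Cfsg.Agent.GH.L2.CaseIDih
open Cfsg.Agent.GH.L2.CaseISitu

namespace Cfsg.Agent.GH.L2.CaseIMain

variable {G : Type*} [Group G]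

/-- `Dih D r c n` is a dihedral group. -/
theorem dih_equiv {D : Subgroup G} {r c : G} {n : ℕ} (h : Dih D r c n) :
    Nonempty (D ≃* DihedralGroup (2 ^ n)) := by
  have : NeZero (2 ^ n) := ⟨by positivity⟩
  have hrp : r ^ 2 ^ n = 1 := by rw [← h.ord]; exact pow_orderOf_eq_one r
  let φ : DihedralGroup (2 ^ n) →* G := Cfsg.Agent.LFourA.SylDih.dih r c hrp h.cc h.crc
  have hinj : Function.Injective φ := by
    rw [injective_iff_map_eq_one]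
    rintro (i | i) h1
    · have h2 : r ^ i.val = 1 := h1
      have h3 := orderOf_dvd_of_pow_eq_one h2
      rw [h.ord] at h3
      have h4 : i.val < 2 ^ n := ZMod.val_lt i
      have h5 : i.val = 0 := Nat.eq_zero_of_dvd_of_lt h3 h4
      have h6 : i = 0 := (ZMod.val_eq_zero i).1 h5
      rw [h6]; rfl
    · exfalso
      have h2 : c * r ^ i.val = 1 := h1
      apply h.ncz
      have h3 : c = (r ^ i.val)⁻¹ := eq_inv_of_mul_eq_one_left h2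
      rw [h3]
      exact inv_mem (pow_mem (mem_zpowers r) _)
  have hr : φ.range = D := by
    have h1n : 1 < 2 ^ n := Nat.one_lt_two_pow (by have := h.two_le; omega)
    have hrm : r ∈ φ.range := ⟨DihedralGroup.r 1, by
      show r ^ (1 : ZMod (2 ^ n)).val = r
      have : Fact (1 < 2 ^ n) := ⟨h1n⟩
      rw [ZMod.val_one, pow_one]⟩
    have hcm : c ∈ φ.range := ⟨DihedralGroup.sr 0, by
      show c * r ^ (0 : ZMod (2 ^ n)).val = c
      rw [ZMod.val_zero, pow_zero, mul_one]⟩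
    apply le_antisymm
    · rintro _ ⟨i | i, rfl⟩
      · exact D.pow_mem h.r_mem _
      · exact D.mul_mem h.c_mem (D.pow_mem h.r_mem _)
    · intro g hg
      rcases h.cases hg with ⟨k, rfl⟩ | ⟨k, rfl⟩
      · exact zpow_mem hrm k
      · exact mul_mem (zpow_mem hrm k) hcm
  exact ⟨(MulEquiv.subgroupCongr hr.symm).trans (MonoidHom.ofInjective hinj).symm⟩

variable {S P D₁ D₂ : Subgroup G} {a₁ b₁ a₂ b₂ : G} {m : ℕ}

/-- Change of coordinates: `a₂ := s a₁ s⁻¹`, `b₂ := s b₁ s⁻¹`. -/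
theorem change (h : Situ S P D₁ D₂ a₁ b₁ a₂ b₂ m) {s : G} (hs : s ∈ S) (hsP : s ∉ P) :
    Situ S P D₁ D₂ a₁ b₁ (s * a₁ * s⁻¹) (s * b₁ * s⁻¹) m where
  dih₁ := h.dih₁
  dih₂ :=
    { two_le := h.dih₁.two_le
      ord := by
        rw [← h.dih₁.ord]
        exact orderOf_injective (MulAut.conj s).toMonoidHom (MulAut.conj s).injective a₁
      cc := by
        calc s * b₁ * s⁻¹ * (s * b₁ * s⁻¹) = s * (b₁ * b₁) * s⁻¹ := by group
          _ = 1 := by rw [h.dih₁.cc]; group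
      crc := by
        calc s * b₁ * s⁻¹ * (s * a₁ * s⁻¹) * (s * b₁ * s⁻¹) = s * (b₁ * a₁ * b₁) * s⁻¹ := by group
          _ = (s * a₁ * s⁻¹)⁻¹ := by rw [h.dih₁.crc]; group
      ncz := by
        rintro ⟨k, hk⟩
        apply h.dih₁.ncz
        refine ⟨k, ?_⟩
        have h1 : (s * a₁ * s⁻¹) ^ k = s * a₁ ^ k * s⁻¹ := conj_zpow
        have h2 : s * a₁ ^ k * s⁻¹ = s * b₁ * s⁻¹ := by rw [← h1]; exact hk
        exact mul_left_cancel (mul_right_cancel h2)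
      mem := by
        have hsi : s⁻¹ ∉ P := fun h1 => hsP (inv_mem_iff.1 h1)
        intro g
        constructor
        · intro hg
          have h1 := h.s₂ s⁻¹ (inv_mem hs) hsi g hg
          rw [inv_inv] at h1
          have h2 : g = s * (s⁻¹ * g * s) * s⁻¹ := by group
          rcases h.dih₁.cases h1 with ⟨i, hi⟩ | ⟨i, hi⟩
          · left
            refine ⟨i, ?_⟩
            rw [h2, hi, conj_zpow]
          · right
            refine ⟨i, ?_⟩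
            rw [h2, hi, conj_zpow]
            group
        · rintro (⟨i, rfl⟩ | ⟨i, rfl⟩)
          · rw [conj_zpow]
            exact h.s₁ s hs hsP _ (h.dih₁.rpow_mem i)
          · have h3 : (s * a₁ * s⁻¹) ^ i * (s * b₁ * s⁻¹) = s * (a₁ ^ i * b₁) * s⁻¹ := by
              rw [conj_zpow]; group
            rw [h3]
            exact h.s₁ s hs hsP _ (mul_mem (h.dih₁.rpow_mem i) h.dih₁.c_mem) }
  P_le := h.P_le
  D₁_le := h.D₁_le
  D₂_le := h.D₂_le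
  idx := h.idx
  comm := h.comm
  disj := h.disj
  n₁ := h.n₁
  n₂ := h.n₂
  s₁ := h.s₁
  s₂ := h.s₂
  act₁ := h.act₁
  act₂ := by
    intro p hp
    have h1 : s⁻¹ * p * s⁻¹⁻¹ ∈ P := h.nP (inv_mem hs) hp
    have h2 : p * (s * a₁ * s⁻¹) * p⁻¹ =
        s * ((s⁻¹ * p * s⁻¹⁻¹) * a₁ * (s⁻¹ * p * s⁻¹⁻¹)⁻¹) * s⁻¹ := by group
    rw [h2]
    rcases h.act₁ _ h1 with h3 | h3
    · left; rw [h3]
    · right; rw [h3]; group
  cent := h.cent

/-- The structure of section 5A. -/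
theorem to_base (h : Situ S P D₁ D₂ a₁ b₁ a₂ b₂ m) {s : G} (hs : s ∈ S) (hsP : s ∉ P)
    (ss : s * s = 1) :
    CaseIBase.Base (m - 1) S P a₁ b₁ (s * a₁ * s⁻¹) (s * b₁ * s⁻¹) s := by
  have h' := change h hs hsP
  have hm := h.dih₁.two_le
  exact
    { hk := by omega
      PS := h.P_le
      cov := fun g hg => by
        by_cases hgP : g ∈ P
        · exact Or.inl hgP
        · exact Or.inr (h.idx s hs hsP g hg hgP)
      nrm := fun g hg p hp => h.nP hg hp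
      sS := hs
      sP := hsP
      ss := ss
      aP := h.D₁_le h.dih₁.r_mem
      bP := h.D₁_le h.dih₁.c_mem
      sa := rfl
      sb := rfl
      oa := by rw [h.dih₁.ord]; congr 1; omega
      bb := h.dih₁.cc
      ba := by rw [h.dih₁.c_inv]; exact h.dih₁.crc
      aa := h.comm _ h.dih₁.r_mem _ h'.dih₂.r_mem
      ab := h.comm _ h.dih₁.r_mem _ h'.dih₂.c_mem
      bc := h.comm _ h.dih₁.c_mem _ h'.dih₂.c_mem
      dir := fun i j hij => h.disj _ (h.dih₁.rpow_mem i) (by rw [hij]; exact h'.dih₂.rpow_mem j)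
      act := fun p hp => ⟨h.act₁ p hp, (h.A₁ hp).refl⟩
      cen := by
        intro p hp c1 c2 c3 c4
        have hI : InB D₁ D₂ p := (h'.inB_iff hp).2 ⟨ev_of_comm c2.eq, ev_of_comm c4.eq⟩
        obtain ⟨d, hd, e, he, hde⟩ := hI
        rw [hde] at c1 c3
        have h1 : d * a₁ = a₁ * d := by
          have h2 := h.comm a₁ h.dih₁.r_mem e he
          have h3 : d * a₁ * e = a₁ * d * e := by
            calc d * a₁ * e = d * (a₁ * e) := by group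
              _ = d * e * a₁ := by rw [h2]; group
              _ = a₁ * (d * e) := c1.eq
              _ = _ := by group
          exact mul_right_cancel h3
        have h4 : e * (s * a₁ * s⁻¹) = (s * a₁ * s⁻¹) * e := by
          have h2 := h.comm d hd _ h'.dih₂.r_mem
          have h3 : d * (e * (s * a₁ * s⁻¹)) = d * ((s * a₁ * s⁻¹) * e) := by
            calc d * (e * (s * a₁ * s⁻¹)) = d * e * (s * a₁ * s⁻¹) := by group
              _ = (s * a₁ * s⁻¹) * (d * e) := c3.eq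
              _ = ((s * a₁ * s⁻¹) * d) * e := by group
              _ = (d * (s * a₁ * s⁻¹)) * e := by rw [h2]
              _ = _ := by group
          exact mul_left_cancel h3
        obtain ⟨i, rfl⟩ := rot_of_comm h.dih₁ hd h1
        obtain ⟨j, rfl⟩ := rot_of_comm h'.dih₂ he h4
        exact ⟨i, j, hde⟩ }

/-- An element which is odd on both factors. -/
theorem exists_odd (h : Situ S P D₁ D₂ a₁ b₁ a₂ b₂ m) {s : G} (hs : s ∈ S) (hsP : s ∉ P) {p : G}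
    (hp : p ∈ P) (hpB : ¬ InB D₁ D₂ p) : ∃ g ∈ P, ¬ Ev a₁ b₁ g ∧ ¬ Ev a₂ b₂ g := by
  have hq := h.nP hs hp
  have e1 := h.ev_conj hs hsP hp
  have e2 := h.ev_conj' hs hsP hp
  have m1 := h.ev₁_mul hp hq
  have m2 := h.ev₂_mul hp hq
  rw [h.inB_iff hp] at hpB
  by_cases h1 : Ev a₁ b₁ p
  · have h2 : ¬ Ev a₂ b₂ p := fun h2 => hpB ⟨h1, h2⟩
    refine ⟨_, mul_mem hp hq, ?_, ?_⟩
    · rw [m1, e2]; tauto
    · rw [m2, e1]; tauto
  · by_cases h2 : Ev a₂ b₂ p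
    · refine ⟨_, mul_mem hp hq, ?_, ?_⟩
      · rw [m1, e2]; tauto
      · rw [m2, e1]; tauto
    · exact ⟨p, hp, h1, h2⟩

/-- (δ) `P = D₁ D₂`: the Sylow group is `D ≀ 2`. -/
theorem typeL4_of_eq (h : Situ S P D₁ D₂ a₁ b₁ a₂ b₂ m) {y : G} (hy : y ∈ S) (hyP : y ∉ P)
    (hB : ∀ p ∈ P, InB D₁ D₂ p) : Defs.TypeL4 S := by
  obtain ⟨d, hd, hsS, hsP, hss⟩ := h.exists_invol hy hyP (hB _ (h.idx y hy hyP y hy hyP))
  obtain ⟨s, hs⟩ : ∃ s, s = d⁻¹ * y := ⟨_, rfl⟩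
  rw [← hs] at hsS hsP hss
  have hsi : s⁻¹ = s := inv_eq_of_mul_eq_one_left hss
  have hD₂ : ∀ e ∈ D₂, ∃ f ∈ D₁, e = s * f * s⁻¹ := by
    intro e he
    refine ⟨s * e * s⁻¹, h.s₂ s hsS hsP e he, ?_⟩
    calc e = (s * s) * e * (s * s)⁻¹ := by rw [hss]; group
      _ = _ := by group
  have hw : TypeL4Of.WrSub S D₁ s :=
    { tt := hss
      tne := by rintro rfl; exact hsP (one_mem _)
      W_le := h.D₁_le.trans h.P_le
      t_mem := hsS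
      comm := fun u hu v hv => h.comm u hu _ (h.s₁ s hsS hsP v hv)
      inf := fun u hu v hv he => h.disj u hu (he ▸ h.s₁ s hsS hsP v hv)
      cov := by
        intro w hw
        by_cases hwP : w ∈ P
        · obtain ⟨u, hu, e, he, rfl⟩ := hB w hwP
          obtain ⟨f, hf, rfl⟩ := hD₂ e he
          exact ⟨u, hu, f, hf, Or.inl rfl⟩
        · obtain ⟨u, hu, e, he, hue⟩ := hB _ (h.idx w hw hwP s hsS hsP)
          obtain ⟨f, hf, rfl⟩ := hD₂ e he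
          refine ⟨u, hu, f, hf, Or.inr ?_⟩
          rw [← hue, mul_assoc, hss, mul_one] }
  exact TypeL4Of.typeL4_of_wr hw h.dih₁.two_le (dih_equiv h.dih₁)

theorem zz_eq_conj (h : Situ S P D₁ D₂ a₁ b₁ a₂ b₂ m) {s : G} (hs : s ∈ S) (hsP : s ∉ P) :
    zz (s * a₁ * s⁻¹) m = zz a₂ m := by
  have h' := change h hs hsP
  rcases h.dih₂.center_of_comm h'.dih₂.z_mem (fun d hd => (h'.dih₂.z_comm hd).symm) with h1 | h1
  · exact absurd h1 h'.dih₂.z_ne_one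
  · exact h1

/-- A pair of reflections is conjugate to `b₁ b₂` or to `b₁ (a₂ b₂)`. -/
theorem exists_conj_pair (h : Situ S P D₁ D₂ a₁ b₁ a₂ b₂ m) {g : G} (hg : g ∈ P)
    (h1 : ¬ Ev a₁ b₁ g) (i j : ℤ) :
    IsConj (a₁ ^ i * b₁ * (a₂ ^ j * b₂)) (b₁ * b₂) ∨
      IsConj (a₁ ^ i * b₁ * (a₂ ^ j * b₂)) (b₁ * (a₂ * b₂)) := by
  have hcomm := h.comm
  -- the case `i` even
  have key : ∀ i j : ℤ, Even i → IsConj (a₁ ^ i * b₁ * (a₂ ^ j * b₂)) (b₁ * b₂) ∨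
      IsConj (a₁ ^ i * b₁ * (a₂ ^ j * b₂)) (b₁ * (a₂ * b₂)) := by
    rintro i j ⟨k, rfl⟩
    have e1 : ∀ (l : ℤ) (w : G), w ∈ D₂ → (a₁ ^ (-k) * a₂ ^ (-l)) * (a₁ ^ (k + k) * b₁ * w) *
        (a₁ ^ (-k) * a₂ ^ (-l))⁻¹ = b₁ * (a₂ ^ (-l) * w * a₂ ^ l) := by
      intro l w hw
      have c1 := hcomm _ (mul_mem (h.dih₁.rpow_mem (k + k)) h.dih₁.c_mem) _ (h.dih₂.rpow_mem (-l))
      have c2 := hcomm _ (h.dih₁.rpow_mem k) _ (mul_mem (mul_mem (h.dih₂.rpow_mem (-l)) hw)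
        (h.dih₂.rpow_mem l))
      have c3 : b₁ * a₁ ^ k = a₁ ^ (-k) * b₁ := h.dih₁.c_rpow k
      calc (a₁ ^ (-k) * a₂ ^ (-l)) * (a₁ ^ (k + k) * b₁ * w) * (a₁ ^ (-k) * a₂ ^ (-l))⁻¹
          = a₁ ^ (-k) * (a₂ ^ (-l) * (a₁ ^ (k + k) * b₁)) * w * a₂ ^ l * a₁ ^ k := by group
        _ = a₁ ^ (-k) * ((a₁ ^ (k + k) * b₁) * a₂ ^ (-l)) * w * a₂ ^ l * a₁ ^ k := by rw [c1]
        _ = a₁ ^ (-k) * (a₁ ^ (k + k) * b₁) * ((a₂ ^ (-l) * w * a₂ ^ l) * a₁ ^ k) := by group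
        _ = a₁ ^ (-k) * (a₁ ^ (k + k) * b₁) * (a₁ ^ k * (a₂ ^ (-l) * w * a₂ ^ l)) := by rw [c2]
        _ = a₁ ^ (-k) * a₁ ^ (k + k) * (b₁ * a₁ ^ k) * (a₂ ^ (-l) * w * a₂ ^ l) := by group
        _ = a₁ ^ (-k) * a₁ ^ (k + k) * (a₁ ^ (-k) * b₁) * (a₂ ^ (-l) * w * a₂ ^ l) := by rw [c3]
        _ = _ := by group
    rcases Int.even_or_odd' j with ⟨l, rfl | rfl⟩
    · left
      rw [isConj_iff]
      refine ⟨_, (e1 l _ (mul_mem (h.dih₂.rpow_mem _) h.dih₂.c_mem)).trans ?_⟩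
      have c3 : b₂ * a₂ ^ l = a₂ ^ (-l) * b₂ := h.dih₂.c_rpow l
      calc b₁ * (a₂ ^ (-l) * (a₂ ^ (2 * l) * b₂) * a₂ ^ l)
          = b₁ * (a₂ ^ (-l) * a₂ ^ (2 * l) * (b₂ * a₂ ^ l)) := by group
        _ = b₁ * (a₂ ^ (-l) * a₂ ^ (2 * l) * (a₂ ^ (-l) * b₂)) := by rw [c3]
        _ = _ := by group
    · right
      rw [isConj_iff]
      refine ⟨_, (e1 l _ (mul_mem (h.dih₂.rpow_mem _) h.dih₂.c_mem)).trans ?_⟩
      have c3 : b₂ * a₂ ^ l = a₂ ^ (-l) * b₂ := h.dih₂.c_rpow l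
      calc b₁ * (a₂ ^ (-l) * (a₂ ^ (2 * l + 1) * b₂) * a₂ ^ l)
          = b₁ * (a₂ ^ (-l) * a₂ ^ (2 * l + 1) * (b₂ * a₂ ^ l)) := by group
        _ = b₁ * (a₂ ^ (-l) * a₂ ^ (2 * l + 1) * (a₂ ^ (-l) * b₂)) := by rw [c3]
        _ = _ := by group
  by_cases hi : Even i
  · exact key i j hi
  · -- conjugate by `g`
    have hio : Odd i := Int.not_even_iff_odd.1 hi
    obtain ⟨i0, hi0⟩ := (h.A₁ hg).refl
    obtain ⟨j0, hj0⟩ := (h.A₂ hg).refl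
    obtain ⟨i1, hi1, hi1'⟩ := (h.A₁ hg).exists_zpow i
    obtain ⟨j1, hj1, hj1'⟩ := (h.A₂ hg).exists_zpow j
    have ho : Odd i0 := by
      rw [← Int.not_even_iff_odd]
      exact fun h2 => h1 ((ev_iff h.dih₁ hi0).2 h2)
    have e2 : g * (a₁ ^ i * b₁ * (a₂ ^ j * b₂)) * g⁻¹ = a₁ ^ (i1 + i0) * b₁ * (a₂ ^ (j1 + j0) * b₂) := by
      calc g * (a₁ ^ i * b₁ * (a₂ ^ j * b₂)) * g⁻¹ = (g * a₁ ^ i * g⁻¹) * (g * b₁ * g⁻¹) *
            ((g * a₂ ^ j * g⁻¹) * (g * b₂ * g⁻¹)) := by group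
        _ = a₁ ^ i1 * (a₁ ^ i0 * b₁) * (a₂ ^ j1 * (a₂ ^ j0 * b₂)) := by rw [hi1', hi0, hj1', hj0]
        _ = _ := by rw [zpow_add, zpow_add]; group
    have hev : Even (i1 + i0) := by
      have h3 : Odd i1 := by
        rcases hi1 with ⟨r, hr⟩
        obtain ⟨t, ht⟩ := hio
        exact ⟨t - r, by omega⟩
      exact h3.add_odd ho
    have e3 : IsConj (a₁ ^ i * b₁ * (a₂ ^ j * b₂)) (a₁ ^ (i1 + i0) * b₁ * (a₂ ^ (j1 + j0) * b₂)) :=
      isConj_iff.2 ⟨g, e2⟩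
    rcases key (i1 + i0) (j1 + j0) hev with h3 | h3
    · exact Or.inl (e3.trans h3)
    · exact Or.inr (e3.trans h3)

/-- Section 5A: `S - P` contains an involution. -/
theorem five_A [Finite G] (T : Sylow 2 G) (h : Situ (T : Subgroup G) P D₁ D₂ a₁ b₁ a₂ b₂ m)
    (hG : ∀ (f : G →* ℤˣ) (u : G), f u = 1) {s : G} (hs : s ∈ T) (hsP : s ∉ P) (ss : s * s = 1)
    {p : G} (hp : p ∈ P) (hpB : ¬ InB D₁ D₂ p)
    (hx : ¬ IsConj (zz a₁ m) (zz a₁ m * zz a₂ m))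
    {d₁ d₂ : G} (hd₁ : d₁ ∈ D₁) (hd₂ : d₂ ∈ D₂) (n1 : d₁ * d₁ = 1) (n2 : d₁ ≠ 1) (n3 : d₁ ≠ zz a₁ m)
    (n4 : d₂ * d₂ = 1) (n5 : d₂ ≠ 1) (n6 : d₂ ≠ zz a₂ m)
    (hd : IsConj (d₁ * d₂) (zz a₁ m * zz a₂ m))
    (syl : ∀ R : Subgroup G, IsPGroup 2 R → (∀ r ∈ R, Commute r (zz a₁ m)) →
      ∃ c, Commute c (zz a₁ m) ∧ ∀ r ∈ R, c * r * c⁻¹ ∈ P) : False := by
  have h' := change h hs hsP
  have hz := zz_eq_conj h hs hsP
  rw [← hz] at hx n6 hd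
  obtain ⟨g, hg, g1, g2⟩ := exists_odd h' hs hsP hp hpB
  obtain ⟨i0, hi0⟩ := (h'.A₁ hg).refl
  obtain ⟨j0, hj0⟩ := (h'.A₂ hg).refl
  have ho1 : Odd i0 := by
    rw [← Int.not_even_iff_odd]
    exact fun h2 => g1 ((ev_iff h'.dih₁ hi0).2 h2)
  have ho2 : Odd j0 := by
    rw [← Int.not_even_iff_odd]
    exact fun h2 => g2 ((ev_iff h'.dih₂ hj0).2 h2)
  obtain ⟨i, rfl⟩ : ∃ i : ℤ, d₁ = a₁ ^ i * b₁ := by
    rcases h'.dih₁.sq_one hd₁ n1 with h1 | h1 | h1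
    · exact absurd h1 n2
    · exact absurd h1 n3
    · exact h1
  obtain ⟨j, rfl⟩ : ∃ j : ℤ, d₂ = (s * a₁ * s⁻¹) ^ j * (s * b₁ * s⁻¹) := by
    rcases h'.dih₂.sq_one hd₂ n4 with h1 | h1 | h1
    · exact absurd h1 n5
    · exact absurd h1 n6
    · exact h1
  have hb := exists_conj_pair h' hg g1 i j
  exact CaseIG.false_of_odd (to_base h hs hsP ss) T rfl hG hg hi0 hj0 ho1 ho2 hx
    (hb.imp (fun h1 => h1.symm.trans hd) (fun h1 => h1.symm.trans hd)) syl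

end Cfsg.Agent.GH.L2.CaseIMain
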