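import Cfsg.Agent.GH.L2.CaseIAll
import Cfsg.Agent.GH.L2.CaseIAct

/-!
# GH-L2, Case I: from `CaseIStruct.Entry` and the fusion facts to `TypeL4`
-/

set_option autoImplicit false

open Subgroup
open Cfsg.Agent.GH.L2One Cfsg.Agent.GH.L2One.DihD

namespace Cfsg.Agent.GH.L2.CaseIPlug

variable {G : Type*} [Group G]

/-- **Case I**: the Sylow 2-subgroup is `D ≀ 2`. -/
theorem typeL4_of_entry [Finite G] (T : Sylow 2 G) {P D Q : Subgroup G} {a b x s : G} {m : ℕ}
    (h : CaseIStruct.Entry (T : Subgroup G) P D Q a b x s m) (hr : Cfsg.SectionalPRankLE 2 4 G)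
    (hG : commutator G = ⊤) {N R : Subgroup G} (core : CoreH (T : Subgroup G) N R x (x * zz a m))
    (conj_r : ∀ i : ℤ, IsConj ((s * a * s⁻¹) ^ i * (s * b * s⁻¹)) x)
    (conj_rz : ∀ i : ℤ, IsConj ((s * a * s⁻¹) ^ i * (s * b * s⁻¹) * zz a m) (x * zz a m))
    (conj_rr : ∃ i j : ℤ, IsConj ((s * a * s⁻¹) ^ i * (s * b * s⁻¹) * (a ^ j * b)) (x * zz a m))
    (ne : ¬ IsConj (x * zz a m) x) (sylx : ¬ 2 ∣ P.relIndex (centralizer {x})) :
    Defs.TypeL4 T := by
  have hsitu := CaseIAct.toSitu h hr T.isPGroup'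
  have hz := h.zz₁
  have hsP : s ∉ P := by
    intro h1
    have h2 := h.xP s h1
    have h3 : zz a m = x := by rw [← h.sx, h2, mul_inv_cancel_right]
    apply h.dih.z_ne_one
    exact h.disj _ h.dih.z_mem (h3 ▸ h.xQ)
  have hF : CaseIAll.Fu (T : Subgroup G) P h.D₁ D (s * a * s⁻¹) (s * b * s⁻¹) a b m N R :=
    { toSitu := hsitu
      core := by rw [hz]; exact core
      conj_r := by rw [hz]; exact conj_r
      conj_rz := by rw [hz]; exact conj_rz
      conj_rr := by rw [hz]; exact conj_rr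
      ne := by rw [hz]; exact ne
      sylx := by rw [hz]; exact sylx
      proper := ⟨s, h.sS, hsP⟩ }
  exact CaseIAll.main T hF hG

end Cfsg.Agent.GH.L2.CaseIPlug
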