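import Cfsg.Agent.GH.L2One.AutPslMain
import Cfsg.Agent.GH.L2One.A7
import Cfsg.Agent.GH.L2AutF

/-!
# GH-L2, Case I: the facts (K1)-(K4) for `PSL(2,q)` and `A₇`

`KData S d r c`: `L` a simple group, `S = ⟨r, c⟩` a Sylow 2-subgroup, dihedral of order `2^d` (a four-group if
`d = 2`), and the facts on the automorphisms of `L` behind (K1)-(K4) of blueprints/GH-L2-CaseI-helper153.md.

`Rep.kData`: for `PSL(2,q)`; `exists_kData_A7`: for `A₇`; `KData.map`: transport.
-/

set_option autoImplicit false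

open Subgroup

namespace Cfsg.Agent.GH.L2.CaseIRep

open Cfsg.Agent.GH.L2Aut Cfsg.Agent.GH.L2One

/-- The facts for a simple group `L` and its automorphisms. -/
structure KData {L : Type*} [Group L] (S : Subgroup L) (d : ℕ) (r c : L) : Prop where
  dih : AutSwap.Dih S d r c
  inv_conj : ∀ a b : L, a * a = 1 → a ≠ 1 → b * b = 1 → b ≠ 1 → ∃ k, k * a * k⁻¹ = b
  sq : ∀ α : MulAut L, (∃ n : ℕ, α ^ 2 ^ n = 1) → (∀ s ∈ S, α s = s) → α * α = 1
  cen2 : 3 ≤ d → ∀ α β : MulAut L, (∃ n : ℕ, α ^ 2 ^ n = 1) → (∃ n : ℕ, β ^ 2 ^ n = 1) →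
    (∀ s ∈ S, α s = s) → (∀ s ∈ S, β s = s) → (∀ l, α ≠ MulAut.conj l) → (∀ l, β ≠ MulAut.conj l) →
    ∃ l, α * β = MulAut.conj l
  pm : 3 ≤ d → ∀ α : MulAut L, (∃ n : ℕ, α ^ 2 ^ n = 1) → (∀ s ∈ S, α s ∈ S) →
    (∃ l, α * α = MulAut.conj l) → α r = r ∨ α r = r⁻¹
  move : 3 ≤ d → ∀ α : MulAut L, α * α = 1 → (∀ s ∈ S, α s = s) → (∀ l, α ≠ MulAut.conj l) →
    ∃ l, α l = l ∧ l * r ^ (2 ^ (d - 2) : ℤ) * l⁻¹ ∈ S ∧
      l * r ^ (2 ^ (d - 2) : ℤ) * l⁻¹ ≠ r ^ (2 ^ (d - 2) : ℤ)

namespace KData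

variable {L : Type*} [Group L] {S : Subgroup L} {d : ℕ} {r c : L}

/-- Transport along an isomorphism. -/
theorem map {L' : Type*} [Group L'] (F : KData S d r c) (e : L ≃* L') :
    KData (S.map e.toMonoidHom) d (e r) (e c) := by
  have hcong : ∀ (α : MulAut L') (y : L), MulAut.congr e.symm α y = e.symm (α (e y)) :=
    fun α y => rfl
  have hconj : ∀ l : L', MulAut.congr e.symm (MulAut.conj l) = MulAut.conj (e.symm l) := by
    intro l
    ext y
    rw [hcong]
    simp only [MulAut.conj_apply, map_mul, map_inv, MulEquiv.symm_apply_apply]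
  have hinj : Function.Injective (MulAut.congr e.symm) := (MulAut.congr e.symm).injective
  have hmem : ∀ {y : L}, y ∈ S → e y ∈ S.map e.toMonoidHom := fun hy => ⟨_, hy, rfl⟩
  have hmem' : ∀ {y : L'}, y ∈ S.map e.toMonoidHom → e.symm y ∈ S := by
    rintro _ ⟨y, hy, rfl⟩
    change e.symm (e y) ∈ S
    rw [MulEquiv.symm_apply_apply]; exact hy
  have hpow : ∀ {α : MulAut L'}, (∃ n : ℕ, α ^ 2 ^ n = 1) →
      ∃ n : ℕ, (MulAut.congr e.symm α) ^ 2 ^ n = 1 := by
    rintro α ⟨n, hn⟩
    exact ⟨n, by rw [← map_pow, hn, map_one]⟩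
  have hsq : ∀ {α : MulAut L'}, α * α = 1 →
      (MulAut.congr e.symm α) * (MulAut.congr e.symm α) = 1 := by
    intro α h
    rw [← map_mul, h, map_one]
  have hstab : ∀ {α : MulAut L'}, (∀ s ∈ S.map e.toMonoidHom, α s ∈ S.map e.toMonoidHom) →
      ∀ s ∈ S, MulAut.congr e.symm α s ∈ S := by
    intro α h s hs
    rw [hcong]
    exact hmem' (h _ (hmem hs))
  have hfix : ∀ {α : MulAut L'}, (∀ s ∈ S.map e.toMonoidHom, α s = s) →
      ∀ s ∈ S, MulAut.congr e.symm α s = s := by
    intro α h s hs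
    rw [hcong, h _ (hmem hs), MulEquiv.symm_apply_apply]
  have hout : ∀ {α : MulAut L'}, (∀ l, α ≠ MulAut.conj l) →
      ∀ l, MulAut.congr e.symm α ≠ MulAut.conj l := by
    intro α h l hl
    apply h (e l)
    apply hinj
    rw [hconj, MulEquiv.symm_apply_apply, hl]
  exact
    { dih :=
        { d_ge := F.dih.d_ge
          r_mem := hmem F.dih.r_mem
          c_mem := hmem F.dih.c_mem
          cc := by rw [← map_mul, F.dih.cc, map_one]
          crc := by rw [← map_mul, ← map_inv, ← map_mul, F.dih.crc, map_inv]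
          or_eq := by rw [e.orderOf_eq]; exact F.dih.or_eq
          c_not := by
            intro k h
            apply F.dih.c_not k
            apply e.injective
            rw [h, map_zpow]
          form := by
            rintro _ ⟨g, hg, rfl⟩
            obtain ⟨k, hk | hk⟩ := F.dih.form g hg
            · exact ⟨k, Or.inl (by rw [← map_zpow, ← hk]; rfl)⟩
            · exact ⟨k, Or.inr (by rw [← map_zpow, ← map_mul, ← hk]; rfl)⟩ }
      inv_conj := by
        intro a b ha ha1 hb hb1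
        obtain ⟨k, hk⟩ := F.inv_conj (e.symm a) (e.symm b) (by rw [← map_mul, ha, map_one])
          (fun h => ha1 (e.symm.injective (by rw [h, map_one])))
          (by rw [← map_mul, hb, map_one])
          (fun h => hb1 (e.symm.injective (by rw [h, map_one])))
        refine ⟨e k, e.symm.injective ?_⟩
        rw [map_mul, map_mul, map_inv, MulEquiv.symm_apply_apply, hk]
      sq := by
        intro α hα h
        apply hinj
        rw [map_mul, map_one]
        exact F.sq _ (hpow hα) (hfix h)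
      cen2 := by
        intro hd α β hα hβ h1 h2 h3 h4
        obtain ⟨l, hl⟩ := F.cen2 hd _ _ (hpow hα) (hpow hβ) (hfix h1) (hfix h2) (hout h3) (hout h4)
        refine ⟨e l, hinj ?_⟩
        rw [hconj, MulEquiv.symm_apply_apply, map_mul]
        exact hl
      pm := by
        intro hd α hα h ⟨l, hl⟩
        rcases F.pm hd _ (hpow hα) (hstab h) ⟨e.symm l, by rw [← map_mul, hl, hconj]⟩ with h1 | h1
        · left
          rw [hcong] at h1
          exact e.symm.injective (by rw [h1, MulEquiv.symm_apply_apply])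
        · right
          rw [hcong] at h1
          exact e.symm.injective (by rw [h1, map_inv, MulEquiv.symm_apply_apply])
      move := by
        intro hd α hα h1 h2
        obtain ⟨l, hl, hm, hn⟩ := F.move hd _ (hsq hα) (hfix h1) (hout h2)
        refine ⟨e l, ?_, ?_, ?_⟩
        · rw [hcong] at hl
          exact e.symm.injective (by rw [hl, MulEquiv.symm_apply_apply])
        · rw [← map_zpow, ← map_inv, ← map_mul, ← map_mul]
          exact hmem hm
        · intro h
          apply hn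
          rw [← map_zpow, ← map_inv, ← map_mul, ← map_mul] at h
          exact e.injective h }

/-- The data for one Sylow 2-subgroup give the data for every Sylow 2-subgroup. -/
theorem of_sylow [Finite L] {P : Sylow 2 L} (F : KData (P : Subgroup L) d r c)
    (P' : Sylow 2 L) : ∃ r' c' : L, KData (P' : Subgroup L) d r' c' := by
  have : Fact (Nat.Prime 2) := ⟨Nat.prime_two⟩
  obtain ⟨g, hg⟩ := MulAction.exists_smul_eq L P P'
  refine ⟨g * r * g⁻¹, g * c * g⁻¹, ?_⟩
  have h1 : (P' : Subgroup L) = (P : Subgroup L).map (MulAut.conj g).toMonoidHom := by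
    rw [← hg]; rfl
  rw [h1]
  exact F.map (MulAut.conj g)

end KData

/-! ### `PSL(2,q)` -/

section rep

variable {F : Type*} [Field F] [Finite F] {L : Type*} [Group L] (R : L2Aut.Rep F L)

/-- conversion of the two structures `Dih` -/
theorem dih_of {S : Subgroup L} {d : ℕ} {r c : L} (h : AutSwap.Dih S d r c) : L2Aut.Dih S r c where
  d_mem := h.r_mem
  r_mem := h.c_mem
  d1 := by
    rintro rfl
    apply h.z_ne
    exact one_zpow _
  r_not := by
    intro h1
    obtain ⟨k, hk⟩ := mem_zpowers_iff.1 h1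
    exact h.c_not k hk.symm
  rr := h.cc
  rd := h.crc
  cov := by
    intro x hx
    obtain ⟨k, hk | hk⟩ := h.form x hx
    · exact Or.inl (mem_zpowers_iff.2 ⟨k, hk.symm⟩)
    · exact Or.inr ⟨k, hk⟩

theorem sq_ne {S : Subgroup L} {d : ℕ} {r c : L} (h : AutSwap.Dih S d r c) (hd : 3 ≤ d) :
    r * r ≠ 1 := by
  intro h1
  have h2 : r ^ (2 : ℤ) = 1 := by rw [zpow_two, h1]
  rw [h.rk_one] at h2
  have h6 := Int.le_of_dvd (by norm_num) h2
  have h7 : (2 : ℤ) ^ 2 ≤ 2 ^ (d - 1) := pow_le_pow_right₀ (by norm_num) (by omega)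
  omega

include R in
/-- elements of `PGL` fixing a Sylow 2-subgroup pointwise are inner -/
theorem inner_of_fix (P : Sylow 2 L) {α : MulAut L} (hα : α ∈ R.PGL) (h : ∀ s ∈ P, α s = s) :
    ∃ l, α = MulAut.conj l := by
  obtain ⟨a, b, ha, hb, hab⟩ := R.exists_four_mem P
  rcases R.fix_four hab hα (h a ha) (h b hb) with h | h | h | h
  · exact ⟨1, by rw [h, map_one]⟩
  · exact ⟨_, h⟩
  · exact ⟨_, h⟩
  · exact ⟨_, h⟩

/-- rotations of the second structure are powers of `r` -/
theorem rot_eq {S : Subgroup L} {d : ℕ} {r c : L} (h : AutSwap.Dih S d r c) (hd : 3 ≤ d)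
    {e f : L} (h' : L2Aut.Dih S e f) {σ : L →* L}
    (h1 : σ e = e ∨ σ e = e⁻¹) : σ r = r ∨ σ r = r⁻¹ := by
  -- `r` is a power of `e`
  have h2 : ∃ k : ℤ, r = e ^ k := by
    rcases h'.cov r h.r_mem with h3 | ⟨k, h3⟩
    · obtain ⟨k, hk⟩ := mem_zpowers_iff.1 h3
      exact ⟨k, hk.symm⟩
    · exfalso
      apply sq_ne h hd
      rw [h3]
      exact h'.pow_r_sq k
  obtain ⟨k, rfl⟩ := h2
  rcases h1 with h1 | h1
  · left
    rw [map_zpow, h1]
  · right
    rw [map_zpow, h1, inv_zpow]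

include R in
theorem pm (P : Sylow 2 L) {d : ℕ} {r c : L} (h : AutSwap.Dih (P : Subgroup L) d r c) (hd : 3 ≤ d)
    {α : MulAut L} (hα : ∃ n : ℕ, α ^ 2 ^ n = 1) (hP : ∀ s ∈ P, α s ∈ P)
    (h2 : ∃ l, α * α = MulAut.conj l) : α r = r ∨ α r = r⁻¹ := by
  have hfin : Finite L := R.finite
  -- elements of `PGL`
  have key : ∀ β : MulAut L, β ∈ R.PGL → (∃ n : ℕ, β ^ 2 ^ n = 1) → (∀ s ∈ P, β s ∈ P) →
      β r = r ∨ β r = r⁻¹ := by
    intro β hβ hn hβP
    by_cases hI : β ∈ Inn L
    · obtain ⟨l, rfl⟩ := hI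
      obtain ⟨n, hn⟩ := hn
      have hl : l ∈ P := by
        apply mem_syl_of_norm P
        · exact ⟨n, R.conj_injective (by rw [map_pow, hn, map_one])⟩
        · exact hβP
      obtain ⟨k, rfl | rfl⟩ := h.form l hl
      · left
        rw [MulAut.conj_apply]
        group
      · right
        rw [MulAut.conj_apply]
        have e1 : r ^ k * c * r * (r ^ k * c)⁻¹ = r ^ k * (c * r * c⁻¹) * (r ^ k)⁻¹ := by group
        rw [e1, h.crc]
        group
    · obtain ⟨e, f, he, -, h3⟩ := R.outer_frame P hβ hI hn hβP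
      apply rot_eq h hd he (σ := β.toMonoidHom)
      rcases h3 with ⟨-, h3⟩ | ⟨-, h3⟩
      · exact Or.inr h3
      · exact Or.inl h3
  by_cases hPG : α ∈ R.PGL
  · exact key α hPG hα hP
  -- `fld α` is an involution
  obtain ⟨l, hl⟩ := h2
  have hf : R.fld α ≠ 1 := fun h3 => hPG (R.mem_PGL_iff_fld.2 h3)
  have hff : R.fld α * R.fld α = 1 := by
    rw [← map_mul, hl]
    exact R.mem_PGL_iff_fld.1 (R.conj_mem_PGL l)
  -- a field automorphism fixing `P` pointwise
  obtain ⟨φ, hφφ, hφf, hφP⟩ : ∃ φ : MulAut L, φ * φ = 1 ∧ R.fld φ = R.fld α ∧ ∀ s ∈ P, φ s = s := by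
    have h3 : R.fa (R.fld α) * R.fa (R.fld α) = 1 := by rw [← map_mul, hff, map_one]
    have h4 : R.fa (R.fld α) ∉ R.PGL := by
      rw [R.mem_PGL_iff_fld, R.fld_fa]
      exact hf
    obtain ⟨S', hS'⟩ := R.ftype_syl h4 h3
    obtain ⟨g, hg⟩ := MulAction.exists_smul_eq L S' P
    refine ⟨MulAut.conj g * R.fa (R.fld α) * (MulAut.conj g)⁻¹, ?_, ?_, ?_⟩
    · have e1 : MulAut.conj g * R.fa (R.fld α) * (MulAut.conj g)⁻¹ *
          (MulAut.conj g * R.fa (R.fld α) * (MulAut.conj g)⁻¹) =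
          MulAut.conj g * (R.fa (R.fld α) * R.fa (R.fld α)) * (MulAut.conj g)⁻¹ := by group
      rw [e1, h3, mul_one, mul_inv_cancel]
    · rw [map_mul, map_mul, map_inv, R.fld_fa, R.mem_PGL_iff_fld.1 (R.conj_mem_PGL g), one_mul,
        inv_one, mul_one]
    · intro s hs
      rw [← hg] at hs
      obtain ⟨t, ht, hts⟩ := hs
      have h5 : g * t * g⁻¹ = s := hts
      rw [← h5, ← map_inv, MulAut.mul_apply, MulAut.mul_apply, MulAut.conj_apply, MulAut.conj_apply]
      have e2 : g⁻¹ * (g * t * g⁻¹) * g⁻¹⁻¹ = t := by group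
      rw [e2, hS' t ht]
  -- `α φ ∈ PGL`
  have h5 : α * φ ∈ R.PGL := by
    rw [R.mem_PGL_iff_fld, map_mul, hφf, hff]
  have h6 : ∀ s ∈ P, (α * φ) s = α s := fun s hs => by rw [MulAut.mul_apply, hφP s hs]
  have h7 : ∀ s ∈ P, (α * φ) s ∈ P := fun s hs => by rw [h6 s hs]; exact hP s hs
  have h8 : ∃ n : ℕ, (α * φ) ^ 2 ^ n = 1 := by
    have h9 : (α * φ) * (α * φ) ∈ Inn L := by
      by_cases hI : α * φ ∈ Inn L
      · exact mul_mem hI hI
      · exact R.mul_mem_inn h5 hI h5 hI
    obtain ⟨m, hm⟩ := h9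
    have hmP : m ∈ P := by
      apply R.norm_syl P (dih_of h) (sq_ne h hd)
      intro s hs
      have h10 : m * s * m⁻¹ = (α * φ) ((α * φ) s) := by
        rw [← MulAut.mul_apply, ← hm]; rfl
      rw [h10]
      exact h7 _ (h7 s hs)
    obtain ⟨n, hn⟩ := exists_pow_of_mem P.2 hmP
    refine ⟨n + 1, ?_⟩
    rw [pow_succ', pow_mul, _root_.sq, ← hm]
    rw [← map_pow, hn, map_one]
  rw [← h6 r h.r_mem]
  exact key _ h5 h8 h7

include R in
theorem move (P : Sylow 2 L) {d : ℕ} {r c : L} (h : AutSwap.Dih (P : Subgroup L) d r c) (hd : 3 ≤ d)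
    {α : MulAut L} (hα : α * α = 1) (hP : ∀ s ∈ P, α s = s) (hout : ∀ l, α ≠ MulAut.conj l) :
    ∃ l, α l = l ∧ l * r ^ (2 ^ (d - 2) : ℤ) * l⁻¹ ∈ P ∧
      l * r ^ (2 ^ (d - 2) : ℤ) * l⁻¹ ≠ r ^ (2 ^ (d - 2) : ℤ) := by
  have hfin : Finite L := R.finite
  have hPG : α ∉ R.PGL := by
    intro h1
    obtain ⟨l, hl⟩ := inner_of_fix R P h1 hP
    exact hout l hl
  obtain ⟨R', -, -, hR, h2⟩ := R.ftype_rep hPG hα
  obtain ⟨K, hK, hcard⟩ := exists_fixed_field (R.fld α)
  have hm : Even (orderOf (R.fld α)) := by rw [h2]; exact even_two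
  have hsub : R'.sub K ≤ fixSub α := by
    rw [hR]
    have := R'.sub_le_fix hK
    exact this
  obtain ⟨w, hw, hwn, hwc⟩ := R'.exists_outer hm hK hcard
  rw [← hR] at hw hwc
  -- index two
  have hidx : ∀ x ∈ fixSub α, ∀ y ∈ fixSub α, x ∉ R'.sub K → y ∉ R'.sub K → x * y ∈ R'.sub K := by
    intro x hx y hy hxs hys
    have hxi : x⁻¹ ∉ R'.sub K := fun h1 => hxs (inv_mem_iff.1 h1)
    have h3 := hwc x⁻¹ (inv_mem hx) hxi
    have h4 := hwc y hy hys
    have e1 : x * y = (w * x⁻¹)⁻¹ * (w * y) := by group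
    rw [e1]
    exact mul_mem (inv_mem h3) h4
  have hsq : ∀ x ∈ fixSub α, x * x ∈ R'.sub K := by
    intro x hx
    by_cases hxs : x ∈ R'.sub K
    · exact mul_mem hxs hxs
    · exact hidx x hx x hx hxs hxs
  have hnorm : ∀ x ∈ fixSub α, ∀ y ∈ R'.sub K, x * y * x⁻¹ ∈ R'.sub K := by
    intro x hx y hy
    by_cases hxs : x ∈ R'.sub K
    · exact mul_mem (mul_mem hxs hy) (inv_mem hxs)
    · apply hidx _ (mul_mem hx (hsub hy)) _ (inv_mem hx)
      · intro h3
        apply hxs
        have e1 : x = x * y * y⁻¹ := by group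
        rw [e1]
        exact mul_mem h3 (inv_mem hy)
      · exact fun h3 => hxs (inv_mem_iff.1 h3)
  -- the central involution
  set z : L := r ^ (2 ^ (d - 2) : ℤ) with hz
  have hPle : (P : Subgroup L) ≤ fixSub α := fun s hs => hP s hs
  have hzK : z ∈ R'.sub K := by
    have e1 : z = r ^ (2 ^ (d - 3) : ℤ) * r ^ (2 ^ (d - 3) : ℤ) := by
      rw [hz, ← zpow_add]
      congr 1
      have h3 : d - 2 = d - 3 + 1 := by omega
      rw [h3, pow_succ]; ring
    rw [e1]
    exact hsq _ (zpow_mem (hPle h.r_mem) _)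
  -- a four-group of `sub K` in `P`
  obtain ⟨v, hvP, hvK, hvv, hv1, hvz⟩ : ∃ v ∈ P, v ∈ R'.sub K ∧ v * v = 1 ∧ v ≠ 1 ∧ v ≠ z := by
    obtain ⟨a, b, hab⟩ := (R'.subRep K).exists_four
    have hab' : Four (a : L) (b : L) :=
      { aa := congrArg Subtype.val hab.aa
        bb := congrArg Subtype.val hab.bb
        a1 := fun h1 => hab.a1 (Subtype.ext h1)
        b1 := fun h1 => hab.b1 (Subtype.ext h1)
        ne := fun h1 => hab.ne (Subtype.ext h1)
        comm := congrArg Subtype.val hab.comm }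
    -- a conjugate in `P` by an element of `fixSub α`
    let P₁ : Sylow 2 (fixSub α) := P.subtype hPle
    have hV : IsPGroup 2 (hab'.sub.subgroupOf (fixSub α)) := by
      have h3 := hab'.sub_two
      exact h3.comap_of_injective _ (fixSub α).subtype_injective
    obtain ⟨Q, hQ⟩ := hV.exists_le_sylow
    obtain ⟨g, hg⟩ := MulAction.exists_smul_eq (fixSub α) Q P₁
    have hmem : ∀ u : L, u ∈ hab'.sub → u ∈ R'.sub K → (g : L) * u * (g : L)⁻¹ ∈ P ∧
        (g : L) * u * (g : L)⁻¹ ∈ R'.sub K := by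
      intro u hu huK
      constructor
      · have h3 : (⟨u, hsub huK⟩ : fixSub α) ∈ Q := hQ (mem_subgroupOf.2 hu)
        have h4 := conj_mem_syl hg h3
        exact h4
      · exact hnorm _ g.2 _ huK
    have haK : (a : L) ∈ R'.sub K := a.2
    have hbK : (b : L) ∈ R'.sub K := b.2
    have ha := hmem a (Or.inr (Or.inl rfl)) haK
    have hb := hmem b (Or.inr (Or.inr (Or.inl rfl))) hbK
    have hsqc : ∀ u : L, u * u = 1 → (g : L) * u * (g : L)⁻¹ * ((g : L) * u * (g : L)⁻¹) = 1 := by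
      intro u hu
      have e1 : (g : L) * u * (g : L)⁻¹ * ((g : L) * u * (g : L)⁻¹) = g * (u * u) * (g : L)⁻¹ := by
        group
      rw [e1, hu, mul_one, mul_inv_cancel]
    have hne1 : ∀ u : L, u ≠ 1 → (g : L) * u * (g : L)⁻¹ ≠ 1 := by
      intro u hu h3
      apply hu
      have h4 : (g : L) * u = g := mul_inv_eq_one.1 h3
      exact mul_eq_left.1 h4
    by_cases haz : (g : L) * a * (g : L)⁻¹ = z
    · refine ⟨(g : L) * b * (g : L)⁻¹, hb.1, hb.2, hsqc b hab'.bb, hne1 b hab'.b1, ?_⟩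
      intro hbz
      apply hab'.ne
      have h3 := haz.trans hbz.symm
      exact mul_left_cancel (mul_right_cancel h3)
    · exact ⟨(g : L) * a * (g : L)⁻¹, ha.1, ha.2, hsqc a hab'.aa, hne1 a hab'.a1, haz⟩
  obtain ⟨k, hk⟩ := (R'.subRep K).inv_conj (s := ⟨z, hzK⟩) (t := ⟨v, hvK⟩)
    (Subtype.ext h.z_sq) (fun h1 => h.z_ne (congrArg Subtype.val h1)) (Subtype.ext hvv)
    (fun h1 => hv1 (congrArg Subtype.val h1))
  have hk' : (k : L) * z * (k : L)⁻¹ = v := congrArg Subtype.val hk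
  refine ⟨k, hsub k.2, ?_, ?_⟩
  · rw [hk']; exact hvP
  · rw [hk']; exact hvz

include R in
/-- **The facts for `PSL(2,q)`.** -/
theorem kData_of (P : Sylow 2 L) {d : ℕ} {r c : L} (h : AutSwap.Dih (P : Subgroup L) d r c) :
    KData (P : Subgroup L) d r c where
  dih := h
  inv_conj := fun _ _ ha ha1 hb hb1 => R.inv_conj ha ha1 hb hb1
  sq := fun _ hα hP => R.cent_syl P hα hP
  cen2 := by
    intro _ α β hα hβ h1 h2 h3 h4
    have hfα : R.fld α ≠ 1 := by
      intro h5
      obtain ⟨l, hl⟩ := inner_of_fix R P (R.mem_PGL_iff_fld.2 h5) h1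
      exact h3 l hl
    have hfβ : R.fld β ≠ 1 := by
      intro h5
      obtain ⟨l, hl⟩ := inner_of_fix R P (R.mem_PGL_iff_fld.2 h5) h2
      exact h4 l hl
    have h5 := AutPsl.aut_inv (a := R.fld α) (b := R.fld β)
      (by rw [← map_mul, R.cent_syl P hα h1, map_one]) hfα
      (by rw [← map_mul, R.cent_syl P hβ h2, map_one]) hfβ
    apply inner_of_fix R P
    · rw [R.mem_PGL_iff_fld, map_mul, ← h5, ← map_mul, R.cent_syl P hα h1, map_one]
    · intro s hs
      rw [MulAut.mul_apply, h2 s hs, h1 s hs]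
  pm := fun hd _ hα hP h2 => pm R P h hd hα hP h2
  move := fun hd _ hα hP hout => move R P h hd hα hP hout

end rep

/-! ### `A₇` -/

section alt

open Cfsg.Agent.GH.L2One.A7

/-- **The facts for `A₇`.** -/
theorem exists_kData_A7 : ∃ P : Sylow 2 Alt, KData (P : Subgroup Alt) 3 A7.r A7.c := by
  obtain ⟨P, hP⟩ := exists_sylow
  obtain ⟨ψ, hψ⟩ := exists_psi
  refine ⟨P, ?_⟩
  rw [hP]
  have hdih : AutSwap.Dih S0 3 A7.r A7.c :=
    { d_ge := by norm_num
      r_mem := r_mem
      c_mem := c_mem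
      cc := cc
      crc := crc
      or_eq := by rw [orderOf_r]; norm_num
      c_not := c_not
      form := S_form }
  have hinn : ∀ α : MulAut Alt, Equiv.Perm.sign (ψ α) = 1 → ∃ l, α = MulAut.conj l := by
    intro α h
    refine ⟨⟨ψ α, Equiv.Perm.mem_alternatingGroup.2 h⟩, ?_⟩
    apply psi_injective hψ
    rw [psi_conj hψ]
  have hout : ∀ α : MulAut Alt, (∀ s ∈ S0, α s = s) → (∀ l, α ≠ MulAut.conj l) →
      ψ α = τ ∨ ψ α = ζ * τ := by
    intro α h h1
    rcases fixed_form hψ h with h2 | h2 | h2 | h2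
    · exfalso
      obtain ⟨l, hl⟩ := hinn α (by rw [h2]; exact map_one _)
      exact h1 l hl
    · exfalso
      obtain ⟨l, hl⟩ := hinn α (by rw [h2]; decide +kernel)
      exact h1 l hl
    · exact Or.inl h2
    · exact Or.inr h2
  have hz : ((A7.r ^ (2 ^ (3 - 2) : ℤ) : Alt) : S7) = ζ := by
    change ρ ^ (2 : ℤ) = ζ
    decide +kernel
  exact
    { dih := hdih
      inv_conj := inv_conj
      sq := by
        intro α _ h
        apply psi_injective hψ
        rw [map_mul, map_one]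
        rcases fixed_form hψ h with h1 | h1 | h1 | h1 <;> rw [h1] <;> decide +kernel
      cen2 := by
        intro _ α β _ _ h1 h2 h3 h4
        apply hinn
        rw [map_mul, map_mul]
        rcases hout α h1 h3 with h5 | h5 <;> rcases hout β h2 h4 with h6 | h6 <;>
          rw [h5, h6] <;> decide +kernel
      pm := by
        intro _ α _ h _
        obtain ⟨i, j, k, hl⟩ := psi_form hψ h
        have h1 : ((α A7.r : Alt) : S7) = ψ α * ρ * (ψ α)⁻¹ := hψ α A7.r
        have h2 : ψ α * ρ * (ψ α)⁻¹ = ρ ∨ ψ α * ρ * (ψ α)⁻¹ = ρ⁻¹ := by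
          rw [hl]
          clear hl
          revert i j k
          decide +kernel
        rcases h2 with h2 | h2
        · left
          exact Subtype.ext (h1.trans h2)
        · right
          exact Subtype.ext (h1.trans h2)
      move := by
        intro _ α hα h h1
        rcases hout α h h1 with h2 | h2
        · refine ⟨⟨Equiv.swap 1 2 * Equiv.swap 2 3, by
            rw [Equiv.Perm.mem_alternatingGroup]; decide +kernel⟩, ?_, ?_, ?_⟩
          · apply Subtype.ext
            rw [hψ, h2]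
            decide +kernel
          · have h3 : (⟨Equiv.swap 1 2 * Equiv.swap 2 3, by
                rw [Equiv.Perm.mem_alternatingGroup]; decide +kernel⟩ : Alt) *
                A7.r ^ (2 ^ (3 - 2) : ℤ) * (⟨Equiv.swap 1 2 * Equiv.swap 2 3, by
                rw [Equiv.Perm.mem_alternatingGroup]; decide +kernel⟩ : Alt)⁻¹ = A7.r * A7.c := by
              apply Subtype.ext
              change (Equiv.swap 1 2 * Equiv.swap 2 3 : S7) * ((A7.r ^ (2 ^ (3 - 2) : ℤ) : Alt) : S7) *
                (Equiv.swap 1 2 * Equiv.swap 2 3 : S7)⁻¹ = ρ * γ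
              rw [hz]
              decide +kernel
            rw [h3]
            exact S0.mul_mem r_mem c_mem
          · intro h3
            have h4 := congrArg Subtype.val h3
            change (Equiv.swap 1 2 * Equiv.swap 2 3 : S7) * ((A7.r ^ (2 ^ (3 - 2) : ℤ) : Alt) : S7) *
                (Equiv.swap 1 2 * Equiv.swap 2 3 : S7)⁻¹ = ((A7.r ^ (2 ^ (3 - 2) : ℤ) : Alt) : S7) at h4
            rw [hz] at h4
            revert h4
            decide +kernel
        · refine ⟨⟨Equiv.swap 1 4 * Equiv.swap 3 5, by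
            rw [Equiv.Perm.mem_alternatingGroup]; decide +kernel⟩, ?_, ?_, ?_⟩
          · apply Subtype.ext
            rw [hψ, h2]
            decide +kernel
          · have h3 : (⟨Equiv.swap 1 4 * Equiv.swap 3 5, by
                rw [Equiv.Perm.mem_alternatingGroup]; decide +kernel⟩ : Alt) *
                A7.r ^ (2 ^ (3 - 2) : ℤ) * (⟨Equiv.swap 1 4 * Equiv.swap 3 5, by
                rw [Equiv.Perm.mem_alternatingGroup]; decide +kernel⟩ : Alt)⁻¹ = A7.c := by
              apply Subtype.ext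
              change (Equiv.swap 1 4 * Equiv.swap 3 5 : S7) * ((A7.r ^ (2 ^ (3 - 2) : ℤ) : Alt) : S7) *
                (Equiv.swap 1 4 * Equiv.swap 3 5 : S7)⁻¹ = γ
              rw [hz]
              decide +kernel
            rw [h3]
            exact c_mem
          · intro h3
            have h4 := congrArg Subtype.val h3
            change (Equiv.swap 1 4 * Equiv.swap 3 5 : S7) * ((A7.r ^ (2 ^ (3 - 2) : ℤ) : Alt) : S7) *
                (Equiv.swap 1 4 * Equiv.swap 3 5 : S7)⁻¹ = ((A7.r ^ (2 ^ (3 - 2) : ℤ) : Alt) : S7) at h4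
            rw [hz] at h4
            revert h4
            decide +kernel }

end alt

/-! ### all Sylow 2-subgroups -/

/-- The facts for all Sylow 2-subgroups of `L`. -/
def HasK (L : Type*) [Group L] : Prop :=
  ∀ P : Sylow 2 L, ∃ (d : ℕ) (r c : L), KData (P : Subgroup L) d r c

theorem HasK.of_rep {F : Type*} [Field F] [Finite F] {L : Type*} [Group L] (R : L2Aut.Rep F L) :
    HasK L := by
  intro P
  obtain ⟨d, r, c, h⟩ := AutPsl.exists_dih R P
  exact ⟨d, r, c, kData_of R P h⟩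

theorem HasK.of_one {L : Type*} [Group L] [Finite L] {P : Sylow 2 L} {d : ℕ} {r c : L}
    (F : KData (P : Subgroup L) d r c) : HasK L := by
  intro P'
  obtain ⟨r', c', h⟩ := F.of_sylow P'
  exact ⟨d, r', c', h⟩

theorem HasK.congr {L M : Type*} [Group L] [Group M] (e : L ≃* M) (h : HasK L) : HasK M := by
  intro P
  obtain ⟨d, r, c, F⟩ := h (P.comapOfInjective e.toMonoidHom e.injective (by
    rw [MonoidHom.range_eq_top.mpr e.surjective]; exact le_top))
  have h1 := F.map e
  have h2 : (((P.comapOfInjective e.toMonoidHom e.injective (by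
      rw [MonoidHom.range_eq_top.mpr e.surjective]; exact le_top) : Sylow 2 L) : Subgroup L)).map
      e.toMonoidHom = (P : Subgroup M) := by
    change ((P : Subgroup M).comap e.toMonoidHom).map e.toMonoidHom = _
    exact Subgroup.map_comap_eq_self_of_surjective e.surjective _
  rw [h2] at h1
  exact ⟨d, e r, e c, h1⟩

theorem HasK.alt7 : HasK (alternatingGroup (Fin 7)) := by
  obtain ⟨P, h⟩ := exists_kData_A7
  exact HasK.of_one h

end Cfsg.Agent.GH.L2.CaseIRep
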