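import Cfsg.Agent.GH.L2.CaseIDih

/-!
# GH-L2, Case I after section 3 (blueprints/GH-L2-CaseI-helper153.md): the 2-group `S`

`Situ S P D₁ D₂ a₁ b₁ a₂ b₂ m`: `|S : P| = 2`, `D₁, D₂ ⊴ P` dihedral of order `2^(m+1) ≥ 8`, commuting, interchanged
by the elements of `S - P`; `P` acts on `⟨aᵢ⟩` as `±1`; `C_S(D₁ D₂) ≤ D₁ D₂`.
-/

set_option autoImplicit false

open Subgroup
open Cfsg.Agent.GH.L2One.DihD
open Cfsg.Agent.GH.L2.CaseIDih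

namespace Cfsg.Agent.GH.L2.CaseISitu

variable {G : Type*} [Group G]

/-- membership in `B₀ = D₁ D₂` -/
def InB (D₁ D₂ : Subgroup G) (g : G) : Prop := ∃ d ∈ D₁, ∃ e ∈ D₂, g = d * e

/-- The situation of Case I after section 3. -/
structure Situ (S P D₁ D₂ : Subgroup G) (a₁ b₁ a₂ b₂ : G) (m : ℕ) : Prop where
  dih₁ : Dih D₁ a₁ b₁ m
  dih₂ : Dih D₂ a₂ b₂ m
  P_le : P ≤ S
  D₁_le : D₁ ≤ P
  D₂_le : D₂ ≤ P
  /-- index (at most) 2 -/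
  idx : ∀ g ∈ S, g ∉ P → ∀ k ∈ S, k ∉ P → g * k ∈ P
  comm : ∀ d ∈ D₁, ∀ e ∈ D₂, d * e = e * d
  disj : ∀ d ∈ D₁, d ∈ D₂ → d = 1
  n₁ : ∀ p ∈ P, ∀ d ∈ D₁, p * d * p⁻¹ ∈ D₁
  n₂ : ∀ p ∈ P, ∀ d ∈ D₂, p * d * p⁻¹ ∈ D₂
  s₁ : ∀ y ∈ S, y ∉ P → ∀ d ∈ D₁, y * d * y⁻¹ ∈ D₂
  s₂ : ∀ y ∈ S, y ∉ P → ∀ d ∈ D₂, y * d * y⁻¹ ∈ D₁
  act₁ : ∀ p ∈ P, p * a₁ * p⁻¹ = a₁ ∨ p * a₁ * p⁻¹ = a₁⁻¹
  act₂ : ∀ p ∈ P, p * a₂ * p⁻¹ = a₂ ∨ p * a₂ * p⁻¹ = a₂⁻¹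
  cent : ∀ y ∈ S, (∀ d ∈ D₁, y * d = d * y) → (∀ d ∈ D₂, y * d = d * y) → InB D₁ D₂ y

namespace Situ

variable {S P D₁ D₂ : Subgroup G} {a₁ b₁ a₂ b₂ : G} {m : ℕ}

theorem conj_notMem (h : Situ S P D₁ D₂ a₁ b₁ a₂ b₂ m) {y p : G} (hy : y ∈ S) (hp : p ∈ S) (hpP : p ∉ P) :
    y * p * y⁻¹ ∉ P := by
  intro h1
  by_cases hyP : y ∈ P
  · apply hpP
    have : p = y⁻¹ * (y * p * y⁻¹) * y := by group
    rw [this]
    exact mul_mem (mul_mem (inv_mem hyP) h1) hyP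
  · have h2 := h.idx y hy hyP p hp hpP
    have h3 : y⁻¹ ∈ P := by
      have : y⁻¹ = (y * p)⁻¹ * (y * p * y⁻¹) := by group
      rw [this]
      exact mul_mem (inv_mem h2) h1
    exact hyP (inv_mem_iff.1 h3)

theorem nP (h : Situ S P D₁ D₂ a₁ b₁ a₂ b₂ m) {y p : G} (hy : y ∈ S) (hp : p ∈ P) :
    y * p * y⁻¹ ∈ P := by
  by_contra h1
  have hyS : y * p * y⁻¹ ∈ S := mul_mem (mul_mem hy (h.P_le hp)) (inv_mem hy)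
  have h2 := h.conj_notMem (inv_mem hy) hyS h1
  apply h2
  have : y⁻¹ * (y * p * y⁻¹) * y⁻¹⁻¹ = p := by group
  rw [this]; exact hp

theorem mul_notMem (_h : Situ S P D₁ D₂ a₁ b₁ a₂ b₂ m) {y p : G} (hy : y ∉ P) (hp : p ∈ P) :
    y * p ∉ P := fun h1 => hy (by
      have : y = y * p * p⁻¹ := by group
      rw [this]; exact mul_mem h1 (inv_mem hp))

theorem mul_notMem' (_h : Situ S P D₁ D₂ a₁ b₁ a₂ b₂ m) {y p : G} (hy : y ∉ P) (hp : p ∈ P) :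
    p * y ∉ P := fun h1 => hy (by
      have : y = p⁻¹ * (p * y) := by group
      rw [this]; exact mul_mem (inv_mem hp) h1)

/-- the situation is symmetric -/
theorem symm (h : Situ S P D₁ D₂ a₁ b₁ a₂ b₂ m) : Situ S P D₂ D₁ a₂ b₂ a₁ b₁ m where
  dih₁ := h.dih₂
  dih₂ := h.dih₁
  P_le := h.P_le
  D₁_le := h.D₂_le
  D₂_le := h.D₁_le
  idx := h.idx
  comm := fun d hd e he => (h.comm e he d hd).symm
  disj := fun d hd hd' => h.disj d hd' hd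
  n₁ := h.n₂
  n₂ := h.n₁
  s₁ := h.s₂
  s₂ := h.s₁
  act₁ := h.act₂
  act₂ := h.act₁
  cent := fun y hy h1 h2 => by
    obtain ⟨d, hd, e, he, rfl⟩ := h.cent y hy h2 h1
    exact ⟨e, he, d, hd, h.comm d hd e he⟩

theorem A₁ (h : Situ S P D₁ D₂ a₁ b₁ a₂ b₂ m) {p : G} (hp : p ∈ P) : Act a₁ b₁ p := by
  refine ⟨h.act₁ p hp, ?_⟩
  rcases h.dih₁.cases (h.n₁ p hp b₁ h.dih₁.c_mem) with ⟨i, hi⟩ | h1
  · exfalso
    have h2 : b₁ = p⁻¹ * a₁ ^ i * p := by rw [← hi]; group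
    apply h.dih₁.ncz
    have h3 := h.act₁ p⁻¹ (inv_mem hp)
    rw [inv_inv] at h3
    rw [h2]
    have h4 : p⁻¹ * a₁ ^ i * p = (p⁻¹ * a₁ * p) ^ i := by
      have := conj_zpow (a := p⁻¹) (b := a₁) (i := i)
      rw [inv_inv] at this
      exact this.symm
    rw [h4]
    rcases h3 with h3 | h3
    · rw [h3]; exact zpow_mem (mem_zpowers _) _
    · rw [h3]; exact zpow_mem (inv_mem (mem_zpowers _)) _
  · exact h1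

theorem A₂ (h : Situ S P D₁ D₂ a₁ b₁ a₂ b₂ m) {p : G} (hp : p ∈ P) : Act a₂ b₂ p := h.symm.A₁ hp

/-- parity of `p ∈ P` on `D₁` -/
theorem ev₁_mul (h : Situ S P D₁ D₂ a₁ b₁ a₂ b₂ m) {p q : G} (hp : p ∈ P) (hq : q ∈ P) :
    Ev a₁ b₁ (p * q) ↔ (Ev a₁ b₁ p ↔ Ev a₁ b₁ q) := ev_mul h.dih₁ (h.A₁ hp) (h.A₁ hq)

theorem ev₂_mul (h : Situ S P D₁ D₂ a₁ b₁ a₂ b₂ m) {p q : G} (hp : p ∈ P) (hq : q ∈ P) :
    Ev a₂ b₂ (p * q) ↔ (Ev a₂ b₂ p ↔ Ev a₂ b₂ q) := ev_mul h.dih₂ (h.A₂ hp) (h.A₂ hq)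

theorem ev_conj (h : Situ S P D₁ D₂ a₁ b₁ a₂ b₂ m) {y p : G} (hy : y ∈ S) (hyP : y ∉ P) (hp : p ∈ P) :
    Ev a₂ b₂ (y * p * y⁻¹) ↔ Ev a₁ b₁ p :=
  ev_conj_iff h.dih₁ h.dih₂ (h.s₁ y hy hyP) (h.A₁ hp) (h.A₂ (h.nP hy hp))

theorem ev_conj' (h : Situ S P D₁ D₂ a₁ b₁ a₂ b₂ m) {y p : G} (hy : y ∈ S) (hyP : y ∉ P) (hp : p ∈ P) :
    Ev a₁ b₁ (y * p * y⁻¹) ↔ Ev a₂ b₂ p := h.symm.ev_conj hy hyP hp

theorem inB_P (h : Situ S P D₁ D₂ a₁ b₁ a₂ b₂ m) {g : G} (hg : InB D₁ D₂ g) : g ∈ P := by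
  obtain ⟨d, hd, e, he, rfl⟩ := hg
  exact mul_mem (h.D₁_le hd) (h.D₂_le he)

theorem inB_mul (h : Situ S P D₁ D₂ a₁ b₁ a₂ b₂ m) {g k : G} (hg : InB D₁ D₂ g) (hk : InB D₁ D₂ k) :
    InB D₁ D₂ (g * k) := by
  obtain ⟨d, hd, e, he, rfl⟩ := hg
  obtain ⟨d', hd', e', he', rfl⟩ := hk
  refine ⟨d * d', mul_mem hd hd', e * e', mul_mem he he', ?_⟩
  calc d * e * (d' * e') = d * (e * d') * e' := by group
    _ = d * (d' * e) * e' := by rw [h.comm d' hd' e he]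
    _ = d * d' * (e * e') := by group

theorem inB_inv (h : Situ S P D₁ D₂ a₁ b₁ a₂ b₂ m) {g : G} (hg : InB D₁ D₂ g) : InB D₁ D₂ g⁻¹ := by
  obtain ⟨d, hd, e, he, rfl⟩ := hg
  refine ⟨d⁻¹, inv_mem hd, e⁻¹, inv_mem he, ?_⟩
  rw [h.comm d hd e he, mul_inv_rev]

theorem inB_d (_h : Situ S P D₁ D₂ a₁ b₁ a₂ b₂ m) {d : G} (hd : d ∈ D₁) : InB D₁ D₂ d :=
  ⟨d, hd, 1, one_mem _, (mul_one d).symm⟩

theorem inB_e (_h : Situ S P D₁ D₂ a₁ b₁ a₂ b₂ m) {e : G} (he : e ∈ D₂) : InB D₁ D₂ e :=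
  ⟨1, one_mem _, e, he, (one_mul e).symm⟩

/-- uniqueness of the decomposition -/
theorem unique (h : Situ S P D₁ D₂ a₁ b₁ a₂ b₂ m) {d e d' e' : G} (hd : d ∈ D₁) (he : e ∈ D₂)
    (hd' : d' ∈ D₁) (he' : e' ∈ D₂) (heq : d * e = d' * e') : d = d' ∧ e = e' := by
  have h1 : d'⁻¹ * d = e' * e⁻¹ := by
    calc d'⁻¹ * d = d'⁻¹ * (d * e) * e⁻¹ := by group
      _ = e' * e⁻¹ := by rw [heq]; group
  have h2 : d'⁻¹ * d = 1 := h.disj _ (mul_mem (inv_mem hd') hd) (h1 ▸ mul_mem he' (inv_mem he))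
  have h3 : d = d' := (inv_mul_eq_one.1 h2).symm
  subst h3
  exact ⟨rfl, mul_left_cancel heq⟩

theorem ev₁_of_inB (h : Situ S P D₁ D₂ a₁ b₁ a₂ b₂ m) {g : G} (hg : InB D₁ D₂ g) : Ev a₁ b₁ g := by
  obtain ⟨d, hd, e, he, rfl⟩ := hg
  rw [h.ev₁_mul (h.D₁_le hd) (h.D₂_le he)]
  exact iff_of_true (ev_of_mem h.dih₁ hd) (ev_of_comm (h.comm b₁ h.dih₁.c_mem e he).symm)

theorem ev₂_of_inB (h : Situ S P D₁ D₂ a₁ b₁ a₂ b₂ m) {g : G} (hg : InB D₁ D₂ g) : Ev a₂ b₂ g := by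
  obtain ⟨d, hd, e, he, rfl⟩ := hg
  rw [h.ev₂_mul (h.D₁_le hd) (h.D₂_le he)]
  exact iff_of_true (ev_of_comm (h.comm d hd b₂ h.dih₂.c_mem)) (ev_of_mem h.dih₂ he)

/-- an element of `P` even on both factors lies in `B₀` -/
theorem inB_of_ev (h : Situ S P D₁ D₂ a₁ b₁ a₂ b₂ m) {p : G} (hp : p ∈ P) (h1 : Ev a₁ b₁ p)
    (h2 : Ev a₂ b₂ p) : InB D₁ D₂ p := by
  obtain ⟨d, hd, hd1⟩ := exists_inner h.dih₁ (h.A₁ hp) h1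
  obtain ⟨e, he, he1⟩ := exists_inner h.dih₂ (h.A₂ hp) h2
  have hB : InB D₁ D₂ (d * e) := ⟨d, hd, e, he, rfl⟩
  have hc := h.comm d hd e he
  have hy : InB D₁ D₂ ((d * e)⁻¹ * p) := by
    apply h.cent _ (mul_mem (inv_mem (h.P_le (h.inB_P hB))) (h.P_le hp))
    · intro g hg
      have h3 := hd1 g hg
      have h4 := h.comm g hg e he
      have h6 : p * g = d * g * d⁻¹ * p := by rw [← h3]; group
      calc (d * e)⁻¹ * p * g = (d * e)⁻¹ * (p * g) := by group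
        _ = (e * d)⁻¹ * (d * g * d⁻¹ * p) := by rw [h6, hc]
        _ = d⁻¹ * e⁻¹ * d * g * d⁻¹ * p := by group
        _ = d⁻¹ * (e⁻¹ * (d * g)) * d⁻¹ * p := by group
        _ = d⁻¹ * ((d * g) * e⁻¹) * d⁻¹ * p := by
          have h7 := h.comm (d * g) (mul_mem hd hg) e⁻¹ (inv_mem he)
          rw [h7]
        _ = g * (d * e)⁻¹ * p := by group
        _ = g * ((d * e)⁻¹ * p) := by group
    · intro g hg
      have h3 := he1 g hg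
      have h6 : p * g = e * g * e⁻¹ * p := by rw [← h3]; group
      have h7 := h.comm d⁻¹ (inv_mem hd) (g * e⁻¹) (mul_mem hg (inv_mem he))
      calc (d * e)⁻¹ * p * g = (d * e)⁻¹ * (p * g) := by group
        _ = (d * e)⁻¹ * (e * g * e⁻¹ * p) := by rw [h6]
        _ = e⁻¹ * (d⁻¹ * e) * g * e⁻¹ * p := by group
        _ = e⁻¹ * (e * d⁻¹) * g * e⁻¹ * p := by
          rw [h.comm d⁻¹ (inv_mem hd) e he]
        _ = (d⁻¹ * (g * e⁻¹)) * p := by group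
        _ = (g * e⁻¹ * d⁻¹) * p := by rw [h7]
        _ = g * ((d * e)⁻¹ * p) := by group
  have : p = (d * e) * ((d * e)⁻¹ * p) := by group
  rw [this]
  exact h.inB_mul hB hy

theorem inB_iff (h : Situ S P D₁ D₂ a₁ b₁ a₂ b₂ m) {p : G} (hp : p ∈ P) :
    InB D₁ D₂ p ↔ Ev a₁ b₁ p ∧ Ev a₂ b₂ p :=
  ⟨fun h1 => ⟨h.ev₁_of_inB h1, h.ev₂_of_inB h1⟩, fun h1 => h.inB_of_ev hp h1.1 h1.2⟩

theorem rot₁_comm_D₂ (h : Situ S P D₁ D₂ a₁ b₁ a₂ b₂ m) {d : G} (hd : d ∈ D₂) : a₁ * d = d * a₁ :=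
  h.comm a₁ h.dih₁.r_mem d hd

theorem sq_comm_a₁ (h : Situ S P D₁ D₂ a₁ b₁ a₂ b₂ m) {p : G} (hp : p ∈ P) :
    p * p * a₁ = a₁ * (p * p) := by
  have h1 : p * p * a₁ * (p * p)⁻¹ = a₁ := by
    have e : p * p * a₁ * (p * p)⁻¹ = p * (p * a₁ * p⁻¹) * p⁻¹ := by group
    rw [e]
    rcases h.act₁ p hp with h2 | h2
    · rw [h2, h2]
    · rw [h2]
      have : p * a₁⁻¹ * p⁻¹ = (p * a₁ * p⁻¹)⁻¹ := by group
      rw [this, h2, inv_inv]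
  calc p * p * a₁ = (p * p * a₁ * (p * p)⁻¹) * (p * p) := by group
    _ = _ := by rw [h1]

/-- (5.0): squares of elements of `P` lie in `⟨a₁⟩⟨a₂⟩` -/
theorem sq_form (h : Situ S P D₁ D₂ a₁ b₁ a₂ b₂ m) {p : G} (hp : p ∈ P) :
    ∃ i j : ℤ, p * p = a₁ ^ i * a₂ ^ j := by
  have h1 : InB D₁ D₂ (p * p) := by
    rw [h.inB_iff (mul_mem hp hp), h.ev₁_mul hp hp, h.ev₂_mul hp hp]
    exact ⟨Iff.rfl, Iff.rfl⟩
  obtain ⟨d, hd, e, he, hde⟩ := h1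
  have h2 := h.sq_comm_a₁ hp
  have h3 := h.symm.sq_comm_a₁ hp
  rw [hde] at h2 h3
  have h4 : d * a₁ = a₁ * d := by
    have h5 := h.rot₁_comm_D₂ he
    have h6 : d * a₁ * e = a₁ * d * e := by
      calc d * a₁ * e = d * (a₁ * e) := by group
        _ = d * e * a₁ := by rw [h5]; group
        _ = a₁ * d * e := by rw [h2]; group
    exact mul_right_cancel h6
  have h5 : e * a₂ = a₂ * e := by
    have h6 := h.comm d hd a₂ h.dih₂.r_mem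
    have h7 : d * (e * a₂) = d * (a₂ * e) := by
      calc d * (e * a₂) = d * e * a₂ := by group
        _ = a₂ * (d * e) := h3
        _ = (d * a₂) * e := by rw [h6]; group
        _ = d * (a₂ * e) := by group
    exact mul_left_cancel h7
  obtain ⟨i, rfl⟩ := rot_of_comm h.dih₁ hd h4
  obtain ⟨j, rfl⟩ := rot_of_comm h.dih₂ he h5
  exact ⟨i, j, hde⟩

/-- an element of `S - P` with square in `B₀` gives an involution of `S - P` -/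
theorem exists_invol (h : Situ S P D₁ D₂ a₁ b₁ a₂ b₂ m) {y : G} (hy : y ∈ S) (hyP : y ∉ P)
    (hB : InB D₁ D₂ (y * y)) : ∃ d ∈ D₁, d⁻¹ * y ∈ S ∧ d⁻¹ * y ∉ P ∧ d⁻¹ * y * (d⁻¹ * y) = 1 := by
  obtain ⟨d, hd, e, he, hde⟩ := hB
  have h1 : (y * e * y⁻¹) * (y * d * y⁻¹) = d * e := by
    have h2 := h.comm d hd e he
    calc (y * e * y⁻¹) * (y * d * y⁻¹) = y * (e * d) * y⁻¹ := by group
      _ = y * (y * y) * y⁻¹ := by rw [← h2, hde]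
      _ = y * y := by group
      _ = d * e := hde
  obtain ⟨h3, h4⟩ := h.unique (h.s₂ y hy hyP e he) (h.s₁ y hy hyP d hd) hd he h1
  refine ⟨d, hd, mul_mem (inv_mem (h.P_le (h.D₁_le hd))) hy,
    h.mul_notMem' hyP (inv_mem (h.D₁_le hd)), ?_⟩
  calc d⁻¹ * y * (d⁻¹ * y) = d⁻¹ * (y * d * y⁻¹)⁻¹ * (y * y) := by group
    _ = d⁻¹ * e⁻¹ * (d * e) := by rw [h4, hde]
    _ = d⁻¹ * (e⁻¹ * d) * e := by group
    _ = d⁻¹ * (d * e⁻¹) * e := by rw [h.comm d hd e⁻¹ (inv_mem he)]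
    _ = 1 := by group

end Situ

end Cfsg.Agent.GH.L2.CaseISitu
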