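import Cfsg.Agent.GH.L2.KillDefs
import Cfsg.Agent.GH.L2One.DihD
import Mathlib

/-!
# Project GH, branch GH-L2, CASE I: the 2-group side of the transfer kills

`Base S T D a b s N`: `T` of index two in `S`, `s` an involution of `S` outside `T`, `D = ⟨a, b⟩` dihedral of
order `2 ^ (N + 1)`, normal in `T`, `D` and `s D s⁻¹` commute elementwise and meet trivially, and all squares of
elements of `T` lie in `⟨a⟩ × ⟨s a s⁻¹⟩`.
-/

set_option autoImplicit false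

namespace Cfsg.Agent.GH.L2.Kill

open Subgroup
open Cfsg.Agent.GH.L2One.DihD

variable {G : Type*} [Group G]

/-- The 2-group side of the data. -/
structure Base (S T D : Subgroup G) (a b s : G) (N : ℕ) : Prop where
  dih : Dih D a b N
  TS : T ≤ S
  DT : D ≤ T
  sS : s ∈ S
  sT : s ∉ T
  ss : s * s = 1
  ST : ∀ w ∈ S, w ∉ T → w * s ∈ T
  norm_s : ∀ t ∈ T, s * t * s⁻¹ ∈ T
  comm : ∀ d ∈ D, ∀ f ∈ D, d * (s * f * s⁻¹) = (s * f * s⁻¹) * d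
  disj : ∀ d ∈ D, ∀ f ∈ D, d = s * f * s⁻¹ → d = 1
  norm : ∀ t ∈ T, ∀ d ∈ D, t * d * t⁻¹ ∈ D
  sq : ∀ t ∈ T, ∃ i j : ℤ, t * t = a ^ i * (s * a ^ j * s⁻¹)

theorem inv_aux {A B e : G} (h2 : B * e = e * B) (h3 : A * e = e * A) (h4 : e⁻¹ = e)
    (h0 : B * A * B⁻¹ = A⁻¹) : B * (A * e) * B⁻¹ = (A * e)⁻¹ := by
  calc B * (A * e) * B⁻¹ = B * (e * A) * B⁻¹ := by rw [h3]
    _ = (B * e) * A * B⁻¹ := by group
    _ = e * (B * A * B⁻¹) := by rw [h2]; group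
    _ = e * A⁻¹ := by rw [h0]
    _ = e⁻¹ * A⁻¹ := by rw [h4]
    _ = (A * e)⁻¹ := by group

namespace Base

variable {S T D : Subgroup G} {a b s : G} {N : ℕ}

theorem s_inv (h : Base S T D a b s N) : s⁻¹ = s := inv_eq_of_mul_eq_one_left h.ss

theorem cc (h : Base S T D a b s N) (g : G) : s * (s * g * s⁻¹) * s⁻¹ = g := by
  rw [h.s_inv]
  calc s * (s * g * s) * s = (s * s) * g * (s * s) := by group
    _ = g := by rw [h.ss, one_mul, mul_one]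

/-- the involution `z` of the centre of `D` -/
theorem T_z (h : Base S T D a b s N) {t : G} (ht : t ∈ T) : t * zz a N = zz a N * t := by
  have h1 : t * zz a N * t⁻¹ ∈ D := h.norm t ht _ h.dih.z_mem
  have h2 : t * zz a N * t⁻¹ = 1 ∨ t * zz a N * t⁻¹ = zz a N := by
    apply h.dih.center_of_comm h1
    intro d hd
    have h3 : t⁻¹ * d * (t⁻¹)⁻¹ ∈ D := h.norm _ (T.inv_mem ht) d hd
    have h4 := h.dih.z_comm h3
    have h5 : t * (t⁻¹ * d * (t⁻¹)⁻¹ * zz a N) * t⁻¹ = t * (zz a N * (t⁻¹ * d * (t⁻¹)⁻¹)) * t⁻¹ := by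
      rw [h4]
    calc t * zz a N * t⁻¹ * d = t * (zz a N * (t⁻¹ * d * (t⁻¹)⁻¹)) * t⁻¹ := by group
      _ = t * (t⁻¹ * d * (t⁻¹)⁻¹ * zz a N) * t⁻¹ := h5.symm
      _ = d * (t * zz a N * t⁻¹) := by group
  rcases h2 with h2 | h2
  · exfalso
    apply h.dih.z_ne_one
    have h3 : zz a N = t⁻¹ * (t * zz a N * t⁻¹) * t := by group
    rw [h3, h2]
    group
  · exact mul_inv_eq_iff_eq_mul.1 h2

theorem T_x (h : Base S T D a b s N) {t : G} (ht : t ∈ T) :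
    t * (s * zz a N * s⁻¹) = (s * zz a N * s⁻¹) * t := by
  have h1 := h.T_z (h.norm_s t ht)
  have h2 := h.cc t
  calc t * (s * zz a N * s⁻¹) = s * ((s * t * s⁻¹) * zz a N) * s⁻¹ := by
        nth_rewrite 1 [← h2]; group
    _ = s * (zz a N * (s * t * s⁻¹)) * s⁻¹ := by rw [h1]
    _ = (s * zz a N * s⁻¹) * (s * (s * t * s⁻¹) * s⁻¹) := by group
    _ = (s * zz a N * s⁻¹) * t := by rw [h2]

theorem xx (h : Base S T D a b s N) : (s * zz a N * s⁻¹) * (s * zz a N * s⁻¹) = 1 :=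
  conj_sq h.dih.z_sq

theorem z_T (h : Base S T D a b s N) : zz a N ∈ T := h.DT h.dih.z_mem

theorem x_T (h : Base S T D a b s N) : s * zz a N * s⁻¹ ∈ T := h.norm_s _ h.z_T

theorem x_z (h : Base S T D a b s N) :
    (s * zz a N * s⁻¹) * zz a N = zz a N * (s * zz a N * s⁻¹) := (h.T_x h.z_T).symm

theorem x_ne_z (h : Base S T D a b s N) : s * zz a N * s⁻¹ ≠ zz a N := fun h1 =>
  h.dih.z_ne_one (h.disj _ h.dih.z_mem _ h.dih.z_mem h1.symm)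

/-- `x z` is central in `S`. -/
theorem cent (h : Base S T D a b s N) : ∀ w ∈ S,
    w * ((s * zz a N * s⁻¹) * zz a N) = ((s * zz a N * s⁻¹) * zz a N) * w := by
  have hs : s * ((s * zz a N * s⁻¹) * zz a N) = ((s * zz a N * s⁻¹) * zz a N) * s := by
    have h1 := h.x_z
    rw [h.s_inv] at h1 ⊢
    calc s * ((s * zz a N * s) * zz a N) = (s * s) * zz a N * s * zz a N := by group
      _ = zz a N * s * zz a N * (s * s) := by rw [h.ss, one_mul, mul_one]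
      _ = zz a N * (s * zz a N * s) * s := by group
      _ = ((s * zz a N * s) * zz a N) * s := by rw [h1]
  have hT : ∀ w ∈ T, w * ((s * zz a N * s⁻¹) * zz a N) = ((s * zz a N * s⁻¹) * zz a N) * w := by
    intro w hw
    rw [← mul_assoc, h.T_x hw, mul_assoc, h.T_z hw, ← mul_assoc]
  intro w hw
  by_cases hwT : w ∈ T
  · exact hT w hwT
  · have h1 := hT _ (h.ST w hw hwT)
    have h2 : w = (w * s) * s := by rw [mul_assoc, h.ss, mul_one]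
    rw [h2, mul_assoc, hs, ← mul_assoc, h1, mul_assoc]

/-- `⟨a⟩ × ⟨s a s⁻¹⟩` -/
def A0 (h : Base S T D a b s N) : Subgroup G where
  carrier := {g | ∃ i j : ℤ, g = a ^ i * (s * a ^ j * s⁻¹)}
  one_mem' := ⟨0, 0, by simp⟩
  mul_mem' := by
    rintro _ _ ⟨i, j, rfl⟩ ⟨k, l, rfl⟩
    refine ⟨i + k, j + l, ?_⟩
    have h1 := h.comm _ (h.dih.rpow_mem k) _ (h.dih.rpow_mem j)
    calc a ^ i * (s * a ^ j * s⁻¹) * (a ^ k * (s * a ^ l * s⁻¹))
        = a ^ i * ((s * a ^ j * s⁻¹) * a ^ k) * (s * a ^ l * s⁻¹) := by group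
      _ = a ^ i * (a ^ k * (s * a ^ j * s⁻¹)) * (s * a ^ l * s⁻¹) := by rw [h1]
      _ = (a ^ i * a ^ k) * (s * (a ^ j * a ^ l) * s⁻¹) := by group
      _ = _ := by rw [← zpow_add, ← zpow_add]
  inv_mem' := by
    rintro _ ⟨i, j, rfl⟩
    refine ⟨-i, -j, ?_⟩
    have h1 := h.comm _ (h.dih.rpow_mem (-i)) _ (h.dih.rpow_mem (-j))
    rw [h1]
    group

theorem mem_A0 (h : Base S T D a b s N) {g : G} :
    g ∈ h.A0 ↔ ∃ i j : ℤ, g = a ^ i * (s * a ^ j * s⁻¹) := Iff.rfl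

/-- uniqueness in `D × s D s⁻¹` -/
theorem split (h : Base S T D a b s N) {d f d' f' : G} (hd : d ∈ D) (hf : f ∈ D) (hd' : d' ∈ D)
    (hf' : f' ∈ D) (he : d * (s * f * s⁻¹) = d' * (s * f' * s⁻¹)) : d = d' ∧ f = f' := by
  have h1 : d'⁻¹ * d = s * (f' * f⁻¹) * s⁻¹ := by
    have h2 : d'⁻¹ * (d * (s * f * s⁻¹)) * (s * f⁻¹ * s⁻¹) =
        d'⁻¹ * (d' * (s * f' * s⁻¹)) * (s * f⁻¹ * s⁻¹) := by rw [he]
    calc d'⁻¹ * d = d'⁻¹ * (d * (s * f * s⁻¹)) * (s * f⁻¹ * s⁻¹) := by group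
      _ = _ := h2
      _ = _ := by group
  have h2 := h.disj _ (D.mul_mem (D.inv_mem hd') hd) _ (D.mul_mem hf' (D.inv_mem hf)) h1
  rw [h2] at h1
  refine ⟨(inv_mul_eq_one.1 h2).symm, ?_⟩
  have h3 : f' * f⁻¹ = 1 := by
    have h4 : f' * f⁻¹ = s⁻¹ * (s * (f' * f⁻¹) * s⁻¹) * s := by group
    rw [h4, ← h1]
    group
  exact (mul_inv_eq_one.1 h3).symm

theorem mul_split (h : Base S T D a b s N) {d f d' f' : G} (hf : f ∈ D) (hd' : d' ∈ D) :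
    (d * (s * f * s⁻¹)) * (d' * (s * f' * s⁻¹)) = (d * d') * (s * (f * f') * s⁻¹) := by
  calc (d * (s * f * s⁻¹)) * (d' * (s * f' * s⁻¹))
      = d * ((s * f * s⁻¹) * d') * (s * f' * s⁻¹) := by group
    _ = d * (d' * (s * f * s⁻¹)) * (s * f' * s⁻¹) := by rw [h.comm d' hd' f hf]
    _ = _ := by group

/-- The involutions of `⟨a⟩ × ⟨s a s⁻¹⟩`. -/
theorem A0_inv (h : Base S T D a b s N) {g : G} (hg : g ∈ h.A0) (hgg : g * g = 1) :
    g = 1 ∨ g = s * zz a N * s⁻¹ ∨ g = zz a N ∨ g = (s * zz a N * s⁻¹) * zz a N := by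
  obtain ⟨i, j, rfl⟩ := h.mem_A0.1 hg
  rw [h.mul_split (h.dih.rpow_mem _) (h.dih.rpow_mem _)] at hgg
  have h1 := h.split (D.mul_mem (h.dih.rpow_mem i) (h.dih.rpow_mem i))
    (D.mul_mem (h.dih.rpow_mem j) (h.dih.rpow_mem j)) D.one_mem D.one_mem
    (by rw [hgg]; group)
  rcases h.dih.rot_sq h1.1 with h2 | h2 <;> rcases h.dih.rot_sq h1.2 with h3 | h3
  · left
    rw [h2, h3]
    group
  · right; left
    rw [h2, h3, one_mul]
  · right; right; left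
    rw [h2, h3]
    group
  · right; right; right
    rw [h2, h3, h.x_z]

/-- squares of elements of `S` lie in `T` -/
theorem S_sq (h : Base S T D a b s N) {w : G} (hw : w ∈ S) : w * w ∈ T := by
  by_cases hwT : w ∈ T
  · exact T.mul_mem hwT hwT
  · have h1 := h.ST w hw hwT
    have h2 : w * w = (w * s) * (s * (w * s) * s⁻¹) := by
      rw [h.s_inv]
      calc w * w = w * (s * s) * w * (s * s) := by rw [h.ss, mul_one, mul_one]
        _ = _ := by group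
    rw [h2]
    exact T.mul_mem h1 (h.norm_s _ h1)

theorem sq_A0 (h : Base S T D a b s N) {t : G} (ht : t ∈ T) : t * t ∈ h.A0 := h.mem_A0.2 (h.sq t ht)

theorem hpow (h : Base S T D a b s N) {w : G} (hw : w ∈ S) (hp : w ^ 2 ^ (N + 1) = 1) :
    w ^ 2 ^ N = 1 ∨ w ^ 2 ^ N = s * zz a N * s⁻¹ ∨ w ^ 2 ^ N = zz a N ∨
      w ^ 2 ^ N = (s * zz a N * s⁻¹) * zz a N := by
  apply h.A0_inv
  · obtain ⟨m, rfl⟩ : ∃ m, N = m + 2 := ⟨N - 2, by have := h.dih.two_le; omega⟩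
    have h1 : w ^ 2 ^ (m + 2) = ((w * w) * (w * w)) ^ 2 ^ m := by
      rw [← pow_two w, ← pow_two (w ^ 2), ← pow_mul, ← pow_mul]
      congr 1
      rw [pow_add]
      ring
    rw [h1]
    exact pow_mem (h.sq_A0 (h.S_sq hw)) _
  · rw [← pow_two, ← pow_mul, ← pow_succ, hp]

theorem star (h : Base S T D a b s N) {y1 b1 : G} (hy : y1 ∈ T) (hb : b1 ∈ T)
    (hp : y1 ^ 2 ^ N = (s * zz a N * s⁻¹) * zz a N)
    (hj : b1 * y1 ^ 2 ^ (N - 1) * b1⁻¹ = (y1 ^ 2 ^ (N - 1))⁻¹) :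
    IsConj ((s * zz a N * s⁻¹) * b1) b1 := by
  obtain ⟨m, rfl⟩ : ∃ m, N = m + 2 := ⟨N - 2, by have := h.dih.two_le; omega⟩
  have h1 : y1 ^ 2 ^ (m + 2 - 1) = (y1 * y1) ^ 2 ^ m := by
    rw [← pow_two y1, ← pow_mul]
    congr 1
    rw [show m + 2 - 1 = m + 1 from by omega, pow_succ']
  obtain ⟨i, k, hik⟩ := h.mem_A0.1 (pow_mem (h.sq_A0 hy) (2 ^ m))
  have h2 : y1 ^ 2 ^ (m + 2) = (y1 ^ 2 ^ (m + 2 - 1)) * (y1 ^ 2 ^ (m + 2 - 1)) := by
    rw [← pow_add]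
    congr 1
    rw [show m + 2 - 1 = m + 1 from by omega, pow_succ]
    ring
  rw [h1, hik] at hj
  rw [h2, h1, hik, h.mul_split (h.dih.rpow_mem _) (h.dih.rpow_mem _), h.x_z] at hp
  have h3 := h.split (D.mul_mem (h.dih.rpow_mem i) (h.dih.rpow_mem i))
    (D.mul_mem (h.dih.rpow_mem k) (h.dih.rpow_mem k)) h.dih.z_mem h.dih.z_mem hp
  -- `b1` inverts the second component
  have h4 : ∀ f ∈ D, ∃ f' ∈ D, b1 * (s * f * s⁻¹) * b1⁻¹ = s * f' * s⁻¹ := by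
    intro f hf
    refine ⟨(s * b1 * s⁻¹) * f * (s * b1 * s⁻¹)⁻¹, h.norm _ (h.norm_s _ hb) _ hf, ?_⟩
    nth_rewrite 1 2 [← h.cc b1]
    group
  obtain ⟨f', hf', hff'⟩ := h4 _ (h.dih.rpow_mem k)
  have h5 : (b1 * a ^ i * b1⁻¹) * (s * f' * s⁻¹) = a ^ (-i) * (s * a ^ (-k) * s⁻¹) := by
    rw [← hff']
    calc (b1 * a ^ i * b1⁻¹) * (b1 * (s * a ^ k * s⁻¹) * b1⁻¹) =
        b1 * (a ^ i * (s * a ^ k * s⁻¹)) * b1⁻¹ := by group
      _ = (a ^ i * (s * a ^ k * s⁻¹))⁻¹ := hj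
      _ = (s * a ^ (-k) * s⁻¹) * a ^ (-i) := by group
      _ = _ := (h.comm _ (h.dih.rpow_mem _) _ (h.dih.rpow_mem _)).symm
  have h6 := h.split (h.norm _ hb _ (h.dih.rpow_mem i)) hf' (h.dih.rpow_mem _) (h.dih.rpow_mem _) h5
  rw [h6.2] at hff'
  apply IsConj.symm
  rw [isConj_iff]
  refine ⟨s * a ^ k * s⁻¹, ?_⟩
  have h7 : b1 * (s * a ^ k * s⁻¹)⁻¹ = (s * a ^ k * s⁻¹) * b1 := by
    have h8 : b1 * (s * a ^ k * s⁻¹)⁻¹ * b1⁻¹ = s * a ^ k * s⁻¹ := by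
      calc b1 * (s * a ^ k * s⁻¹)⁻¹ * b1⁻¹ = (b1 * (s * a ^ k * s⁻¹) * b1⁻¹)⁻¹ := by group
        _ = (s * a ^ (-k) * s⁻¹)⁻¹ := by rw [hff']
        _ = _ := by group
    calc b1 * (s * a ^ k * s⁻¹)⁻¹ = (b1 * (s * a ^ k * s⁻¹)⁻¹ * b1⁻¹) * b1 := by group
      _ = _ := by rw [h8]
  rw [mul_assoc, h7, ← mul_assoc]
  congr 1
  rw [← h3.2]
  group

theorem relIndex (h : Base S T D a b s N) : T.relIndex S = 2 := by
  rw [Subgroup.relIndex_eq_two_iff]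
  refine ⟨s, h.sS, fun w hw => ?_⟩
  by_cases hwT : w ∈ T
  · right
    refine ⟨hwT, fun h1 => h.sT ?_⟩
    have h2 : s = w⁻¹ * (w * s) := by group
    rw [h2]
    exact T.mul_mem (T.inv_mem hwT) h1
  · left
    exact ⟨h.ST w hw hwT, hwT⟩

/-- the diagonal involution `b b^s` -/
theorem bh_s (h : Base S T D a b s N) : (b * (s * b * s⁻¹)) * s = s * (b * (s * b * s⁻¹)) := by
  have h1 := h.comm b h.dih.c_mem b h.dih.c_mem
  rw [h1]
  nth_rewrite 1 [h.s_inv]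
  calc s * b * s * b * s = s * (b * (s * b * s)) := by group
    _ = s * (b * (s * b * s⁻¹)) := by rw [h.s_inv]
    _ = _ := by rw [h1]

theorem bh_bh (h : Base S T D a b s N) : (b * (s * b * s⁻¹)) * (b * (s * b * s⁻¹)) = 1 := by
  rw [h.mul_split h.dih.c_mem h.dih.c_mem, h.dih.cc]
  group

theorem conj_sb (h : Base S T D a b s N) : IsConj s (s * (b * (s * b * s⁻¹))) := by
  rw [isConj_iff]
  refine ⟨b, ?_⟩
  rw [← h.bh_s, h.dih.c_inv]
  group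

theorem data [Finite G] {S : Sylow 2 G} (h : Base (S : Subgroup G) T D a b s N) {y : G} (hy : y ∈ T)
    (ys : y * s = s * y)
    (yy : y * y = a * (s * a * s⁻¹) ∨
      y * y = a * (s * a * s⁻¹) * ((s * zz a N * s⁻¹) * zz a N))
    (sylT : ∀ P : Subgroup G, IsPGroup 2 P →
      (∀ p ∈ P, p * (s * zz a N * s⁻¹) = (s * zz a N * s⁻¹) * p) →
      ∃ h : G, h * (s * zz a N * s⁻¹) = (s * zz a N * s⁻¹) * h ∧ ∀ p ∈ P, h * p * h⁻¹ ∈ T)
    (nconj : ¬ IsConj (s * zz a N * s⁻¹) ((s * zz a N * s⁻¹) * zz a N))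
    (fus : IsConj (b * (s * b * s⁻¹)) ((s * zz a N * s⁻¹) * zz a N)) :
    Data S T (s * zz a N * s⁻¹) (zz a N) s y (b * (s * b * s⁻¹)) (N + 1) := by
  obtain ⟨m, rfl⟩ : ∃ m, N = m + 2 := ⟨N - 2, by have := h.dih.two_le; omega⟩
  have hee : ((s * zz a (m + 2) * s⁻¹) * zz a (m + 2)) * ((s * zz a (m + 2) * s⁻¹) * zz a (m + 2)) = 1 := by
    rw [h.x_z, h.mul_split h.dih.z_mem h.dih.z_mem, h.dih.z_sq]
    group
  have heT : (s * zz a (m + 2) * s⁻¹) * zz a (m + 2) ∈ T := T.mul_mem h.x_T h.z_T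
  have hbT : b * (s * b * s⁻¹) ∈ T := T.mul_mem (h.DT h.dih.c_mem) (h.norm_s _ (h.DT h.dih.c_mem))
  -- `y² = a^k a'^k` up to `e`; in each case `b̂` inverts `y²`
  have hinv0 : (b * (s * b * s⁻¹)) * (a * (s * a * s⁻¹)) * (b * (s * b * s⁻¹))⁻¹ =
      (a * (s * a * s⁻¹))⁻¹ := by
    have h1 : (b * (s * b * s⁻¹))⁻¹ = b * (s * b * s⁻¹) :=
      inv_eq_of_mul_eq_one_left h.bh_bh
    rw [h1, h.mul_split h.dih.c_mem h.dih.r_mem,
      h.mul_split (D.mul_mem h.dih.c_mem h.dih.r_mem) h.dih.c_mem, h.dih.crc]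
    rw [h.comm _ (D.inv_mem h.dih.r_mem) _ (D.inv_mem h.dih.r_mem)]
    group
  have hinv : (b * (s * b * s⁻¹)) * (y * y) * (b * (s * b * s⁻¹))⁻¹ = (y * y)⁻¹ := by
    rcases yy with h1 | h1
    · rw [h1, hinv0]
    · rw [h1]
      have h2 := h.cent _ (h.TS hbT)
      have h3 := h.cent _ (h.TS (T.mul_mem (h.DT h.dih.r_mem) (h.norm_s _ (h.DT h.dih.r_mem))))
      have h4 : ((s * zz a (m + 2) * s⁻¹) * zz a (m + 2))⁻¹ = (s * zz a (m + 2) * s⁻¹) * zz a (m + 2) :=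
        inv_eq_of_mul_eq_one_left hee
      exact inv_aux h2 h3 h4 hinv0
  have hj : (b * (s * b * s⁻¹)) * y ^ 2 ^ (m + 2 - 1) * (b * (s * b * s⁻¹))⁻¹ = (y ^ 2 ^ (m + 2 - 1))⁻¹ := by
    have h1 : y ^ 2 ^ (m + 2 - 1) = (y * y) ^ 2 ^ m := by
      rw [← pow_two y, ← pow_mul]
      congr 1
      rw [show m + 2 - 1 = m + 1 from by omega, pow_succ']
    rw [h1, ← conj_pow, hinv, inv_pow]
  have hyp : y ^ 2 ^ (m + 2) = (s * zz a (m + 2) * s⁻¹) * zz a (m + 2) := by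
    have h1 : y ^ 2 ^ (m + 2) = (y * y) ^ 2 ^ (m + 1) := by
      rw [← pow_two y, ← pow_mul]
      congr 1
      rw [pow_succ']
    have h2 : (a * (s * a * s⁻¹)) ^ 2 ^ (m + 1) = (s * zz a (m + 2) * s⁻¹) * zz a (m + 2) := by
      have h3 : Commute a (s * a * s⁻¹) := h.comm a h.dih.r_mem a h.dih.r_mem
      rw [h3.mul_pow, conj_pow, h.x_z]
      rfl
    rw [h1]
    rcases yy with h4 | h4
    · rw [h4, h2]
    · have h5 : Commute (a * (s * a * s⁻¹)) ((s * zz a (m + 2) * s⁻¹) * zz a (m + 2)) :=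
        h.cent _ (h.TS (T.mul_mem (h.DT h.dih.r_mem) (h.norm_s _ (h.DT h.dih.r_mem))))
      rw [h4, h5.mul_pow, h2]
      have h6 : ((s * zz a (m + 2) * s⁻¹) * zz a (m + 2)) ^ 2 ^ (m + 1) = 1 := by
        rw [pow_succ', pow_mul, pow_two, hee, one_pow]
      rw [h6, mul_one]
  exact
    { hn := by omega
      xx := h.xx
      zz := h.dih.z_sq
      hxz := h.x_z
      x_ne_z := h.x_ne_z
      TS := h.TS
      idx := h.relIndex
      cent := h.cent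
      sylT := sylT
      nconj := nconj
      conj_xz := (isConj_iff.2 ⟨s, rfl⟩).symm
      hpow := fun w hw hp => h.hpow hw hp
      eT := heT
      sS := h.sS
      sT := h.sT
      ss := h.ss
      yS := h.TS hy
      ys := ys
      ypow := hyp
      bS := h.TS hbT
      bs := h.bh_s
      bb := h.bh_bh
      by_inv := hj
      conj_b := fus
      conj_sb := h.conj_sb
      star := fun y1 hy1 b1 hb1 hp _ hj1 => h.star hy1 hb1 hp hj1 }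

end Base

end Cfsg.Agent.GH.L2.Kill
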