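import Cfsg.Agent.GH.L2.Tool
import Cfsg.Agent.SylowSp4.ExtTransfer
import Mathlib

/-!
# Project GH, branch GH-L2, CASE I: the abstract transfer kill

`S` a Sylow `2`-subgroup of `G`, `T = C_S(x)` of index two in `S`, `x * z` central in `S`, and an
involution `s` of `S` outside `T`.  `Data.not_conj_x`, `Data.not_conj_e`: the involution `s` is conjugate
neither to `x` nor to `x * z`.  `Data.kill`: hence `G` has a subgroup of index two, as soon as a maximal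
subgroup `M` of `S` with `s ∉ M` has only involutions which are conjugate to `x`, to `x * z`, or which have
a small centraliser.
-/

set_option autoImplicit false

namespace Cfsg.Agent.GH.L2.Kill

open Subgroup

variable {G : Type*} [Group G] [Finite G]

/-- The common data of the transfer kills. -/
structure Data (S : Sylow 2 G) (T : Subgroup G) (x z s y b : G) (n : ℕ) : Prop where
  hn : 3 ≤ n
  xx : x * x = 1
  zz : z * z = 1
  hxz : x * z = z * x
  x_ne_z : x ≠ z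
  TS : T ≤ S
  idx : T.relIndex (S : Subgroup G) = 2
  cent : ∀ w ∈ S, w * (x * z) = (x * z) * w
  sylT : ∀ P : Subgroup G, IsPGroup 2 P → (∀ p ∈ P, p * x = x * p) →
    ∃ h : G, h * x = x * h ∧ ∀ p ∈ P, h * p * h⁻¹ ∈ T
  nconj : ¬ IsConj x (x * z)
  conj_xz : IsConj x z
  hpow : ∀ w ∈ S, w ^ (2 ^ n) = 1 → w ^ (2 ^ (n - 1)) = 1 ∨ w ^ (2 ^ (n - 1)) = x ∨
    w ^ (2 ^ (n - 1)) = z ∨ w ^ (2 ^ (n - 1)) = x * z
  eT : x * z ∈ T
  sS : s ∈ S
  sT : s ∉ T
  ss : s * s = 1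
  yS : y ∈ S
  ys : y * s = s * y
  ypow : y ^ (2 ^ (n - 1)) = x * z
  bS : b ∈ S
  bs : b * s = s * b
  bb : b * b = 1
  by_inv : b * y ^ (2 ^ (n - 2)) * b⁻¹ = (y ^ (2 ^ (n - 2)))⁻¹
  conj_b : IsConj b (x * z)
  conj_sb : IsConj s (s * b)
  star : ∀ y1 ∈ T, ∀ b1 ∈ T, y1 ^ (2 ^ (n - 1)) = x * z → b1 * b1 = 1 →
    b1 * y1 ^ (2 ^ (n - 2)) * b1⁻¹ = (y1 ^ (2 ^ (n - 2)))⁻¹ → IsConj (x * b1) b1

/-- The centraliser of `s` in the `2`-subgroup `S`. -/
def cs (S : Subgroup G) (s : G) : Subgroup G where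
  carrier := {r | r ∈ S ∧ r * s = s * r}
  one_mem' := ⟨S.one_mem, by simp⟩
  mul_mem' := by
    rintro a b ⟨ha, ha'⟩ ⟨hb, hb'⟩
    refine ⟨S.mul_mem ha hb, ?_⟩
    rw [mul_assoc, hb', ← mul_assoc, ha', mul_assoc]
  inv_mem' := by
    rintro a ⟨ha, ha'⟩
    refine ⟨S.inv_mem ha, ?_⟩
    have h : a * (a⁻¹ * s) * a⁻¹ = a * (s * a⁻¹) * a⁻¹ := by
      rw [mul_inv_cancel_left, ← mul_assoc a s, ha']
      group
    exact mul_left_cancel (mul_right_cancel h)

omit [Finite G] in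
theorem mem_cs {S : Subgroup G} {s r : G} : r ∈ cs S s ↔ r ∈ S ∧ r * s = s * r := Iff.rfl

omit [Finite G] in
theorem conj_sq {g a : G} (h : a * a = 1) : (g * a * g⁻¹) * (g * a * g⁻¹) = 1 := by
  have : (g * a * g⁻¹) * (g * a * g⁻¹) = g * (a * a) * g⁻¹ := by group
  rw [this, h, mul_one, mul_inv_cancel]

omit [Finite G] in
theorem conj_comm {g a c : G} (h : a * c = c * a) :
    (g * a * g⁻¹) * (g * c * g⁻¹) = (g * c * g⁻¹) * (g * a * g⁻¹) := by
  have h1 : (g * a * g⁻¹) * (g * c * g⁻¹) = g * (a * c) * g⁻¹ := by group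
  have h2 : (g * c * g⁻¹) * (g * a * g⁻¹) = g * (c * a) * g⁻¹ := by group
  rw [h1, h2, h]

omit [Finite G] in
theorem conj_inv_pow {g b y : G} {m : ℕ} (h : b * y ^ m * b⁻¹ = (y ^ m)⁻¹) :
    (g * b * g⁻¹) * (g * y * g⁻¹) ^ m * (g * b * g⁻¹)⁻¹ = ((g * y * g⁻¹) ^ m)⁻¹ := by
  rw [conj_pow]
  have h1 : (g * b * g⁻¹) * (g * y ^ m * g⁻¹) * (g * b * g⁻¹)⁻¹ = g * (b * y ^ m * b⁻¹) * g⁻¹ := by
    group
  rw [h1, h]
  group

namespace Data

variable {S : Sylow 2 G} {T : Subgroup G} {x z s y b : G} {n : ℕ}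

omit [Finite G] in
theorem e_ne (h : Data S T x z s y b n) : x * z ≠ 1 := by
  intro h1
  apply h.x_ne_z
  have h2 : x * (x * z) = x * 1 := by rw [h1]
  rw [← mul_assoc, h.xx, one_mul, mul_one] at h2
  exact h2.symm

omit [Finite G] in
theorem ee (h : Data S T x z s y b n) : (x * z) * (x * z) = 1 := by
  calc (x * z) * (x * z) = x * (z * x) * z := by group
    _ = (x * x) * (z * z) := by rw [← h.hxz]; group
    _ = 1 := by rw [h.xx, h.zz, one_mul]

omit [Finite G] in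
/-- A conjugate of `e = x * z` which is a `2 ^ (n - 1)`-th power of an element of `S` equals `e`. -/
theorem conj_e_eq (h : Data S T x z s y b n) {g w : G} (hw : w ∈ S) (he : w ^ (2 ^ (n - 1)) = g * (x * z) * g⁻¹) :
    w ^ (2 ^ (n - 1)) = x * z := by
  have hne : w ^ (2 ^ (n - 1)) ≠ 1 := by
    rw [he]
    intro h1
    apply h.e_ne
    have h2 : x * z = g⁻¹ * (g * (x * z) * g⁻¹) * g := by group
    rw [h2, h1]
    group
  have hex : IsConj (w ^ (2 ^ (n - 1))) (x * z) := by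
    rw [he]
    exact (isConj_iff.2 ⟨g, rfl⟩).symm
  have hn := h.hn
  have hpw : w ^ (2 ^ n) = 1 := by
    have h1 : (2 : ℕ) ^ n = 2 ^ (n - 1) * 2 := by
      rw [← pow_succ]
      congr 1
      omega
    rw [h1, pow_mul, he, pow_two]
    exact conj_sq h.ee
  rcases h.hpow w hw hpw with h1 | h1 | h1 | h1
  · exact absurd h1 hne
  · rw [h1] at hex
    exact absurd hex h.nconj
  · rw [h1] at hex
    exact absurd (h.conj_xz.trans hex) h.nconj
  · exact h1

/-- Extremal conjugation of `s` to `x`. -/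
theorem exists_to_x (h : Data S T x z s y b n) (hs : IsConj s x) :
    ∃ g : G, g * s * g⁻¹ = x ∧ ∀ r ∈ S, r * s = s * r → g * r * g⁻¹ ∈ T := by
  obtain ⟨g, hg⟩ := isConj_iff.1 hs
  have hP : IsPGroup 2 ((cs (S : Subgroup G) s).map (MulAut.conj g).toMonoidHom) := by
    refine (IsPGroup.to_le S.isPGroup' ?_).map _
    intro r hr
    exact hr.1
  obtain ⟨k, hk, hk'⟩ := h.sylT _ hP (by
    rintro _ ⟨r, hr, rfl⟩
    have h1 : (MulAut.conj g).toMonoidHom r = g * r * g⁻¹ := rfl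
    rw [h1, ← hg]
    exact conj_comm hr.2)
  refine ⟨k * g, ?_, ?_⟩
  · have h1 : (k * g) * s * (k * g)⁻¹ = k * (g * s * g⁻¹) * k⁻¹ := by group
    rw [h1, hg, hk, mul_inv_cancel_right]
  · intro r hr hrs
    have h1 : (k * g) * r * (k * g)⁻¹ = k * (g * r * g⁻¹) * k⁻¹ := by group
    rw [h1]
    exact hk' _ ⟨r, ⟨hr, hrs⟩, rfl⟩

/-- Extremal conjugation of `s` to `e = x * z`. -/
theorem exists_to_e (h : Data S T x z s y b n) (hs : IsConj s (x * z)) :
    ∃ g : G, g * s * g⁻¹ = x * z ∧ ∀ r ∈ S, r * s = s * r → g * r * g⁻¹ ∈ S := by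
  obtain ⟨g, hg⟩ := isConj_iff.1 hs
  have hP : IsPGroup 2 ((cs (S : Subgroup G) s).map (MulAut.conj g).toMonoidHom) := by
    refine (IsPGroup.to_le S.isPGroup' ?_).map _
    intro r hr
    exact hr.1
  obtain ⟨k, hk, hk'⟩ := Tool.conj_into S (H := cs ⊤ (x * z)) (P := _)
    (fun w hw => ⟨mem_top _, h.cent w hw⟩) hP (by
      rintro _ ⟨r, hr, rfl⟩
      have h1 : (MulAut.conj g).toMonoidHom r = g * r * g⁻¹ := rfl
      refine ⟨mem_top _, ?_⟩
      rw [h1, ← hg]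
      exact conj_comm hr.2)
  refine ⟨k * g, ?_, ?_⟩
  · have h1 : (k * g) * s * (k * g)⁻¹ = k * (g * s * g⁻¹) * k⁻¹ := by group
    rw [h1, hg, hk.2, mul_inv_cancel_right]
  · intro r hr hrs
    have h1 : (k * g) * r * (k * g)⁻¹ = k * (g * r * g⁻¹) * k⁻¹ := by group
    rw [h1]
    exact hk' _ ⟨r, ⟨hr, hrs⟩, rfl⟩

theorem not_conj_e (h : Data S T x z s y b n) : ¬ IsConj s (x * z) := by
  intro hs
  obtain ⟨g, hg, hgS⟩ := h.exists_to_e hs
  have h1 : (g * y * g⁻¹) ^ (2 ^ (n - 1)) = g * (x * z) * g⁻¹ := by rw [conj_pow, h.ypow]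
  have h2 := h.conj_e_eq (hgS y h.yS h.ys) h1
  rw [h1] at h2
  have h3 : s = x * z := by
    have h4 : g * s * g⁻¹ = g * (x * z) * g⁻¹ := by rw [hg, h2]
    exact mul_left_cancel (mul_right_cancel h4)
  exact h.sT (h3 ▸ h.eT)

theorem not_conj_x (h : Data S T x z s y b n) : ¬ IsConj s x := by
  intro hs
  obtain ⟨g, hg, hgT⟩ := h.exists_to_x hs
  have h1 : (g * y * g⁻¹) ^ (2 ^ (n - 1)) = g * (x * z) * g⁻¹ := by rw [conj_pow, h.ypow]
  have h2 := h.conj_e_eq (h.TS (hgT y h.yS h.ys)) h1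
  have h3 := h.star _ (hgT y h.yS h.ys) _ (hgT b h.bS h.bs) h2 (conj_sq h.bb) (conj_inv_pow h.by_inv)
  have h4 : x * (g * b * g⁻¹) = g * (s * b) * g⁻¹ := by
    rw [← hg]; group
  rw [h4] at h3
  -- `s ~ s b ~ b^g ~ b ~ e`
  have h5 : IsConj s (x * z) :=
    (h.conj_sb.trans ((isConj_iff.2 ⟨g, rfl⟩).trans h3)).trans
      ((isConj_iff.2 ⟨g, rfl⟩).symm.trans h.conj_b)
  exact h.nconj (hs.symm.trans h5)

/-- **The transfer kill.** -/
theorem kill (h : Data S T x z s y b n) (hG : ∀ f : G →* ℤˣ, ∀ g, f g = 1)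
    (M : Subgroup G) (hM : M ≤ S) (hMi : M.relIndex (S : Subgroup G) = 2)
    (hI : ∀ v ∈ M, v * v = 1 → v ≠ 1 → IsConj v x ∨ IsConj v (x * z) ∨
      (∃ T1 : Subgroup G, T1 ≤ T ∧ (∀ t ∈ T, t * t ∈ T1) ∧ (∀ t ∈ T, ∀ u ∈ T, t ∉ T1 → u ∉ T1 → t * u ∈ T1) ∧
        (∀ r ∈ T1, r * v = v * r → r * r = 1 ∧ ∀ t ∈ T, t * v = v * t → r * t = t * r))) : False := by
  obtain ⟨g, hgM, hgS⟩ := SylowSp4.ExtTransfer.exists_extremal S M hM hMi s h.ss (fun f => hG f s)
    (cs (S : Subgroup G) s) (IsPGroup.to_le S.isPGroup' fun r hr => hr.1) (fun r hr => hr.2)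
  have hvv := conj_sq (g := g) h.ss
  have hsne : s ≠ 1 := by
    rintro rfl
    exact h.sT T.one_mem
  have hvne : g * s * g⁻¹ ≠ 1 := by
    intro h1
    apply hsne
    have h2 : s = g⁻¹ * (g * s * g⁻¹) * g := by group
    rw [h2, h1]
    group
  rcases hI _ hgM hvv hvne with h1 | h1 | ⟨T1, hT1, hsq, hidx, hcen⟩
  · exact h.not_conj_x ((isConj_iff.2 ⟨g, rfl⟩).trans h1)
  · exact h.not_conj_e ((isConj_iff.2 ⟨g, rfl⟩).trans h1)
  · have hn := h.hn
    -- the images of `y` and `b`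
    obtain ⟨y1, hy1⟩ : ∃ y1, y1 = g * y * g⁻¹ := ⟨_, rfl⟩
    obtain ⟨b1, hb1⟩ : ∃ b1, b1 = g * b * g⁻¹ := ⟨_, rfl⟩
    obtain ⟨v, hv⟩ : ∃ v, v = g * s * g⁻¹ := ⟨_, rfl⟩
    have hyS : y1 ∈ S := by rw [hy1]; exact hgS y ⟨h.yS, h.ys⟩
    have hbS : b1 ∈ S := by rw [hb1]; exact hgS b ⟨h.bS, h.bs⟩
    have hyv : y1 * v = v * y1 := by rw [hy1, hv]; exact conj_comm h.ys
    have hbv : b1 * v = v * b1 := by rw [hb1, hv]; exact conj_comm h.bs
    rw [← hv] at hcen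
    have hT2 : ∀ t ∈ S, ∀ u ∈ S, t ∉ T → u ∉ T → t * u ∈ T := by
      intro t ht u hu htT huT
      have hT2 : (T.subgroupOf (S : Subgroup G)).index = 2 := h.idx
      have h2 := Subgroup.mul_mem_iff_of_index_two hT2 (a := (⟨t, ht⟩ : (S : Subgroup G)))
        (b := ⟨u, hu⟩)
      exact h2.2 ⟨fun h3 => absurd h3 htT, fun h3 => absurd h3 huT⟩
    have hSsq : ∀ t ∈ S, t * t ∈ T := by
      intro t ht
      by_cases htT : t ∈ T
      · exact T.mul_mem htT htT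
      · exact hT2 t ht t ht htT htT
    -- `j = y1 ^ (2 ^ (n - 2))` is an element of order four of `C_T(v)`
    obtain ⟨j, hj⟩ : ∃ j, j = y1 ^ (2 ^ (n - 2)) := ⟨_, rfl⟩
    have hjj : j * j ≠ 1 := by
      have h2 : j * j = g * (x * z) * g⁻¹ := by
        rw [hj, ← pow_two, ← pow_mul, ← pow_succ, hy1, conj_pow]
        congr 2
        rw [← h.ypow]
        congr 2
        omega
      rw [h2]
      intro h3
      apply h.e_ne
      have h4 : x * z = g⁻¹ * (g * (x * z) * g⁻¹) * g := by group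
      rw [h4, h3]
      group
    have hjb : b1 * j * b1⁻¹ = j⁻¹ := by
      rw [hj, hb1, hy1]
      exact conj_inv_pow h.by_inv
    have hjv : j * v = v * j := by
      rw [hj]
      exact ((show Commute y1 v from hyv).pow_left _).eq
    have hjy : j * y1 = y1 * j := by
      rw [hj]
      exact ((Commute.refl y1).pow_left _).eq
    have hjT : j ∈ T := by
      have h2 : j = (y1 * y1) ^ (2 ^ (n - 3)) := by
        rw [hj, ← pow_two, ← pow_mul]
        congr 1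
        rw [← pow_succ']
        congr 1
        omega
      rw [h2]
      exact T.pow_mem (hSsq y1 hyS) _
    -- `j` is not in `T1`
    have hjT1 : j ∉ T1 := fun h2 => hjj (hcen j h2 hjv).1
    have hyT : y1 ∉ T := by
      intro h2
      apply hjT1
      have h3 : j = (y1 * y1) ^ (2 ^ (n - 3)) := by
        rw [hj, ← pow_two, ← pow_mul]
        congr 1
        rw [← pow_succ']
        congr 1
        omega
      rw [h3]
      exact T1.pow_mem (hsq y1 h2) _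
    -- `r ∈ T` inverting `j`
    obtain ⟨r, hrT, hrv, hrj⟩ : ∃ r ∈ T, r * v = v * r ∧ r * j * r⁻¹ = j⁻¹ := by
      by_cases hbT : b1 ∈ T
      · exact ⟨b1, hbT, hbv, hjb⟩
      · refine ⟨b1 * y1, hT2 _ hbS _ hyS hbT hyT, ?_, ?_⟩
        · rw [mul_assoc, hyv, ← mul_assoc, hbv, mul_assoc]
        · have h2 : b1 * y1 * j * (b1 * y1)⁻¹ = b1 * (y1 * j * y1⁻¹) * b1⁻¹ := by group
          rw [h2, ← hjy, mul_inv_cancel_right, hjb]
    have hrj' : r * j ≠ j * r := by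
      intro h2
      rw [h2, mul_inv_cancel_right] at hrj
      apply hjj
      nth_rewrite 1 [hrj]
      exact inv_mul_cancel j
    by_cases hr : r ∈ T1
    · exact hrj' ((hcen r hr hrv).2 j hjT hjv)
    · have h2 : r * j ∈ T1 := hidx r hrT j hjT hr hjT1
      have h3 := (hcen _ h2 (by rw [mul_assoc, hjv, ← mul_assoc, hrv, mul_assoc])).2 j hjT hjv
      apply hrj'
      have h4 : r * j * j = j * r * j := by rw [h3, mul_assoc]
      exact mul_right_cancel h4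

end Data

end Cfsg.Agent.GH.L2.Kill
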