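import Cfsg.Agent.GH.L2.TFourQuot
import Cfsg.Agent.SylowSp4.ExtTransfer
import Cfsg.Agent.GH.T4Defs

/-!
# Project GH, branch GH-L2, case (T4): order 128, `t` trivial on the centre: impossible
-/

set_option autoImplicit false

namespace Cfsg.Agent.GH.L2.TFour

open Subgroup Cfsg.Agent.J2Sylow.Model Tool

variable {G : Type*} [Group G]

/-- a group of exponent two is a 2-group -/
theorem isPGroup_of_sq {A : Subgroup G} (hA : ∀ x ∈ A, x * x = 1) : IsPGroup 2 A := by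
  intro x
  refine ⟨1, Subtype.ext ?_⟩
  have := hA x x.2
  simpa [pow_two] using this

namespace UT

variable {X Y Z : F4 → G} (h : UT X Y Z)
include h

theorem E_comm {x y : G} (hx : x ∈ h.E) (hy : y ∈ h.E) : x * y = y * x := by
  obtain ⟨a, c, rfl⟩ := hx
  obtain ⟨a', c', rfl⟩ := hy
  rw [h.el_mul, h.el_mul]
  congr 1 <;> ring

theorem F_comm {x y : G} (hx : x ∈ h.F) (hy : y ∈ h.F) : x * y = y * x := by
  obtain ⟨a, c, rfl⟩ := hx
  obtain ⟨a', c', rfl⟩ := hy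
  rw [h.el_mul, h.el_mul]
  congr 1 <;> ring

theorem E_sq {x : G} (hx : x ∈ h.E) : x * x = 1 := by
  obtain ⟨a, c, rfl⟩ := hx
  rw [h.el_sq, mul_zero, h.Z0]

theorem F_sq {x : G} (hx : x ∈ h.F) : x * x = 1 := by
  obtain ⟨a, c, rfl⟩ := hx
  rw [h.el_sq, zero_mul, h.Z0]

end UT

namespace UTt

variable {X Y Z : F4 → G} {t : G} (h : UTt X Y Z t)
include h

/-- `U⟨t⟩` is not fused into `R` -/
theorem B_not_R [Finite G] (h2 : IsPGroup 2 h.RT)
    (hmax : ∀ T : Subgroup G, IsPGroup 2 T → h.RT ≤ T → T ≤ centralizer (h.U : Set G) →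
      Nat.card T ≤ Nat.card h.RT) {g : G} (hg : ∀ x ∈ h.B, g * x * g⁻¹ ∈ h.R) : False := by
  have : Fact (Nat.Prime 2) := ⟨Nat.prime_two⟩
  have key : ∀ E1 : Subgroup G, Nat.card E1 = 16 → (∀ x ∈ E1, x * x = 1) →
      (∀ x ∈ E1, ∀ y ∈ E1, x * y = y * x) → (∀ x ∈ h.B, g * x * g⁻¹ ∈ E1) → False := by
    intro E1 hcard hsq hcomm hB
    set T1 : Subgroup G := E1.map (MulAut.conj g⁻¹).toMonoidHom with hT1
    have mT1 : ∀ x, x ∈ T1 ↔ g * x * g⁻¹ ∈ E1 := by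
      intro x
      rw [hT1, mem_map_conj, inv_inv]
    have hT2 : IsPGroup 2 T1 := isPGroup_conj (isPGroup_of_sq hsq) _
    have hT1c : ∀ x ∈ T1, ∀ y ∈ T1, x * y = y * x := by
      intro x hx y hy
      have h3 := hcomm _ ((mT1 x).1 hx) _ ((mT1 y).1 hy)
      have h4 : g * (x * y) * g⁻¹ = g * (y * x) * g⁻¹ := by
        calc g * (x * y) * g⁻¹ = (g * x * g⁻¹) * (g * y * g⁻¹) := by group
          _ = (g * y * g⁻¹) * (g * x * g⁻¹) := h3
          _ = g * (y * x) * g⁻¹ := by group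
      exact mul_left_cancel (mul_right_cancel h4)
    have hBT : ∀ x ∈ h.B, x ∈ T1 := fun x hx => (mT1 x).2 (hB x hx)
    have hT1D : T1 ≤ centralizer (h.U : Set G) := fun x hx =>
      h.mem_centU.2 fun c => hT1c x hx _ (hBT _ ⟨c, Or.inl rfl⟩)
    obtain ⟨c, hc, hcT⟩ := conj_into_max (fun g hg => h.mem_centU.2 (h.RT_cent hg)) h2 hmax hT2 hT1D
    have ht1 := hcT t (hBT t h.t_mem_B)
    have ht2 := h.not_fused h2 hmax (h.mem_centU.1 hc)
    obtain ⟨r, hr, hrt⟩ := h.exists_conj_of_inv ht1 ht2 (by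
      calc c * t * c⁻¹ * (c * t * c⁻¹) = c * (t * t) * c⁻¹ := by group
        _ = 1 := by rw [h.tt]; group)
    have hsub : T1.map (MulAut.conj (r * c)).toMonoidHom ≤ h.B := by
      rintro _ ⟨x, hx, rfl⟩
      change r * c * x * (r * c)⁻¹ ∈ h.B
      refine h.mem_B.2 (h.cent_t ?_ ?_)
      · have e : r * c * x * (r * c)⁻¹ = r * (c * x * c⁻¹) * r⁻¹ := by group
        rw [e]
        exact mul_mem (mul_mem (h.R_le hr) (hcT x hx)) (inv_mem (h.R_le hr))
      · have h5 := hT1c x hx t (hBT t h.t_mem_B)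
        calc r * c * x * (r * c)⁻¹ * t = r * c * x * (r * c)⁻¹ * (r * (c * t * c⁻¹) * r⁻¹) := by rw [hrt]
          _ = r * c * (x * t) * (r * c)⁻¹ := by group
          _ = r * c * (t * x) * (r * c)⁻¹ := by rw [h5]
          _ = (r * (c * t * c⁻¹) * r⁻¹) * (r * c * x * (r * c)⁻¹) := by group
          _ = t * (r * c * x * (r * c)⁻¹) := by rw [hrt]
    have h6 := Subgroup.card_le_of_le hsub
    rw [Nat.card_congr (T1.equivMapOfInjective _ (MulAut.conj (r * c)).injective).toEquiv.symm] at h6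
    rw [hT1, Nat.card_congr (E1.equivMapOfInjective _ (MulAut.conj g⁻¹).injective).toEquiv.symm, hcard] at h6
    have := h.card_B_lt
    omega
  have hA : (h.B.map (MulAut.conj g).toMonoidHom) ≤ h.R := by
    rintro _ ⟨x, hx, rfl⟩
    exact hg x hx
  rcases h.elem_R hA (by
    rintro _ ⟨x, hx, rfl⟩
    change g * x * g⁻¹ * (g * x * g⁻¹) = 1
    calc g * x * g⁻¹ * (g * x * g⁻¹) = g * (x * x) * g⁻¹ := by group
      _ = 1 := by rw [h.B_sq hx]; group) with h3 | h3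
  · exact key h.E h.card_E (fun x hx => h.E_sq hx) (fun x hx y hy => h.E_comm hx hy) (fun x hx => h3 ⟨x, hx, rfl⟩)
  · exact key h.F h.card_F (fun x hx => h.F_sq hx) (fun x hx y hy => h.F_comm hx hy) (fun x hx => h3 ⟨x, hx, rfl⟩)

/-- index of `R` in `R⟨t⟩` -/
theorem relIndex_R : h.R.relIndex h.RT = 2 := by
  change (h.R.subgroupOf h.RT).index = 2
  rw [Subgroup.index_eq_two_iff]
  refine ⟨⟨t, h.t_mem⟩, fun x => ?_⟩
  rw [mem_subgroupOf, mem_subgroupOf]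
  change Xor (((x : G) * t) ∈ h.R) ((x : G) ∈ h.R)
  rcases h.mem_RT'.1 x.2 with hx | ⟨b, a, c, hx⟩
  · exact Or.inr ⟨hx, fun h1 => h.t_nmem ((mul_mem_cancel_left hx).1 h1)⟩
  · refine Or.inl ⟨?_, ?_⟩
    · rw [hx, mul_assoc, h.tt, mul_one]
      exact ⟨_, _, _, rfl⟩
    · rw [hx]
      exact h.elt_nmem b a c

/-- **(T4), order 128.**  `UT3(4)⟨t⟩` with `t` trivial on the centre is not a Sylow 2-subgroup of a group without
subgroups of index two. -/
theorem dead [Finite G] (P : Sylow 2 G) (hP : ∀ g, g ∈ P ↔ g ∈ h.RT) (hG : ∀ f : G →* ℤˣ, f t = 1) : False := by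
  have : Fact (Nat.Prime 2) := ⟨Nat.prime_two⟩
  have hPeq : (P : Subgroup G) = h.RT := Subgroup.ext hP
  have h2 : IsPGroup 2 h.RT := hPeq ▸ P.isPGroup'
  have hmax' : ∀ T : Subgroup G, IsPGroup 2 T → h.RT ≤ T → Nat.card T ≤ Nat.card h.RT := by
    intro T hT hle
    have := P.is_maximal' hT (by rw [hPeq]; exact hle)
    rw [this, hPeq]
  have hmax : ∀ T : Subgroup G, IsPGroup 2 T → h.RT ≤ T → T ≤ centralizer (h.U : Set G) →
      Nat.card T ≤ Nat.card h.RT := fun T hT hle _ => hmax' T hT hle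
  obtain ⟨g0, hg0t, hg0B⟩ := SylowSp4.ExtTransfer.exists_extremal P h.R (by rw [hPeq]; exact h.R_le)
    (by rw [hPeq]; exact h.relIndex_R) t h.tt hG h.B (isPGroup_of_sq fun x hx => h.B_sq hx)
    (fun x hx => h.B_comm hx h.t_mem_B)
  have hg0B' : ∀ r ∈ h.B, g0 * r * g0⁻¹ ∈ h.RT := fun r hr => (hP _).1 (hg0B r hr)
  -- some element of `B` is moved out of `R`
  obtain ⟨x, hx, hxR⟩ : ∃ x ∈ h.B, g0 * x * g0⁻¹ ∉ h.R := by
    by_contra hc
    push Not at hc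
    exact h.B_not_R h2 hmax hc
  obtain ⟨r, hr, hrt⟩ := h.exists_conj_of_inv (hg0B' x hx) hxR (by
      calc g0 * x * g0⁻¹ * (g0 * x * g0⁻¹) = g0 * (x * x) * g0⁻¹ := by group
        _ = 1 := by rw [h.B_sq hx]; group)
  -- `g = r * g0` normalises `B`
  set g : G := r * g0 with hg
  have hgx : g * x * g⁻¹ = t := by rw [← hrt, hg]; group
  have hgB : ∀ y ∈ h.B, g * y * g⁻¹ ∈ h.B := by
    intro y hy
    refine h.mem_B.2 (h.cent_t ?_ ?_)
    · have e : g * y * g⁻¹ = r * (g0 * y * g0⁻¹) * r⁻¹ := by rw [hg]; group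
      rw [e]
      exact mul_mem (mul_mem (h.R_le hr) (hg0B' y hy)) (inv_mem (h.R_le hr))
    · have h5 := h.B_comm hy hx
      calc g * y * g⁻¹ * t = g * y * g⁻¹ * (g * x * g⁻¹) := by rw [hgx]
        _ = g * (y * x) * g⁻¹ := by group
        _ = g * (x * y) * g⁻¹ := by rw [h5]
        _ = (g * x * g⁻¹) * (g * y * g⁻¹) := by group
        _ = t * (g * y * g⁻¹) := by rw [hgx]
  have hgt : g * t * g⁻¹ ∈ h.U := by
    refine h.B_R (hgB t h.t_mem_B) ?_
    have e : g * t * g⁻¹ = r * (g0 * t * g0⁻¹) * r⁻¹ := by rw [hg]; group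
    rw [e]
    exact mul_mem (mul_mem hr hg0t) (inv_mem hr)
  obtain ⟨c0, hc0⟩ := hgt
  -- a nontrivial element of `U ∩ gUg⁻¹`
  obtain ⟨c1, c2, hc1, hc2, hc12⟩ : ∃ c1 c2, c1 ≠ 0 ∧ c2 ≠ 0 ∧ g * Z c2 * g⁻¹ = Z c1 := by
    -- `Z 1`, `Z w`
    have hn : ∀ c, c ≠ 0 → (∃ c', c' ≠ 0 ∧ g * Z c * g⁻¹ = Z c') ∨ ∃ c', g * Z c * g⁻¹ = Z c' * t := by
      intro c hc
      obtain ⟨c', h3 | h3⟩ := hgB (Z c) ⟨c, Or.inl rfl⟩
      · refine Or.inl ⟨c', ?_, h3⟩
        rintro rfl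
        rw [h.Z0] at h3
        apply h.Z1 c hc
        calc Z c = g⁻¹ * (g * Z c * g⁻¹) * g := by group
          _ = 1 := by rw [h3]; group
      · exact Or.inr ⟨c', h3⟩
    rcases hn 1 (by decide) with ⟨c', h3, h4⟩ | ⟨c3, h3⟩
    · exact ⟨c', 1, h3, by decide, h4⟩
    · rcases hn F4.w (by decide) with ⟨c', h4, h5⟩ | ⟨c4, h4⟩
      · exact ⟨c', F4.w, h4, by decide, h5⟩
      · have h5 : g * Z (1 + F4.w) * g⁻¹ = Z (c3 + c4) := by
          rw [← h.ZZ]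
          calc g * (Z 1 * Z F4.w) * g⁻¹ = (g * Z 1 * g⁻¹) * (g * Z F4.w * g⁻¹) := by group
            _ = Z c3 * t * (Z c4 * t) := by rw [h3, h4]
            _ = Z c3 * (t * Z c4) * t := by group
            _ = Z c3 * Z c4 * (t * t) := by rw [h.tZ]; group
            _ = Z (c3 + c4) := by rw [h.tt, mul_one, h.ZZ]
        refine ⟨c3 + c4, 1 + F4.w, ?_, by decide, h5⟩
        intro h6
        rw [h6, h.Z0] at h5
        apply h.Z1 (1 + F4.w) (by decide)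
        calc Z (1 + F4.w) = g⁻¹ * (g * Z (1 + F4.w) * g⁻¹) * g := by group
          _ = 1 := by rw [h5]; group
  -- the element `y`
  set y : G := el X Y Z (F4.fr c2) (F4.fr c2) 0 with hy
  have hyR : y ∈ h.R := ⟨_, _, _, rfl⟩
  have hyt : y * t * y⁻¹ = Z c2 * t := by rw [hy, h.conj_y, F4.fr_mul_fr]
  set y' : G := g * y * g⁻¹ with hy'
  have hy'0 : y' * Z c0 * y'⁻¹ = Z (c1 + c0) := by
    calc y' * Z c0 * y'⁻¹ = y' * (g * t * g⁻¹) * y'⁻¹ := by rw [hc0]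
      _ = g * (y * t * y⁻¹) * g⁻¹ := by rw [hy']; group
      _ = g * (Z c2 * t) * g⁻¹ := by rw [hyt]
      _ = (g * Z c2 * g⁻¹) * (g * t * g⁻¹) := by group
      _ = Z (c1 + c0) := by rw [hc12, hc0, h.ZZ]
  have hy'1 : y' * Z c1 * y'⁻¹ = Z c1 := by
    calc y' * Z c1 * y'⁻¹ = g * (y * Z c2 * y⁻¹) * g⁻¹ := by rw [← hc12, hy']; group
      _ = g * (Z c2 * y * y⁻¹) * g⁻¹ := by rw [h.comm_Z hyR]
      _ = Z c1 := by rw [mul_inv_cancel_right, hc12]
  have hc0n : c0 ≠ 0 := by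
    rintro rfl
    rw [h.Z0] at hc0
    have : t = 1 := by
      calc t = g⁻¹ * (g * t * g⁻¹) * g := by group
        _ = 1 := by rw [hc0]; group
    exact h.t_nmem ⟨0, 0, 0, by rw [h.el_zero]; exact this⟩
  have hc01 : c0 ≠ c1 := by
    rintro rfl
    have : t = Z c2 := by
      calc t = g⁻¹ * (g * t * g⁻¹) * g := by group
        _ = g⁻¹ * (g * Z c2 * g⁻¹) * g := by rw [hc0, hc12]
        _ = Z c2 := by group
    exact h.t_nmem ⟨0, 0, c2, by rw [h.el_Z]; exact this⟩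
  -- `y'` normalises `U`
  have hcov : ∀ c : F4, c = 0 ∨ c = c0 ∨ c = c1 ∨ c = c1 + c0 := by
    clear * - hc0n hc01 hc1
    revert c0 c1
    decide
  have hy'U : ∀ c, ∃ c', y' * Z c * y'⁻¹ = Z c' := by
    intro c
    rcases hcov c with rfl | rfl | rfl | rfl
    · exact ⟨0, by rw [h.Z0]; group⟩
    · exact ⟨_, hy'0⟩
    · exact ⟨_, hy'1⟩
    · refine ⟨c1 + (c1 + c0), ?_⟩
      rw [← h.ZZ]
      calc y' * (Z c1 * Z c0) * y'⁻¹ = (y' * Z c1 * y'⁻¹) * (y' * Z c0 * y'⁻¹) := by group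
        _ = _ := by rw [hy'0, hy'1, h.ZZ]
  -- `y'` lies in a 2-subgroup of `N(U)`
  have hY2 : IsPGroup 2 (zpowers y') := by
    have h3 : IsPGroup 2 (zpowers y) := IsPGroup.to_le h2 (by
      rw [zpowers_le]
      exact h.R_le hyR)
    have h4 : zpowers y' = (zpowers y).map (MulAut.conj g).toMonoidHom := by
      rw [MonoidHom.map_zpowers]
      rfl
    rw [h4]
    exact isPGroup_conj h3 g
  have hnorm : ∀ x : G, x ∈ normalizer (h.U : Set G) ↔ ∀ n, n ∈ h.U ↔ x * n * x⁻¹ ∈ h.U := by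
    intro x
    exact mem_normalizer_iff
  have hy'N : y' ∈ normalizer (h.U : Set G) := by
    have hle : h.U.map (MulAut.conj y').toMonoidHom ≤ h.U := by
      rintro _ ⟨_, ⟨c, rfl⟩, rfl⟩
      exact hy'U c
    have heq : h.U.map (MulAut.conj y').toMonoidHom = h.U := by
      apply Subgroup.eq_of_le_of_card_ge hle
      rw [Nat.card_congr (h.U.equivMapOfInjective _ (MulAut.conj y').injective).toEquiv.symm]
    rw [hnorm]
    intro n
    constructor
    · intro hn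
      exact hle ⟨n, hn, rfl⟩
    · intro hn
      rw [← heq] at hn
      rw [mem_map_conj] at hn
      have : y'⁻¹ * (y' * n * y'⁻¹) * y' = n := by group
      rwa [this] at hn
  have hRTN : h.RT ≤ normalizer (h.U : Set G) := by
    intro x hx
    rw [hnorm]
    intro n
    constructor
    · rintro ⟨c, rfl⟩
      exact ⟨c, by rw [h.RT_cent hx]; group⟩
    · rintro ⟨c, hc⟩
      refine ⟨c, ?_⟩
      calc n = x⁻¹ * (x * n * x⁻¹) * x := by group
        _ = x⁻¹ * (Z c * x) := by rw [hc]; group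
        _ = Z c := by rw [← h.RT_cent hx]; group
  obtain ⟨n, hn, hnP⟩ := conj_into P (H := normalizer (h.U : Set G)) (by rw [hPeq]; exact hRTN) hY2
    (by rw [zpowers_le]; exact hy'N)
  have h7 : n * y' * n⁻¹ ∈ h.RT := (hP _).1 (hnP y' (mem_zpowers y'))
  -- so `y'` centralises `U`
  have h8 : y' * Z c0 = Z c0 * y' := by
    obtain ⟨c', hc'⟩ := ((hnorm n).1 hn (Z c0)).1 ⟨c0, rfl⟩
    have h9 := h.RT_cent h7 c'
    rw [← hc'] at h9
    have h10 : n * (y' * Z c0) * n⁻¹ = n * (Z c0 * y') * n⁻¹ := by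
      calc n * (y' * Z c0) * n⁻¹ = n * y' * n⁻¹ * (n * Z c0 * n⁻¹) := by group
        _ = n * Z c0 * n⁻¹ * (n * y' * n⁻¹) := h9
        _ = _ := by group
    exact mul_left_cancel (mul_right_cancel h10)
  rw [h8, mul_inv_cancel_right] at hy'0
  have h11 := h.Z_inj hy'0
  apply hc1
  clear * - h11
  revert c0 c1
  decide

end UTt

/-- the same, in the form of `T4Defs` -/
theorem dead_128 [Finite G] {X Y Z : F4 → G} {t : G} (h : T4Defs.UT X Y Z) (tt : t * t = 1)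
    (tX : ∀ a, t * X a = Y a * t) (tZ : ∀ c, t * Z c = Z c * t) (P : Sylow 2 G)
    (mem : ∀ g, g ∈ P ↔ ∃ a b c, g = Y b * X a * Z c ∨ g = Y b * X a * Z c * t)
    (hG : ∀ f : G →* ℤˣ, f t = 1) : False := by
  have h' : UTt X Y Z t :=
    { XX := h.XX, YY := h.YY, ZZ := h.ZZ, XY := h.XY, ZX := h.ZX, ZY := h.ZY, Z1 := h.Z1
      tt := tt, tX := tX, tZ := tZ }
  refine h'.dead P (fun g => ?_) hG
  rw [mem, h'.mem_RT]
  constructor
  · rintro ⟨a, b, c, hg⟩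
    exact ⟨b, a, c, hg⟩
  · rintro ⟨a, b, c, hg⟩
    exact ⟨b, a, c, hg⟩

end Cfsg.Agent.GH.L2.TFour
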