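import Cfsg.Agent.J2Sylow.Model

/-!
# Project GH, branch GH-L2, case (T4): the group `UT3(4)` in coordinates

`X`, `Y`, `Z` : coordinates of `UT3(4)` in a group `G`, `t` an involution swapping `X` and `Y` and centralising `Z`.
-/

set_option autoImplicit false

namespace Cfsg.Agent.GH.L2.TFour

open Subgroup Cfsg.Agent.J2Sylow.Model

variable {G : Type*} [Group G]

/-- coordinates of `UT3(4)` -/
structure UT (X Y Z : F4 → G) : Prop where
  XX : ∀ a b, X a * X b = X (a + b)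
  YY : ∀ a b, Y a * Y b = Y (a + b)
  ZZ : ∀ a b, Z a * Z b = Z (a + b)
  XY : ∀ a b, X a * Y b = Y b * (X a * Z (a * b))
  ZX : ∀ c a, Z c * X a = X a * Z c
  ZY : ∀ c b, Z c * Y b = Y b * Z c
  Z1 : ∀ a, a ≠ 0 → Z a ≠ 1

theorem F4.mul_eq_zero {a b : F4} : a * b = 0 → a = 0 ∨ b = 0 := by revert a b; decide

theorem F4.sq_ne {a : F4} : a ≠ 0 → a * a ≠ 0 := by revert a; decide

theorem F4.fr_mul_fr (a : F4) : F4.fr a * F4.fr a = a := by revert a; decide

theorem F4.eq_of_add {a b : F4} : a + b = 0 → a = b := by revert a b; decide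

theorem F4.mul_add_self {a b : F4} : a * b + a * a = a * (a + b) := by revert a b; decide

theorem card_F4 : Nat.card F4 = 4 := by
  rw [Nat.card_eq_fintype_card]
  rfl

namespace UT

variable {X Y Z : F4 → G} (h : UT X Y Z)
include h

theorem X0 : X 0 = 1 := by
  have h1 := h.XX 0 0
  rw [add_zero] at h1
  exact mul_left_cancel (h1.trans (mul_one _).symm)

theorem Y0 : Y 0 = 1 := by
  have h1 := h.YY 0 0
  rw [add_zero] at h1
  exact mul_left_cancel (h1.trans (mul_one _).symm)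

theorem Z0 : Z 0 = 1 := by
  have h1 := h.ZZ 0 0
  rw [add_zero] at h1
  exact mul_left_cancel (h1.trans (mul_one _).symm)

theorem Xsq (a : F4) : X a * X a = 1 := by rw [h.XX, F4.add_self, h.X0]
theorem Ysq (a : F4) : Y a * Y a = 1 := by rw [h.YY, F4.add_self, h.Y0]
theorem Zsq (a : F4) : Z a * Z a = 1 := by rw [h.ZZ, F4.add_self, h.Z0]

theorem Z_inj {a b : F4} (e : Z a = Z b) : a = b := by
  by_contra hc
  refine h.Z1 (a + b) (fun h1 => hc (F4.eq_of_add h1)) ?_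
  rw [← h.ZZ, e, h.Zsq]

theorem Z_ne {a : F4} (e : Z a = 1) : a = 0 := h.Z_inj (e.trans h.Z0.symm)

end UT

/-- the general element -/
def el (X Y Z : F4 → G) (b a c : F4) : G := Y b * X a * Z c

namespace UT

variable {X Y Z : F4 → G} (h : UT X Y Z)
include h

theorem el_mul (b a c b' a' c' : F4) :
    el X Y Z b a c * el X Y Z b' a' c' = el X Y Z (b + b') (a + a') (c + c' + a * b') := by
  unfold el
  calc Y b * X a * Z c * (Y b' * X a' * Z c') = Y b * X a * (Z c * Y b') * X a' * Z c' := by group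
    _ = Y b * (X a * Y b') * (Z c * X a') * Z c' := by rw [h.ZY]; group
    _ = (Y b * Y b') * X a * (Z (a * b') * X a') * Z c * Z c' := by rw [h.XY, h.ZX]; group
    _ = (Y b * Y b') * (X a * X a') * (Z (a * b') * Z c * Z c') := by rw [h.ZX]; group
    _ = _ := by
      rw [h.YY, h.XX, h.ZZ, h.ZZ]
      congr 2
      ring

theorem el_zero : el X Y Z 0 0 0 = 1 := by unfold el; rw [h.X0, h.Y0, h.Z0]; simp

theorem el_Z (c : F4) : el X Y Z 0 0 c = Z c := by unfold el; rw [h.X0, h.Y0]; simp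

theorem el_X (a : F4) : el X Y Z 0 a 0 = X a := by unfold el; rw [h.Z0, h.Y0]; simp

theorem el_Y (b : F4) : el X Y Z b 0 0 = Y b := by unfold el; rw [h.Z0, h.X0]; simp

theorem el_inv (b a c : F4) : (el X Y Z b a c)⁻¹ = el X Y Z b a (c + a * b) := by
  rw [inv_eq_iff_mul_eq_one, h.el_mul, F4.add_self, F4.add_self]
  have : c + (c + a * b) + a * b = 0 := by revert a b c; decide
  rw [this, h.el_zero]

theorem el_eq_one {b a c : F4} (e : el X Y Z b a c = 1) : b = 0 ∧ a = 0 ∧ c = 0 := by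
  have ha : a = 0 := by
    by_contra hc
    have h1 : el X Y Z b a c * Y 1 = Y 1 * el X Y Z b a c := by rw [e]; simp
    rw [← h.el_Y, h.el_mul, h.el_mul] at h1
    -- compare
    have h2 : el X Y Z (b + 1) (a + 0) (c + 0 + a * 1) * (el X Y Z (1 + b) (0 + a) (0 + c + 0 * b))⁻¹ = 1 := by
      rw [h1, mul_inv_cancel]
    rw [h.el_inv, h.el_mul] at h2
    have h3 : (b + 1 + (1 + b)) = 0 := by clear * -; revert b; decide
    have h4 : (a + 0 + (0 + a)) = 0 := by clear * -; revert a; decide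
    have h5 : c + 0 + a * 1 + (0 + c + 0 * b + (0 + a) * (1 + b)) + (a + 0) * (1 + b) = a := by
      clear * - a b c
      revert a b c; decide
    rw [h3, h4, h5, h.el_Z] at h2
    exact h.Z1 a hc h2
  have hb : b = 0 := by
    by_contra hc
    have h1 : X 1 * el X Y Z b a c = el X Y Z b a c * X 1 := by rw [e]; simp
    rw [← h.el_X, h.el_mul, h.el_mul] at h1
    have h2 : el X Y Z (0 + b) (1 + a) (0 + c + 1 * b) * (el X Y Z (b + 0) (a + 1) (c + 0 + a * 0))⁻¹ = 1 := by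
      rw [h1, mul_inv_cancel]
    rw [h.el_inv, h.el_mul] at h2
    have h3 : (0 + b + (b + 0)) = 0 := by clear * -; revert b; decide
    have h4 : (1 + a + (a + 1)) = 0 := by clear * -; revert a; decide
    have h5 : 0 + c + 1 * b + (c + 0 + a * 0 + (a + 1) * (b + 0)) + (1 + a) * (b + 0) = b := by
      clear * - a b c
      revert a b c; decide
    rw [h3, h4, h5, h.el_Z] at h2
    exact h.Z1 b hc h2
  subst ha hb
  exact ⟨rfl, rfl, h.Z_ne (by rw [← h.el_Z]; exact e)⟩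

theorem el_inj {b a c b' a' c' : F4} (e : el X Y Z b a c = el X Y Z b' a' c') : b = b' ∧ a = a' ∧ c = c' := by
  have h1 : el X Y Z b a c * (el X Y Z b' a' c')⁻¹ = 1 := by rw [e, mul_inv_cancel]
  rw [h.el_inv, h.el_mul] at h1
  obtain ⟨h2, h3, h4⟩ := h.el_eq_one h1
  have h5 := F4.eq_of_add h2
  have h6 := F4.eq_of_add h3
  subst h5 h6
  refine ⟨rfl, rfl, ?_⟩
  have h7 : c + (c' + a * b) + a * b = c + c' := by clear * -; revert a b c c'; decide
  rw [h7] at h4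
  exact F4.eq_of_add h4

/-- the group `UT3(4)` -/
def R : Subgroup G where
  carrier := {g | ∃ b a c, g = el X Y Z b a c}
  mul_mem' := by
    rintro _ _ ⟨b, a, c, rfl⟩ ⟨b', a', c', rfl⟩
    exact ⟨_, _, _, h.el_mul _ _ _ _ _ _⟩
  one_mem' := ⟨0, 0, 0, h.el_zero.symm⟩
  inv_mem' := by
    rintro _ ⟨b, a, c, rfl⟩
    exact ⟨_, _, _, h.el_inv _ _ _⟩

theorem mem_R {g : G} : g ∈ h.R ↔ ∃ b a c, g = el X Y Z b a c := Iff.rfl

/-- its centre -/
def U : Subgroup G where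
  carrier := {g | ∃ c, g = Z c}
  mul_mem' := by
    rintro _ _ ⟨c, rfl⟩ ⟨c', rfl⟩
    exact ⟨_, h.ZZ _ _⟩
  one_mem' := ⟨0, h.Z0.symm⟩
  inv_mem' := by
    rintro _ ⟨c, rfl⟩
    exact ⟨c, inv_eq_iff_mul_eq_one.mpr (h.Zsq c)⟩

theorem mem_U {g : G} : g ∈ h.U ↔ ∃ c, g = Z c := Iff.rfl

/-- `E = ⟨X, Z⟩` -/
def E : Subgroup G where
  carrier := {g | ∃ a c, g = el X Y Z 0 a c}
  mul_mem' := by
    rintro _ _ ⟨a, c, rfl⟩ ⟨a', c', rfl⟩
    refine ⟨a + a', c + c' + a * 0, ?_⟩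
    rw [h.el_mul, add_zero]
  one_mem' := ⟨0, 0, h.el_zero.symm⟩
  inv_mem' := by
    rintro _ ⟨a, c, rfl⟩
    exact ⟨_, _, h.el_inv _ _ _⟩

theorem mem_E {g : G} : g ∈ h.E ↔ ∃ a c, g = el X Y Z 0 a c := Iff.rfl

/-- `F = ⟨Y, Z⟩` -/
def F : Subgroup G where
  carrier := {g | ∃ b c, g = el X Y Z b 0 c}
  mul_mem' := by
    rintro _ _ ⟨b, c, rfl⟩ ⟨b', c', rfl⟩
    refine ⟨b + b', c + c' + 0 * b', ?_⟩
    rw [h.el_mul, add_zero]
  one_mem' := ⟨0, 0, h.el_zero.symm⟩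
  inv_mem' := by
    rintro _ ⟨b, c, rfl⟩
    exact ⟨_, _, h.el_inv _ _ _⟩

theorem mem_F {g : G} : g ∈ h.F ↔ ∃ b c, g = el X Y Z b 0 c := Iff.rfl

theorem E_le : h.E ≤ h.R := by
  rintro _ ⟨a, c, rfl⟩
  exact ⟨_, _, _, rfl⟩

theorem F_le : h.F ≤ h.R := by
  rintro _ ⟨b, c, rfl⟩
  exact ⟨_, _, _, rfl⟩

theorem U_le_E : h.U ≤ h.E := by
  rintro _ ⟨c, rfl⟩
  exact ⟨0, c, (h.el_Z c).symm⟩

theorem U_le_F : h.U ≤ h.F := by
  rintro _ ⟨c, rfl⟩
  exact ⟨0, c, (h.el_Z c).symm⟩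

theorem card_U : Nat.card h.U = 4 := by
  have f : Function.Bijective (fun c : F4 => (⟨Z c, c, rfl⟩ : h.U)) := by
    constructor
    · intro a b hab
      exact h.Z_inj (congrArg Subtype.val hab)
    · rintro ⟨_, c, rfl⟩
      exact ⟨c, rfl⟩
  rw [← Nat.card_congr (Equiv.ofBijective _ f)]
  exact card_F4

theorem card_E : Nat.card h.E = 16 := by
  have f : Function.Bijective (fun x : F4 × F4 => (⟨el X Y Z 0 x.1 x.2, _, _, rfl⟩ : h.E)) := by
    constructor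
    · intro a b hab
      obtain ⟨-, h1, h2⟩ := h.el_inj (congrArg Subtype.val hab)
      exact Prod.ext h1 h2
    · rintro ⟨_, a, c, rfl⟩
      exact ⟨(a, c), rfl⟩
  rw [← Nat.card_congr (Equiv.ofBijective _ f), Nat.card_prod, card_F4]

theorem card_F : Nat.card h.F = 16 := by
  have f : Function.Bijective (fun x : F4 × F4 => (⟨el X Y Z x.1 0 x.2, _, _, rfl⟩ : h.F)) := by
    constructor
    · intro a b hab
      obtain ⟨h1, -, h2⟩ := h.el_inj (congrArg Subtype.val hab)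
      exact Prod.ext h1 h2
    · rintro ⟨_, a, c, rfl⟩
      exact ⟨(a, c), rfl⟩
  rw [← Nat.card_congr (Equiv.ofBijective _ f), Nat.card_prod, card_F4]

theorem el_sq (b a c : F4) : el X Y Z b a c * el X Y Z b a c = Z (a * b) := by
  rw [h.el_mul, F4.add_self, F4.add_self, F4.add_self, zero_add, h.el_Z]

theorem comm_Z {g : G} (hg : g ∈ h.R) (c : F4) : g * Z c = Z c * g := by
  obtain ⟨b, a, c', rfl⟩ := hg
  rw [← h.el_Z, h.el_mul, h.el_mul]
  congr 1 <;> ring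

/-- an involution of `R` lies in `E` or in `F` -/
theorem inv_R {g : G} (hg : g ∈ h.R) (h1 : g * g = 1) : g ∈ h.E ∨ g ∈ h.F := by
  obtain ⟨b, a, c, rfl⟩ := hg
  rw [h.el_sq] at h1
  rcases F4.mul_eq_zero (h.Z_ne h1) with h2 | h2
  · right; exact ⟨b, c, by rw [h2]⟩
  · left; exact ⟨a, c, by rw [h2]⟩

/-- an elementary subgroup of `R` lies in `E` or in `F` -/
theorem elem_R {A : Subgroup G} (hA : A ≤ h.R) (h1 : ∀ g ∈ A, g * g = 1) : A ≤ h.E ∨ A ≤ h.F := by
  by_contra hcon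
  push Not at hcon
  obtain ⟨hE, hF⟩ := hcon
  obtain ⟨x, hx, hxE⟩ := SetLike.not_le_iff_exists.1 hE
  obtain ⟨y, hy, hyF⟩ := SetLike.not_le_iff_exists.1 hF
  obtain ⟨b, c, hx'⟩ := (h.inv_R (hA hx) (h1 x hx)).resolve_left hxE
  obtain ⟨a, c', hy'⟩ := (h.inv_R (hA hy) (h1 y hy)).resolve_right hyF
  have hb : b ≠ 0 := by
    rintro rfl
    exact hxE ⟨0, c, hx'⟩
  have ha : a ≠ 0 := by
    rintro rfl
    exact hyF ⟨0, c', hy'⟩
  have h2 := h1 _ (mul_mem hx hy)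
  rw [hx', hy', h.el_mul, h.el_sq] at h2
  rcases F4.mul_eq_zero (h.Z_ne h2) with h3 | h3
  · rw [zero_add] at h3; exact ha h3
  · rw [add_zero] at h3; exact hb h3

/-- `C_R(X a) = E` -/
theorem cent_X {g : G} (hg : g ∈ h.R) {a : F4} (ha : a ≠ 0) (h1 : g * X a = X a * g) : g ∈ h.E := by
  obtain ⟨b, a', c, rfl⟩ := hg
  rw [← h.el_X, h.el_mul, h.el_mul] at h1
  obtain ⟨-, -, h2⟩ := h.el_inj h1
  have h3 : a * b = 0 := by
    clear * - h2
    revert a b c a'
    decide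
  rcases F4.mul_eq_zero h3 with h4 | h4
  · exact absurd h4 ha
  · exact ⟨a', c, by rw [h4]⟩

end UT

end Cfsg.Agent.GH.L2.TFour
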