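import Cfsg.Agent.GH.L2.TFourA

/-!
# Project GH, branch GH-L2, case (T4): the group `UT3(4)⟨t, d⟩` of order 256, group facts
-/

set_option autoImplicit false

namespace Cfsg.Agent.GH.L2.TFour

open Subgroup Cfsg.Agent.J2Sylow.Model Tool

variable {G : Type*} [Group G]

/-- `R ∪ Rτ` for an involution `τ` normalising `R` -/
def adj (R : Subgroup G) (τ : G) (hτ : τ * τ = 1) (hn : ∀ r ∈ R, τ * r * τ ∈ R) : Subgroup G where
  carrier := {g | g ∈ R ∨ g * τ ∈ R}
  mul_mem' := by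
    rintro x y (hx | hx) (hy | hy)
    · exact Or.inl (mul_mem hx hy)
    · exact Or.inr (by rw [mul_assoc]; exact mul_mem hx hy)
    · refine Or.inr ?_
      have e : x * y * τ = (x * τ) * (τ * y * τ) := by
        calc x * y * τ = x * (1 : G) * y * τ := by group
          _ = x * (τ * τ) * y * τ := by rw [hτ]
          _ = _ := by group
      rw [e]
      exact mul_mem hx (hn y hy)
    · refine Or.inl ?_
      have e : x * y = (x * τ) * (τ * (y * τ) * τ) := by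
        calc x * y = x * (1 : G) * y * 1 := by group
          _ = x * (τ * τ) * y * (τ * τ) := by rw [hτ]
          _ = _ := by group
      rw [e]
      exact mul_mem hx (hn _ hy)
  one_mem' := Or.inl (one_mem _)
  inv_mem' := by
    rintro x (hx | hx)
    · exact Or.inl (inv_mem hx)
    · refine Or.inr ?_
      have e : x⁻¹ * τ = τ * (x * τ)⁻¹ * τ := by
        rw [mul_inv_rev, ← mul_assoc, mul_inv_cancel, one_mul]
      rw [e]
      exact hn _ (inv_mem hx)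

theorem mem_adj {R : Subgroup G} {τ : G} {hτ : τ * τ = 1} {hn : ∀ r ∈ R, τ * r * τ ∈ R} {g : G} :
    g ∈ adj R τ hτ hn ↔ g ∈ R ∨ g * τ ∈ R := Iff.rfl

/-- `UT3(4)⟨t, d⟩` -/
structure UTtd (X Y Z : F4 → G) (t d : G) : Prop extends UTt X Y Z t where
  dd : d * d = 1
  td : t * d = d * t
  dX : ∀ a, d * X a = X (F4.fr a) * d
  dY : ∀ a, d * Y a = Y (F4.fr a) * d
  dZ : ∀ a, d * Z a = Z (F4.fr a) * d

namespace UTtd

variable {X Y Z : F4 → G} {t d : G} (h : UTtd X Y Z t d)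
include h

theorem d_inv : d⁻¹ = d := inv_eq_iff_mul_eq_one.mpr h.dd

theorem d_el (b a c : F4) : d * el X Y Z b a c = el X Y Z (F4.fr b) (F4.fr a) (F4.fr c) * d := by
  unfold el
  calc d * (Y b * X a * Z c) = (d * Y b) * X a * Z c := by group
    _ = Y (F4.fr b) * (d * X a) * Z c := by rw [h.dY]; group
    _ = Y (F4.fr b) * X (F4.fr a) * (d * Z c) := by rw [h.dX]; group
    _ = _ := by rw [h.dZ]; group

theorem d_el_d (b a c : F4) : d * el X Y Z b a c * d = el X Y Z (F4.fr b) (F4.fr a) (F4.fr c) := by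
  rw [h.d_el, mul_assoc, h.dd, mul_one]

/-- the involution `td` -/
theorem td_sq : t * d * (t * d) = 1 := by
  calc t * d * (t * d) = t * (d * t) * d := by group
    _ = (t * t) * (d * d) := by rw [← h.td]; group
    _ = 1 := by rw [h.tt, h.dd, one_mul]

theorem td_el (b a c : F4) : t * d * el X Y Z b a c =
    el X Y Z (F4.fr a) (F4.fr b) (F4.fr c + F4.fr a * F4.fr b) * (t * d) := by
  calc t * d * el X Y Z b a c = t * (d * el X Y Z b a c) := by group
    _ = (t * el X Y Z (F4.fr b) (F4.fr a) (F4.fr c)) * d := by rw [h.d_el]; group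
    _ = _ := by rw [h.t_el]; group

theorem td_el_td (b a c : F4) : t * d * el X Y Z b a c * (t * d) =
    el X Y Z (F4.fr a) (F4.fr b) (F4.fr c + F4.fr a * F4.fr b) := by
  rw [h.td_el, mul_assoc, h.td_sq, mul_one]

theorem comm_d_Z {g : G} (hg : ∀ c, g * Z c = Z c * g) : ∃ c, g * d * Z c ≠ Z c * (g * d) := by
  refine ⟨F4.w, fun hc => ?_⟩
  have h1 : g * d * Z F4.w = Z F4.u * (g * d) := by
    calc g * d * Z F4.w = g * (d * Z F4.w) := by group
      _ = g * Z F4.u * d := by rw [h.dZ]; change g * (Z F4.u * d) = _; group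
      _ = _ := by rw [hg]; group
  rw [h1] at hc
  have h2 := h.Z_inj (mul_right_cancel hc)
  exact absurd h2 (by decide)

theorem d_nmem : d ∉ h.RT := by
  intro hc
  obtain ⟨c, h1⟩ := h.comm_d_Z (g := 1) (fun c => by group)
  rw [one_mul] at h1
  exact h1 (h.RT_cent hc c)

theorem R_d_nmem {g : G} (hg : g ∈ h.RT) : g * d ∉ h.RT := fun hc => h.d_nmem ((mul_mem_cancel_left hg).1 hc)

/-- `E⟨d⟩` -/
def T : Subgroup G := adj h.E d h.dd (by
  rintro _ ⟨a, c, rfl⟩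
  refine ⟨F4.fr a, F4.fr c, ?_⟩
  rw [h.d_el_d]
  rfl)

theorem mem_T {g : G} : g ∈ h.T ↔ g ∈ h.E ∨ g * d ∈ h.E := Iff.rfl

theorem mem_T' {g : G} (hg : g ∈ h.T) (h1 : g ∉ h.E) : ∃ a c, g = el X Y Z 0 a c * d := by
  rcases hg with h2 | ⟨a, c, h2⟩
  · exact absurd h2 h1
  · exact ⟨a, c, by rw [← h2, mul_assoc, h.dd, mul_one]⟩

theorem E_le_T : h.E ≤ h.T := fun _ hx => Or.inl hx

theorem d_mem_T : d ∈ h.T := Or.inr (by rw [h.dd]; exact one_mem _)

theorem d_nmem_E : d ∉ h.E := fun hc => h.d_nmem (h.R_le (h.E_le hc))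

/-- involutions of `T - E` are conjugate to `d` under `E` -/
theorem T_inv {g : G} (hg : g ∈ h.T) (h1 : g ∉ h.E) (h2 : g * g = 1) : ∃ e ∈ h.E, e * g * e⁻¹ = d := by
  obtain ⟨a, c, rfl⟩ := h.mem_T' hg h1
  have h3 : el X Y Z 0 a c * d * (el X Y Z 0 a c * d) = el X Y Z 0 a c * (d * el X Y Z 0 a c * d) := by group
  rw [h3, h.d_el_d, h.el_mul] at h2
  obtain ⟨-, h4, h5⟩ := h.el_eq_one h2
  have key : ∀ x : F4, x + F4.fr x = 0 → ∃ y, y + F4.fr y = x := by decide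
  obtain ⟨a', ha'⟩ := key a h4
  obtain ⟨c', hc'⟩ := key c (by
    have : a * F4.fr 0 = 0 := by clear * -; revert a; decide
    rw [this, add_zero] at h5
    exact h5)
  refine ⟨(el X Y Z 0 a' c')⁻¹, inv_mem ⟨_, _, rfl⟩, ?_⟩
  have h6 : el X Y Z 0 a c * d = el X Y Z 0 a' c' * d * (el X Y Z 0 a' c')⁻¹ := by
    rw [h.el_inv, mul_assoc _ d, h.d_el, ← mul_assoc, h.el_mul, ← ha', ← hc']
    congr 1
    have e1 : (0 : F4) = 0 + F4.fr 0 := by decide
    have e2 : c' + F4.fr c' = c' + F4.fr (c' + a' * 0) + a' * F4.fr 0 := by clear * -; revert a' c'; decide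
    rw [← e1, ← e2]
  rw [h6]
  group

/-- `C_T(d)` has order at most 8 -/
theorem cent_T [Finite G] (A : Subgroup G) (hA : ∀ x ∈ A, x ∈ h.T ∧ x * d = d * x) : Nat.card A ≤ 8 := by
  classical
  have h1 : ∀ x ∈ A, ∃ p : {p : F4 × F4 // F4.fr p.1 = p.1 ∧ F4.fr p.2 = p.2} × Bool,
      x = el X Y Z 0 p.1.1.1 p.1.1.2 * (if p.2 then d else 1) := by
    intro x hx
    obtain ⟨h2, h3⟩ := hA x hx
    have key : ∀ a c, el X Y Z 0 a c * d = d * el X Y Z 0 a c → F4.fr a = a ∧ F4.fr c = c := by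
      intro a c h4
      rw [h.d_el] at h4
      obtain ⟨-, h5, h6⟩ := h.el_inj (mul_right_cancel h4)
      exact ⟨h5.symm, h6.symm⟩
    by_cases hE : x ∈ h.E
    · obtain ⟨a, c, rfl⟩ := hE
      exact ⟨(⟨(a, c), key a c h3⟩, false), by simp⟩
    · obtain ⟨a, c, rfl⟩ := h.mem_T' h2 hE
      exact ⟨(⟨(a, c), key a c (mul_right_cancel (h3.trans (mul_assoc _ _ _).symm))⟩, true), by simp⟩
  choose f hf using h1
  have hinj : Function.Injective (fun x : A => f x.1 x.2) := by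
    intro x y hxy
    apply Subtype.ext
    rw [hf x.1 x.2, hf y.1 y.2]
    exact congrArg (fun p : {p : F4 × F4 // F4.fr p.1 = p.1 ∧ F4.fr p.2 = p.2} × Bool =>
      el X Y Z 0 p.1.1.1 p.1.1.2 * (if p.2 then d else 1)) hxy
  have h2 := Nat.card_le_card_of_injective _ hinj
  have h3 : Nat.card ({p : F4 × F4 // F4.fr p.1 = p.1 ∧ F4.fr p.2 = p.2} × Bool) = 8 := by
    rw [Nat.card_eq_fintype_card]
    decide
  rw [h3] at h2
  exact h2

theorem cfg : WrFour.Cfg h.T h.E d where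
  le := h.E_le_T
  card := h.card_E
  sq := fun _ hx => h.E_sq hx
  mem := h.d_mem_T
  nmem := h.d_nmem_E
  dd := h.dd
  cent := by
    have hm : ∀ x, x ∈ h.E ⊓ centralizer ({d} : Set G) ↔ ∃ p : {p : F4 × F4 // F4.fr p.1 = p.1 ∧ F4.fr p.2 = p.2},
        x = el X Y Z 0 p.1.1 p.1.2 := by
      intro x
      rw [mem_inf, mem_centralizer_singleton_iff]
      constructor
      · rintro ⟨⟨a, c, rfl⟩, h4⟩
        rw [h.d_el] at h4
        obtain ⟨-, h5, h6⟩ := h.el_inj (mul_right_cancel h4)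
        exact ⟨⟨(a, c), h5.symm, h6.symm⟩, rfl⟩
      · rintro ⟨⟨⟨a, c⟩, h5, h6⟩, rfl⟩
        refine ⟨⟨a, c, rfl⟩, ?_⟩
        change el X Y Z 0 a c * d = d * el X Y Z 0 a c
        rw [h.d_el]
        change F4.fr a = a at h5
        change F4.fr c = c at h6
        rw [h5, h6]
        rfl
    have f : Function.Bijective (fun p : {p : F4 × F4 // F4.fr p.1 = p.1 ∧ F4.fr p.2 = p.2} =>
        (⟨el X Y Z 0 p.1.1 p.1.2, (hm _).2 ⟨p, rfl⟩⟩ : (h.E ⊓ centralizer ({d} : Set G) : Subgroup G))) := by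
      constructor
      · intro a b hab
        obtain ⟨-, h3, h4⟩ := h.el_inj (congrArg Subtype.val hab)
        exact Subtype.ext (Prod.ext h3 h4)
      · rintro ⟨x, hx⟩
        obtain ⟨p, rfl⟩ := (hm _).1 hx
        exact ⟨p, rfl⟩
    rw [← Nat.card_congr (Equiv.ofBijective _ f), Nat.card_eq_fintype_card]
    decide
  cov := by
    intro s hs
    by_cases hE : s ∈ h.E
    · exact Or.inl hE
    · obtain ⟨a, c, rfl⟩ := h.mem_T' hs hE
      right
      rw [← mul_assoc, h.d_el, mul_assoc, h.dd, mul_one]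
      exact ⟨_, _, rfl⟩

theorem T_isPGroup : IsPGroup 2 h.T := by
  intro x
  refine ⟨2, Subtype.ext ?_⟩
  have h1 : (x : G) * x ∈ h.E := by
    by_cases hE : (x : G) ∈ h.E
    · exact mul_mem hE hE
    · obtain ⟨a, c, hx⟩ := h.mem_T' x.2 hE
      rw [hx]
      have h3 : el X Y Z 0 a c * d * (el X Y Z 0 a c * d) = el X Y Z 0 a c * (d * el X Y Z 0 a c * d) := by group
      rw [h3, h.d_el_d]
      exact mul_mem ⟨_, _, rfl⟩ ⟨_, _, rfl⟩
  have h2 := h.E_sq h1
  have h3 : (x : G) ^ 2 ^ 2 = (x * x) * (x * x) := by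
    have h4 : (x : G) ^ 2 ^ 2 = ((x : G) ^ 2) ^ 2 := by rw [← pow_mul]; norm_num
    rw [h4, pow_two, pow_two]
  change (x : G) ^ 2 ^ 2 = 1
  rw [h3, h2]

theorem T_pow {x : G} (hx : x ∈ h.T) : x * x * (x * x) = 1 := by
  apply h.E_sq
  by_cases hE : x ∈ h.E
  · exact mul_mem hE hE
  · obtain ⟨a, c, rfl⟩ := h.mem_T' hx hE
    have h3 : el X Y Z 0 a c * d * (el X Y Z 0 a c * d) = el X Y Z 0 a c * (d * el X Y Z 0 a c * d) := by group
    rw [h3, h.d_el_d]
    exact mul_mem ⟨_, _, rfl⟩ ⟨_, _, rfl⟩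

/-- `T ≤ C(X 1)` -/
theorem T_cent {g : G} (hg : g ∈ h.T) : g * X 1 = X 1 * g := by
  by_cases hE : g ∈ h.E
  · exact h.E_comm hE ⟨1, 0, (h.el_X 1).symm⟩
  · obtain ⟨a, c, rfl⟩ := h.mem_T' hg hE
    have h1 : d * X 1 = X 1 * d := h.dX 1
    have h2 : el X Y Z 0 a c * X 1 = X 1 * el X Y Z 0 a c :=
      h.E_comm ⟨_, _, rfl⟩ ⟨1, 0, (h.el_X 1).symm⟩
    rw [mul_assoc, h1, ← mul_assoc, h2, mul_assoc]

theorem card_T : Nat.card h.T = 32 := by
  classical
  have f : Function.Bijective (fun p : (F4 × F4) × Bool =>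
      (⟨el X Y Z 0 p.1.1 p.1.2 * (if p.2 then d else 1), by
        rcases p with ⟨⟨a, c⟩, i⟩
        cases i
        · refine Or.inl ?_
          simp only [Bool.false_eq_true, if_false, mul_one]
          exact ⟨_, _, rfl⟩
        · refine Or.inr ?_
          simp only [if_true]
          rw [mul_assoc, h.dd, mul_one]
          exact ⟨_, _, rfl⟩⟩ : h.T)) := by
    constructor
    · rintro ⟨⟨a, c⟩, i⟩ ⟨⟨a', c'⟩, i'⟩ hab
      have h1 := congrArg Subtype.val hab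
      cases i <;> cases i' <;> simp only [Bool.false_eq_true, if_false, if_true, mul_one] at h1
      · obtain ⟨-, h2, h3⟩ := h.el_inj h1
        subst h2 h3
        rfl
      · exfalso
        apply h.d_nmem_E
        refine (mul_mem_cancel_left (show el X Y Z 0 a' c' ∈ h.E from ⟨_, _, rfl⟩)).1 ?_
        rw [← h1]
        exact ⟨_, _, rfl⟩
      · exfalso
        apply h.d_nmem_E
        refine (mul_mem_cancel_left (show el X Y Z 0 a c ∈ h.E from ⟨_, _, rfl⟩)).1 ?_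
        rw [h1]
        exact ⟨_, _, rfl⟩
      · obtain ⟨-, h2, h3⟩ := h.el_inj (mul_right_cancel h1)
        subst h2 h3
        rfl
    · rintro ⟨x, hx⟩
      by_cases hE : x ∈ h.E
      · obtain ⟨a, c, rfl⟩ := hE
        exact ⟨((a, c), false), Subtype.ext (by simp)⟩
      · obtain ⟨a, c, rfl⟩ := h.mem_T' hx hE
        exact ⟨((a, c), true), Subtype.ext (by simp)⟩
  rw [← Nat.card_congr (Equiv.ofBijective _ f), Nat.card_prod, Nat.card_prod, card_F4,
    Nat.card_eq_fintype_card, Fintype.card_bool]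

/-- `M = R⟨td⟩` -/
def M : Subgroup G := adj h.R (t * d) h.td_sq (by
  rintro _ ⟨b, a, c, rfl⟩
  rw [h.td_el_td]
  exact ⟨_, _, _, rfl⟩)

theorem mem_M {g : G} : g ∈ h.M ↔ g ∈ h.R ∨ g * (t * d) ∈ h.R := Iff.rfl

/-- the whole group -/
def S : Subgroup G := adj h.RT d h.dd (by
  rintro _ ⟨b, a, c, rfl | rfl⟩
  · rw [h.d_el_d]
    exact ⟨_, _, _, Or.inl rfl⟩
  · refine ⟨F4.fr b, F4.fr a, F4.fr c, Or.inr ?_⟩
    calc d * (el X Y Z b a c * t) * d = d * el X Y Z b a c * (t * d) := by group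
      _ = d * el X Y Z b a c * d * t := by rw [h.td]; group
      _ = _ := by rw [h.d_el_d])

theorem mem_S {g : G} : g ∈ h.S ↔ g ∈ h.RT ∨ g * d ∈ h.RT := Iff.rfl

theorem RT_le : h.RT ≤ h.S := fun _ hx => Or.inl hx

theorem d_mem : d ∈ h.S := Or.inr (by rw [h.dd]; exact one_mem _)

/-- elements of `S - R⟨t⟩` -/
theorem mem_S' {g : G} (hg : g ∈ h.S) (h1 : g ∉ h.RT) : ∃ b a c, g = el X Y Z b a c * d ∨
    g = el X Y Z b a c * (t * d) := by
  rcases hg with h2 | ⟨b, a, c, h2 | h2⟩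
  · exact absurd h2 h1
  · exact ⟨b, a, c, Or.inl (by rw [← h2, mul_assoc, h.dd, mul_one])⟩
  · refine ⟨b, a, c, Or.inr ?_⟩
    rw [← mul_assoc, ← h2, mul_assoc, h.dd, mul_one]

/-- `C_S(U) = R⟨t⟩` -/
theorem S_cent {g : G} (hg : g ∈ h.S) (h1 : ∀ c, g * Z c = Z c * g) : g ∈ h.RT := by
  rcases hg with h2 | h2
  · exact h2
  · exfalso
    obtain ⟨c, h3⟩ := h.comm_d_Z h1
    exact h3 (h.RT_cent h2 c)

/-- `S` normalises `U` -/
theorem S_norm {g : G} (hg : g ∈ h.S) (c : F4) : ∃ c', g * Z c * g⁻¹ = Z c' := by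
  rcases hg with h2 | h2
  · exact ⟨c, by rw [h.RT_cent h2]; group⟩
  · refine ⟨F4.fr c, ?_⟩
    have h3 : d * Z c * d = Z (F4.fr c) := by rw [h.dZ, mul_assoc, h.dd, mul_one]
    have h4 := h.RT_cent h2 (F4.fr c)
    calc g * Z c * g⁻¹ = g * d * (d * Z c * d) * (g * d)⁻¹ := by
          rw [mul_inv_rev, h.d_inv]
          have e : g * d * (d * Z c * d) * (d * g⁻¹) = g * (d * d) * Z c * (d * d) * g⁻¹ := by group
          rw [e, h.dd]; group
      _ = Z (F4.fr c) := by rw [h3, h4]; group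

theorem Z1_central {g : G} (hg : g ∈ h.S) : g * Z 1 = Z 1 * g := by
  rcases hg with h2 | h2
  · exact h.RT_cent h2 1
  · have h3 : d * Z 1 = Z 1 * d := h.dZ 1
    have h4 := h.RT_cent h2 1
    have h5 : g * Z 1 * d = Z 1 * g * d := by
      rw [mul_assoc, ← h3, ← mul_assoc, h4, mul_assoc]
    exact mul_right_cancel h5

/-- squares of elements of `S` lie in `R` -/
theorem S_sq {g : G} (hg : g ∈ h.S) : g * g ∈ h.R := by
  rcases h.mem_S.1 hg with h2 | h2
  · rcases h.mem_RT'.1 h2 with h3 | ⟨b, a, c, rfl⟩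
    · exact mul_mem h3 h3
    · have h3 : el X Y Z b a c * t * (el X Y Z b a c * t) = el X Y Z b a c * (t * el X Y Z b a c * t) := by group
      rw [h3, h.t_el_t]
      exact mul_mem ⟨_, _, _, rfl⟩ ⟨_, _, _, rfl⟩
  · by_cases h5 : g ∈ h.RT
    · rcases h.mem_RT'.1 h5 with h3 | ⟨b, a, c, rfl⟩
      · exact mul_mem h3 h3
      · have h3 : el X Y Z b a c * t * (el X Y Z b a c * t) = el X Y Z b a c * (t * el X Y Z b a c * t) := by group
        rw [h3, h.t_el_t]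
        exact mul_mem ⟨_, _, _, rfl⟩ ⟨_, _, _, rfl⟩
    · obtain ⟨b, a, c, rfl | rfl⟩ := h.mem_S' hg h5
      · have h3 : el X Y Z b a c * d * (el X Y Z b a c * d) = el X Y Z b a c * (d * el X Y Z b a c * d) := by group
        rw [h3, h.d_el_d]
        exact mul_mem ⟨_, _, _, rfl⟩ ⟨_, _, _, rfl⟩
      · have h3 : el X Y Z b a c * (t * d) * (el X Y Z b a c * (t * d)) =
            el X Y Z b a c * (t * d * el X Y Z b a c * (t * d)) := by group
        rw [h3, h.td_el_td]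
        exact mul_mem ⟨_, _, _, rfl⟩ ⟨_, _, _, rfl⟩

/-- fourth powers of elements of `S` lie in `U` -/
theorem S_four {g : G} (hg : g ∈ h.S) : ∃ c, g * g * (g * g) = Z c := by
  obtain ⟨b, a, c, h1⟩ := h.S_sq hg
  exact ⟨a * b, by rw [h1, h.el_sq]⟩

/-- involutions in `Rd` -/
theorem inv_d {b a c : F4} (h2 : el X Y Z b a c * d * (el X Y Z b a c * d) = 1) :
    ∃ r ∈ h.R, r * (el X Y Z b a c * d) * r⁻¹ = d := by
  have h3 : el X Y Z b a c * d * (el X Y Z b a c * d) = el X Y Z b a c * (d * el X Y Z b a c * d) := by group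
  rw [h3, h.d_el_d, h.el_mul] at h2
  obtain ⟨h4, h5, h6⟩ := h.el_eq_one h2
  -- `el b a c * d = r⁻¹ d r`
  have key1 : ∀ x : F4, x + F4.fr x = 0 → ∃ y, x = y + F4.fr y := by decide
  have key2 : ∀ c a' b' : F4, c + F4.fr c + (a' + F4.fr a') * F4.fr (b' + F4.fr b') = 0 →
      ∃ c', c = c' + F4.fr (c' + a' * b') + a' * F4.fr b' := by decide
  obtain ⟨b', h7⟩ := key1 b h4
  obtain ⟨a', h8⟩ := key1 a h5
  rw [h7, h8] at h6
  obtain ⟨c', h9⟩ := key2 c a' b' h6
  refine ⟨(el X Y Z b' a' c')⁻¹, inv_mem ⟨_, _, _, rfl⟩, ?_⟩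
  have h10 : el X Y Z b a c * d = el X Y Z b' a' c' * d * (el X Y Z b' a' c')⁻¹ := by
    rw [h.el_inv, mul_assoc _ d, h.d_el, ← mul_assoc, h.el_mul, ← h7, ← h8, ← h9]
  rw [h10]
  group

/-- involutions in `Rtd` -/
theorem inv_td {b a c : F4} (h2 : el X Y Z b a c * (t * d) * (el X Y Z b a c * (t * d)) = 1) :
    ∃ r ∈ h.R, r * (el X Y Z b a c * (t * d)) * r⁻¹ = t * d := by
  have h3 : el X Y Z b a c * (t * d) * (el X Y Z b a c * (t * d)) =
      el X Y Z b a c * (t * d * el X Y Z b a c * (t * d)) := by group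
  rw [h3, h.td_el_td, h.el_mul] at h2
  obtain ⟨h4, h5, h6⟩ := h.el_eq_one h2
  have key : ∀ b a c : F4, b + F4.fr a = 0 → a + F4.fr b = 0 →
      c + (F4.fr c + F4.fr a * F4.fr b) + a * F4.fr a = 0 →
      ∃ b' a' c', b = b' + F4.fr a' ∧ a = a' + F4.fr b' ∧
        c = c' + (F4.fr (c' + a' * b') + F4.fr a' * F4.fr b') + a' * F4.fr a' := by decide
  obtain ⟨b', a', c', h7, h8, h9⟩ := key b a c h4 h5 h6
  refine ⟨(el X Y Z b' a' c')⁻¹, inv_mem ⟨_, _, _, rfl⟩, ?_⟩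
  have h10 : el X Y Z b a c * (t * d) = el X Y Z b' a' c' * (t * d) * (el X Y Z b' a' c')⁻¹ := by
    symm
    rw [h.el_inv]
    calc el X Y Z b' a' c' * (t * d) * el X Y Z b' a' (c' + a' * b') =
        el X Y Z b' a' c' * (t * d * el X Y Z b' a' (c' + a' * b')) := by group
      _ = (el X Y Z b' a' c' * el X Y Z (F4.fr a') (F4.fr b') (F4.fr (c' + a' * b') + F4.fr a' * F4.fr b')) *
          (t * d) := by rw [h.td_el]; group
      _ = el X Y Z b a c * (t * d) := by rw [h.el_mul, ← h7, ← h8, ← h9]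
  rw [h10]
  group

theorem R_le_M : h.R ≤ h.M := fun _ hx => Or.inl hx

theorem M_le : h.M ≤ h.S := by
  rintro g (hg | ⟨b, a, c, hg⟩)
  · exact h.RT_le (h.R_le hg)
  · have h1 : g = el X Y Z b a c * (t * d) := by rw [← hg, mul_assoc, h.td_sq, mul_one]
    rw [h1, ← mul_assoc]
    exact mul_mem (h.RT_le ⟨_, _, _, Or.inr rfl⟩) h.d_mem

theorem M_diff {g : G} (hg : g ∈ h.M) (h1 : g ∉ h.R) : ∃ b a c, g = el X Y Z b a c * (t * d) := by
  rcases hg with h2 | ⟨b, a, c, h2⟩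
  · exact absurd h2 h1
  · exact ⟨b, a, c, by rw [← h2, mul_assoc, h.td_sq, mul_one]⟩

theorem relIndex_M : h.M.relIndex h.S = 2 := by
  change (h.M.subgroupOf h.S).index = 2
  rw [Subgroup.index_eq_two_iff]
  refine ⟨⟨d, h.d_mem⟩, fun x => ?_⟩
  rw [mem_subgroupOf, mem_subgroupOf]
  change Xor (((x : G) * d) ∈ h.M) ((x : G) ∈ h.M)
  -- `d ∉ M`
  have hdM : d ∉ h.M := by
    rintro (h1 | h1)
    · exact h.d_nmem (h.R_le h1)
    · have h2 : d * (t * d) = t := by rw [h.td, ← mul_assoc, h.dd, one_mul]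
      rw [h2] at h1
      exact h.t_nmem h1
  by_cases hx : (x : G) ∈ h.M
  · exact Or.inr ⟨hx, fun h1 => hdM ((mul_mem_cancel_left hx).1 h1)⟩
  · refine Or.inl ⟨?_, hx⟩
    rcases h.mem_S.1 x.2 with h1 | h1
    · rcases h.mem_RT'.1 h1 with h2 | ⟨b, a, c, h2⟩
      · exact absurd (Or.inl h2) hx
      · rw [h2, mul_assoc]
        exact mul_mem (Or.inl ⟨_, _, _, rfl⟩) (Or.inr (by rw [h.td_sq]; exact one_mem _))
    · rcases h.mem_RT'.1 h1 with h2 | ⟨b, a, c, h2⟩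
      · exact Or.inl h2
      · exfalso
        apply hx
        have h3 : (x : G) = el X Y Z b a c * (t * d) := by
          rw [← mul_assoc, ← h2, mul_assoc, h.dd, mul_one]
        rw [h3]
        exact mul_mem (Or.inl ⟨_, _, _, rfl⟩) (Or.inr (by rw [h.td_sq]; exact one_mem _))

end UTtd

end Cfsg.Agent.GH.L2.TFour
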