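import Cfsg.Agent.GH.L2.TFourD

/-!
# Project GH, branch GH-L2, case (T4): order 256 is impossible
-/

set_option autoImplicit false

namespace Cfsg.Agent.GH.L2.TFour

open Subgroup Cfsg.Agent.J2Sylow.Model Tool

variable {G : Type*} [Group G]

/-- the data -/
structure Big (X Y Z : F4 → G) (t d : G) (P : Sylow 2 G) : Prop where
  h : UTtd X Y Z t d
  hP : (P : Subgroup G) = h.S
  maxT : ∀ T' : Subgroup G, IsPGroup 2 T' → T' ≤ centralizer ({X 1} : Set G) → Nat.card T' ≤ 32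
  conjX : ∀ a c, a ≠ 0 → IsConj (X 1) (X a * Z c)
  eps : ∃ ε : G, ε * t = t * ε ∧ ∀ c, ε * Z c * ε⁻¹ = Z (F4.w * c)

theorem sq_one_conj {g x : G} (hx : x * x = 1) : g * x * g⁻¹ * (g * x * g⁻¹) = 1 := by
  calc g * x * g⁻¹ * (g * x * g⁻¹) = g * (x * x) * g⁻¹ := by group
    _ = 1 := by rw [hx]; group

namespace Big

variable {X Y Z : F4 → G} {t d : G} {P : Sylow 2 G} (D : Big X Y Z t d P)
include D

theorem S_isPGroup : IsPGroup 2 D.h.S := D.hP ▸ P.isPGroup'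

theorem RT_isPGroup : IsPGroup 2 D.h.RT := IsPGroup.to_le D.S_isPGroup D.h.RT_le

/-- `R⟨t⟩` is a Sylow 2-subgroup of `C_G(U)` -/
theorem maxRT [Finite G] : ∀ T' : Subgroup G, IsPGroup 2 T' → D.h.RT ≤ T' →
    T' ≤ centralizer (D.h.U : Set G) → Nat.card T' ≤ Nat.card D.h.RT := by
  have : Fact (Nat.Prime 2) := ⟨Nat.prime_two⟩
  intro T' hT' _ hC
  have hn1 : ∀ x : G, (∀ c, ∃ c', x * Z c * x⁻¹ = Z c') → x ∈ normalizer (D.h.U : Set G) := by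
    intro x hx
    have hle : D.h.U.map (MulAut.conj x).toMonoidHom ≤ D.h.U := by
      rintro _ ⟨_, ⟨c, rfl⟩, rfl⟩
      exact hx c
    have heq : D.h.U.map (MulAut.conj x).toMonoidHom = D.h.U := by
      apply Subgroup.eq_of_le_of_card_ge hle
      rw [Nat.card_congr (D.h.U.equivMapOfInjective _ (MulAut.conj x).injective).toEquiv.symm]
    rw [mem_normalizer_iff]
    intro n
    constructor
    · intro hn
      exact hle ⟨n, hn, rfl⟩
    · intro hn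
      change x * n * x⁻¹ ∈ D.h.U at hn
      rw [← heq, mem_map_conj] at hn
      have : x⁻¹ * (x * n * x⁻¹) * x = n := by group
      rwa [this] at hn
  have hSN : D.h.S ≤ normalizer (D.h.U : Set G) := fun x hx => hn1 x (D.h.S_norm hx)
  have hTN : T' ≤ normalizer (D.h.U : Set G) := fun x hx => hn1 x fun c =>
    ⟨c, by rw [D.h.mem_centU.1 (hC hx) c]; group⟩
  obtain ⟨n, hn, hnP⟩ := conj_into P (H := normalizer (D.h.U : Set G)) (by rw [D.hP]; exact hSN) hT' hTN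
  have hsub : T'.map (MulAut.conj n).toMonoidHom ≤ D.h.RT := by
    rintro _ ⟨x, hx, rfl⟩
    change n * x * n⁻¹ ∈ D.h.RT
    refine D.h.S_cent (by have := hnP x hx; rwa [D.hP] at this) fun c => ?_
    have h1 : n⁻¹ * Z c * n ∈ D.h.U := by
      have h2 := (mem_normalizer_iff.1 (inv_mem hn) (Z c)).1 ⟨c, rfl⟩
      rw [inv_inv] at h2
      exact h2
    obtain ⟨c', hc'⟩ := h1
    have h3 := D.h.mem_centU.1 (hC hx) c'
    rw [← hc'] at h3
    calc n * x * n⁻¹ * Z c = n * (x * (n⁻¹ * Z c * n)) * n⁻¹ := by group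
      _ = n * (n⁻¹ * Z c * n * x) * n⁻¹ := by rw [h3]
      _ = Z c * (n * x * n⁻¹) := by group
  have h4 := Subgroup.card_le_of_le hsub
  rwa [Nat.card_congr (T'.equivMapOfInjective _ (MulAut.conj n).injective).toEquiv.symm] at h4

theorem T_le : D.h.T ≤ centralizer ({X 1} : Set G) := fun _ hx =>
  mem_centralizer_singleton_iff.2 (D.h.T_cent hx)

theorem maxT' [Finite G] : ∀ T' : Subgroup G, IsPGroup 2 T' → D.h.T ≤ T' →
    T' ≤ centralizer ({X 1} : Set G) → Nat.card T' ≤ Nat.card D.h.T := by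
  intro T' h1 _ h2
  rw [D.h.card_T]
  exact D.maxT T' h1 h2

/-- Sylow in `C(X 1)` -/
theorem conj_T [Finite G] {A : Subgroup G} (hA : IsPGroup 2 A) (hA1 : ∀ x ∈ A, x * X 1 = X 1 * x) :
    ∃ c : G, c * X 1 = X 1 * c ∧ ∀ x ∈ A, c * x * c⁻¹ ∈ D.h.T := by
  have : Fact (Nat.Prime 2) := ⟨Nat.prime_two⟩
  obtain ⟨c, hc, hcA⟩ := conj_into_max D.T_le D.h.T_isPGroup D.maxT' hA
    (fun x hx => mem_centralizer_singleton_iff.2 (hA1 x hx))
  exact ⟨c, mem_centralizer_singleton_iff.1 hc, hcA⟩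

/-- Lemma W in `C(X 1)` -/
theorem not_E [Finite G] {c : G} (hc : c * X 1 = X 1 * c) : c * d * c⁻¹ ∉ D.h.E :=
  D.h.cfg.not_conj_rel D.T_le D.h.T_isPGroup D.maxT' (mem_centralizer_singleton_iff.2 hc)

/-- (b): an involution centralised by an element of order 8 is not conjugate to `X 1` -/
theorem not_conj_X [Finite G] {s y : G} (hy : y ∈ D.h.S) (hys : y * s = s * y) (h4 : y * y * (y * y) ≠ 1)
    (k : G) : k * s * k⁻¹ ≠ X 1 := by
  intro hk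
  have hA : IsPGroup 2 ((zpowers y).map (MulAut.conj k).toMonoidHom) :=
    isPGroup_conj (IsPGroup.to_le D.S_isPGroup (by rw [zpowers_le]; exact hy)) k
  obtain ⟨c, hc, hcA⟩ := D.conj_T hA (by
    rintro _ ⟨_, ⟨n, rfl⟩, rfl⟩
    change k * y ^ n * k⁻¹ * X 1 = X 1 * (k * y ^ n * k⁻¹)
    have h1 : y ^ n * s = s * y ^ n := by
      have h2 : Commute y s := hys
      exact (h2.zpow_left n).eq
    rw [← hk]
    calc k * y ^ n * k⁻¹ * (k * s * k⁻¹) = k * (y ^ n * s) * k⁻¹ := by group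
      _ = k * (s * y ^ n) * k⁻¹ := by rw [h1]
      _ = _ := by group)
  have h3 := D.h.T_pow (hcA _ ⟨y, mem_zpowers y, rfl⟩)
  change c * (k * y * k⁻¹) * c⁻¹ * (c * (k * y * k⁻¹) * c⁻¹) *
    (c * (k * y * k⁻¹) * c⁻¹ * (c * (k * y * k⁻¹) * c⁻¹)) = 1 at h3
  apply h4
  calc y * y * (y * y) = (c * k)⁻¹ * (c * (k * y * k⁻¹) * c⁻¹ * (c * (k * y * k⁻¹) * c⁻¹) *
    (c * (k * y * k⁻¹) * c⁻¹ * (c * (k * y * k⁻¹) * c⁻¹))) * (c * k) := by group
    _ = 1 := by rw [h3]; group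

/-- the element `y = Y 1 * t` of order 8 commuting with `d` -/
theorem y_mem : Y 1 * t ∈ D.h.S := D.h.RT_le (D.h.mem_RT.2 ⟨1, 0, 0, Or.inr (by rw [D.h.el_Y])⟩)

theorem y_d : Y 1 * t * d = d * (Y 1 * t) := by
  have h1 : d * Y 1 = Y 1 * d := D.h.dY 1
  calc Y 1 * t * d = Y 1 * (t * d) := by group
    _ = (Y 1 * d) * t := by rw [D.h.td]; group
    _ = d * (Y 1 * t) := by rw [← h1]; group

theorem y_two : Y 1 * t * (Y 1 * t) = Y 1 * X 1 := by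
  calc Y 1 * t * (Y 1 * t) = Y 1 * (t * Y 1) * t := by group
    _ = Y 1 * X 1 * (t * t) := by rw [D.h.tY]; group
    _ = Y 1 * X 1 := by rw [D.h.tt, mul_one]

theorem y_four : Y 1 * t * (Y 1 * t) * (Y 1 * t * (Y 1 * t)) = Z 1 := by
  rw [D.y_two]
  have h1 : Y 1 * X 1 = el X Y Z 1 1 0 := by
    unfold el
    rw [D.h.Z0, mul_one]
  rw [h1, D.h.el_sq]
  rfl

theorem Z1_ne : Z 1 ≠ 1 := D.h.Z1 1 (by decide)

/-- `d` is not conjugate to `X 1` -/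
theorem d_X [Finite G] (k : G) : k * d * k⁻¹ ≠ X 1 :=
  D.not_conj_X D.y_mem D.y_d (by rw [D.y_four]; exact D.Z1_ne) k

/-- `td` is not conjugate to `X 1` -/
theorem td_X [Finite G] (k : G) : k * (t * d) * k⁻¹ ≠ X 1 := by
  refine D.not_conj_X (y := el X Y Z F4.u F4.w F4.w * t) (D.h.RT_le (D.h.mem_RT.2 ⟨_, _, _, Or.inr rfl⟩)) ?_ ?_ k
  · have h1 := D.h.td_el F4.u F4.w F4.w
    have h2 : el X Y Z (F4.fr F4.w) (F4.fr F4.u) (F4.fr F4.w + F4.fr F4.w * F4.fr F4.u) =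
      el X Y Z F4.u F4.w F4.w := rfl
    rw [h2] at h1
    have h3 : t * (t * d) = t * d * t := by
      calc t * (t * d) = t * (d * t) := by rw [D.h.td]
        _ = _ := by group
    calc el X Y Z F4.u F4.w F4.w * t * (t * d) = el X Y Z F4.u F4.w F4.w * (t * d) * t := by
          rw [mul_assoc, h3]; group
      _ = t * d * el X Y Z F4.u F4.w F4.w * t := by rw [h1]
      _ = _ := by group
  · have h1 : el X Y Z F4.u F4.w F4.w * t * (el X Y Z F4.u F4.w F4.w * t) =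
        el X Y Z F4.u F4.w F4.w * (t * el X Y Z F4.u F4.w F4.w * t) := by group
    rw [h1, D.h.t_el_t, D.h.el_mul, D.h.el_sq]
    exact D.h.Z1 _ (by decide)

/-- (c): `t` is not conjugate to `X 1` -/
theorem t_X [Finite G] (k : G) : k * t * k⁻¹ ≠ X 1 := by
  intro hk
  have hB : IsPGroup 2 (D.h.B.map (MulAut.conj k).toMonoidHom) :=
    isPGroup_conj (isPGroup_of_sq fun x hx => D.h.B_sq hx) k
  obtain ⟨c, hc, hcB⟩ := D.conj_T hB (by
    rintro _ ⟨x, hx, rfl⟩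
    change k * x * k⁻¹ * X 1 = X 1 * (k * x * k⁻¹)
    rw [← hk]
    have h1 := D.h.B_comm hx D.h.t_mem_B
    calc k * x * k⁻¹ * (k * t * k⁻¹) = k * (x * t) * k⁻¹ := by group
      _ = k * (t * x) * k⁻¹ := by rw [h1]
      _ = _ := by group)
  set g : G := c * k with hg
  have hgt : g * t * g⁻¹ = X 1 := by
    calc g * t * g⁻¹ = c * (k * t * k⁻¹) * c⁻¹ := by rw [hg]; group
      _ = X 1 := by rw [hk, hc]; group
  have hgB : ∀ x ∈ D.h.B, g * x * g⁻¹ ∈ D.h.T := by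
    intro x hx
    have h1 := hcB _ ⟨x, hx, rfl⟩
    have e : g * x * g⁻¹ = c * (k * x * k⁻¹) * c⁻¹ := by rw [hg]; group
    rw [e]
    exact h1
  have hXE : X 1 ∈ D.h.E := ⟨1, 0, (D.h.el_X 1).symm⟩
  -- some `Z c1` is moved out of `E`
  obtain ⟨c1, hc1⟩ : ∃ c1, g * Z c1 * g⁻¹ ∉ D.h.E := by
    by_contra hcon
    push Not at hcon
    refine D.h.B_not_R D.RT_isPGroup D.maxRT (g := g) ?_
    rintro _ ⟨c', rfl | rfl⟩
    · exact D.h.E_le (hcon c')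
    · have e : g * (Z c' * t) * g⁻¹ = (g * Z c' * g⁻¹) * (g * t * g⁻¹) := by group
      rw [e, hgt]
      exact D.h.E_le (mul_mem (hcon c') hXE)
  have hZT : ∀ c, g * Z c * g⁻¹ ∈ D.h.T := fun c => hgB _ ⟨c, Or.inl rfl⟩
  -- some `Z c0`, `c0 ≠ 0`, is moved into `E`
  obtain ⟨c0, hc0, hc0E⟩ : ∃ c0, c0 ≠ 0 ∧ g * Z c0 * g⁻¹ ∈ D.h.E := by
    by_cases h1 : g * Z 1 * g⁻¹ ∈ D.h.E
    · exact ⟨1, by decide, h1⟩
    by_cases h2 : g * Z F4.w * g⁻¹ ∈ D.h.E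
    · exact ⟨F4.w, by decide, h2⟩
    refine ⟨1 + F4.w, by decide, ?_⟩
    rw [← D.h.ZZ]
    obtain ⟨a, b, h3⟩ := D.h.mem_T' (hZT 1) h1
    obtain ⟨a', b', h4⟩ := D.h.mem_T' (hZT F4.w) h2
    have e : g * (Z 1 * Z F4.w) * g⁻¹ = (g * Z 1 * g⁻¹) * (g * Z F4.w * g⁻¹) := by group
    rw [e, h3, h4]
    have e2 : el X Y Z 0 a b * d * (el X Y Z 0 a' b' * d) = el X Y Z 0 a b * (d * el X Y Z 0 a' b' * d) := by
      group
    rw [e2, D.h.d_el_d]
    exact mul_mem ⟨_, _, rfl⟩ ⟨_, _, rfl⟩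
  have hc1n : c1 ≠ 0 := by
    rintro rfl
    apply hc1
    rw [D.h.Z0]
    have : g * 1 * g⁻¹ = 1 := by group
    rw [this]
    exact one_mem _
  obtain ⟨ε, hεt, hε⟩ := D.eps
  -- a power of `ε` takes `c0` to `c1`
  obtain ⟨δ, hδt, hδ⟩ : ∃ δ : G, δ * t = t * δ ∧ δ * Z c1 * δ⁻¹ = Z c0 := by
    have key : ∀ c0 c1 : F4, c0 ≠ 0 → c1 ≠ 0 → c0 = c1 ∨ c0 = F4.w * c1 ∨ c0 = F4.w * (F4.w * c1) := by decide
    rcases key c0 c1 hc0 hc1n with h1 | h1 | h1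
    · exact ⟨1, by group, by rw [h1]; group⟩
    · exact ⟨ε, hεt, by rw [hε, h1]⟩
    · refine ⟨ε * ε, ?_, ?_⟩
      · rw [mul_assoc, hεt, ← mul_assoc, hεt, mul_assoc]
      · calc ε * ε * Z c1 * (ε * ε)⁻¹ = ε * (ε * Z c1 * ε⁻¹) * ε⁻¹ := by group
          _ = Z c0 := by rw [hε, hε, h1]
  -- `d' = g Z c1 g⁻¹ ∈ T - E` is conjugate to `d`
  obtain ⟨e, he, hed⟩ := D.h.T_inv (hZT c1) hc1 (sq_one_conj (D.h.Zsq c1))
  have heX : e * X 1 = X 1 * e := D.h.E_comm he hXE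
  -- the element `g δ g⁻¹ e⁻¹` of `C(X 1)` moves `d` into `E`
  refine D.not_E (c := g * δ * g⁻¹ * e⁻¹) ?_ ?_
  · have h1 : e⁻¹ * X 1 = X 1 * e⁻¹ := by
      calc e⁻¹ * X 1 = e⁻¹ * (X 1 * e) * e⁻¹ := by group
        _ = e⁻¹ * (e * X 1) * e⁻¹ := by rw [heX]
        _ = X 1 * e⁻¹ := by group
    have h2 : g * δ * g⁻¹ * X 1 = X 1 * (g * δ * g⁻¹) := by
      rw [← hgt]
      calc g * δ * g⁻¹ * (g * t * g⁻¹) = g * (δ * t) * g⁻¹ := by group
        _ = g * (t * δ) * g⁻¹ := by rw [hδt]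
        _ = _ := by group
    rw [mul_assoc, h1, ← mul_assoc, h2, mul_assoc]
  · have e3 : g * δ * g⁻¹ * e⁻¹ * d * (g * δ * g⁻¹ * e⁻¹)⁻¹ = g * Z c0 * g⁻¹ := by
      rw [← hed, ← hδ]
      group
    rw [e3]
    exact hc0E

/-- `X a * Z c`, `a ≠ 0`: not conjugate to `t`, `d`, `td` -/
theorem not_el {s : G} (hs : ∀ k : G, k * s * k⁻¹ ≠ X 1) {a c : F4} (ha : a ≠ 0) (k : G) :
    k * s * k⁻¹ ≠ el X Y Z 0 a c := by
  intro hk
  obtain ⟨n, hn⟩ := isConj_iff.1 (D.conjX a c ha)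
  apply hs (n⁻¹ * k)
  have e : el X Y Z 0 a c = X a * Z c := by unfold el; rw [D.h.Y0, one_mul]
  rw [e, ← hn] at hk
  calc n⁻¹ * k * s * (n⁻¹ * k)⁻¹ = n⁻¹ * (k * s * k⁻¹) * n := by group
    _ = X 1 := by rw [hk]; group

/-- the same for `Y b * Z c` -/
theorem not_el' {s : G} (hs : ∀ k : G, k * s * k⁻¹ ≠ X 1) {b c : F4} (hb : b ≠ 0) (k : G) :
    k * s * k⁻¹ ≠ el X Y Z b 0 c := by
  intro hk
  refine D.not_el hs (a := b) (c := c) hb (t * k) ?_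
  have h1 : t * el X Y Z b 0 c * t = el X Y Z 0 b c := by
    rw [D.h.t_el_t]
    congr 1
    clear * -
    revert b c
    decide
  calc t * k * s * (t * k)⁻¹ = t * (k * s * k⁻¹) * t⁻¹ := by group
    _ = t * el X Y Z b 0 c * t := by rw [hk, D.h.t_inv]
    _ = _ := h1

/-- all `Z c`, `c ≠ 0`, are conjugate -/
theorem conj_Z {c : F4} (hc : c ≠ 0) : ∃ k : G, k * Z c * k⁻¹ = Z 1 := by
  obtain ⟨ε, -, hε⟩ := D.eps
  have key : ∀ c : F4, c ≠ 0 → 1 = c ∨ 1 = F4.w * c ∨ 1 = F4.w * (F4.w * c) := by decide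
  rcases key c hc with h1 | h1 | h1
  · exact ⟨1, by rw [← h1]; group⟩
  · exact ⟨ε, by rw [hε, ← h1]⟩
  · refine ⟨ε * ε, ?_⟩
    calc ε * ε * Z c * (ε * ε)⁻¹ = ε * (ε * Z c * ε⁻¹) * ε⁻¹ := by group
      _ = Z 1 := by rw [hε, hε, ← h1]

/-- `C_S(d)` -/
def Cd : Subgroup G := D.h.S ⊓ centralizer ({d} : Set G)

theorem mem_Cd {x : G} : x ∈ D.Cd ↔ x ∈ D.h.S ∧ x * d = d * x := by
  rw [Cd, mem_inf, mem_centralizer_singleton_iff]

theorem Cd_isPGroup : IsPGroup 2 D.Cd := IsPGroup.to_le D.S_isPGroup inf_le_left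

theorem d_X1 : X 1 * d = d * X 1 := (D.h.dX 1).symm

theorem S_le_centZ : D.h.S ≤ centralizer ({Z 1} : Set G) := fun _ hx =>
  mem_centralizer_singleton_iff.2 (D.h.Z1_central hx)

/-- (d): `d` is not conjugate to `Z 1` -/
theorem d_Z [Finite G] (k : G) : k * d * k⁻¹ ≠ Z 1 := by
  have : Fact (Nat.Prime 2) := ⟨Nat.prime_two⟩
  intro hk
  have hA : IsPGroup 2 (D.Cd.map (MulAut.conj k).toMonoidHom) := isPGroup_conj D.Cd_isPGroup k
  obtain ⟨c, hc, hcA⟩ := conj_into P (H := centralizer ({Z 1} : Set G)) (by rw [D.hP]; exact D.S_le_centZ) hA (by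
    rintro _ ⟨x, hx, rfl⟩
    rw [mem_centralizer_singleton_iff]
    change k * x * k⁻¹ * Z 1 = Z 1 * (k * x * k⁻¹)
    rw [← hk]
    have h1 := (D.mem_Cd.1 hx).2
    calc k * x * k⁻¹ * (k * d * k⁻¹) = k * (x * d) * k⁻¹ := by group
      _ = k * (d * x) * k⁻¹ := by rw [h1]
      _ = _ := by group)
  rw [mem_centralizer_singleton_iff] at hc
  set g : G := c * k with hg
  have hgd : g * d * g⁻¹ = Z 1 := by
    calc g * d * g⁻¹ = c * (k * d * k⁻¹) * c⁻¹ := by rw [hg]; group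
      _ = Z 1 := by rw [hk, hc]; group
  have hgC : ∀ x ∈ D.Cd, g * x * g⁻¹ ∈ D.h.S := by
    intro x hx
    have h1 := hcA _ ⟨x, hx, rfl⟩
    rw [D.hP] at h1
    have e : g * x * g⁻¹ = c * (k * x * k⁻¹) * c⁻¹ := by rw [hg]; group
    rw [e]
    exact h1
  -- `g Z 1 g⁻¹ = Z c1`
  obtain ⟨c1, hc1⟩ : ∃ c1, g * Z 1 * g⁻¹ = Z c1 := by
    obtain ⟨c1, h1⟩ := D.h.S_four (hgC _ (D.mem_Cd.2 ⟨D.y_mem, D.y_d⟩))
    refine ⟨c1, ?_⟩
    rw [← h1, ← D.y_four]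
    group
  have hc10 : c1 ≠ 0 := by
    rintro rfl
    rw [D.h.Z0] at hc1
    apply D.Z1_ne
    calc Z 1 = g⁻¹ * (g * Z 1 * g⁻¹) * g := by group
      _ = 1 := by rw [hc1]; group
  have hc11 : c1 ≠ 1 := by
    rintro rfl
    have : Z 1 = d := by
      calc Z 1 = g⁻¹ * (g * Z 1 * g⁻¹) * g := by group
        _ = g⁻¹ * (g * d * g⁻¹) * g := by rw [hc1, hgd]
        _ = d := by group
    exact D.h.d_nmem (D.h.mem_RT.2 ⟨0, 0, 1, Or.inl (by rw [D.h.el_Z]; exact this.symm)⟩)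
  -- `x' = g (X 1) g⁻¹ ∈ R⟨t⟩`
  have hx'S := hgC _ (D.mem_Cd.2 ⟨D.h.RT_le (D.h.R_le ⟨0, 1, 0, (D.h.el_X 1).symm⟩), D.d_X1⟩)
  have hXZ : X 1 * Z 1 = Z 1 * X 1 := (D.h.ZX 1 1).symm
  have hx'Z1 : g * X 1 * g⁻¹ * Z 1 = Z 1 * (g * X 1 * g⁻¹) := by
    rw [← hgd]
    calc g * X 1 * g⁻¹ * (g * d * g⁻¹) = g * (X 1 * d) * g⁻¹ := by group
      _ = g * (d * X 1) * g⁻¹ := by rw [D.d_X1]
      _ = _ := by group
  have hx'Zc : g * X 1 * g⁻¹ * Z c1 = Z c1 * (g * X 1 * g⁻¹) := by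
    rw [← hc1]
    calc g * X 1 * g⁻¹ * (g * Z 1 * g⁻¹) = g * (X 1 * Z 1) * g⁻¹ := by group
      _ = g * (Z 1 * X 1) * g⁻¹ := by rw [hXZ]
      _ = _ := by group
  have hcov : ∀ c1 c : F4, c1 ≠ 0 → c1 ≠ 1 → c = 0 ∨ c = 1 ∨ c = c1 ∨ c = 1 + c1 := by decide
  have hx'U : ∀ c, g * X 1 * g⁻¹ * Z c = Z c * (g * X 1 * g⁻¹) := by
    intro c
    rcases hcov c1 c hc10 hc11 with rfl | rfl | rfl | rfl
    · rw [D.h.Z0]; group
    · exact hx'Z1
    · exact hx'Zc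
    · rw [← D.h.ZZ]
      calc g * X 1 * g⁻¹ * (Z 1 * Z c1) = g * X 1 * g⁻¹ * Z 1 * Z c1 := by group
        _ = Z 1 * (g * X 1 * g⁻¹) * Z c1 := by rw [hx'Z1]
        _ = Z 1 * (g * X 1 * g⁻¹ * Z c1) := by group
        _ = Z 1 * (Z c1 * (g * X 1 * g⁻¹)) := by rw [hx'Zc]
        _ = Z 1 * Z c1 * (g * X 1 * g⁻¹) := by group
  have hx'RT := D.h.S_cent hx'S hx'U
  have hx'2 : g * X 1 * g⁻¹ * (g * X 1 * g⁻¹) = 1 := sq_one_conj (D.h.Xsq 1)
  -- `x' ∈ R`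
  have hx'R : g * X 1 * g⁻¹ ∈ D.h.R := by
    by_contra hcon
    obtain ⟨r, hr, hrt⟩ := D.h.exists_conj_of_inv hx'RT hcon hx'2
    apply D.t_X (r * g)⁻¹
    rw [← hrt]
    group
  -- the final argument
  have key : ∀ E1 : Subgroup G, Nat.card E1 = 16 → (∀ x ∈ E1, x * x = 1) →
      (∀ x ∈ E1, ∀ y ∈ E1, x * y = y * x) → D.h.U ≤ E1 → g * X 1 * g⁻¹ ∈ E1 → False := by
    intro E1 hcard hsq hcomm hU hx1
    set T1 : Subgroup G := E1.map (MulAut.conj g⁻¹).toMonoidHom with hT1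
    have mT1 : ∀ x, x ∈ T1 ↔ g * x * g⁻¹ ∈ E1 := by
      intro x
      rw [hT1, mem_map_conj, inv_inv]
    have hT2 : IsPGroup 2 T1 := isPGroup_conj (isPGroup_of_sq hsq) _
    have hT1c : ∀ x ∈ T1, ∀ y ∈ T1, x * y = y * x := by
      intro x hx y hy
      have h3 := hcomm _ ((mT1 x).1 hx) _ ((mT1 y).1 hy)
      have h4 : g * (x * y) * g⁻¹ = g * (y * x) * g⁻¹ := by
        calc g * (x * y) * g⁻¹ = (g * x * g⁻¹) * (g * y * g⁻¹) := by group
          _ = (g * y * g⁻¹) * (g * x * g⁻¹) := h3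
          _ = g * (y * x) * g⁻¹ := by group
      exact mul_left_cancel (mul_right_cancel h4)
    have hXT : X 1 ∈ T1 := (mT1 _).2 hx1
    have hdT : d ∈ T1 := (mT1 _).2 (by rw [hgd]; exact hU ⟨1, rfl⟩)
    obtain ⟨c2, hc2, hc2T⟩ := D.conj_T hT2 (fun x hx => hT1c x hx _ hXT)
    have h5 := hc2T d hdT
    have h6 := D.not_E hc2
    obtain ⟨e, he, hed⟩ := D.h.T_inv h5 h6 (sq_one_conj D.h.dd)
    have h7 := D.h.cent_T (T1.map (MulAut.conj (e * c2)).toMonoidHom) (by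
      rintro _ ⟨x, hx, rfl⟩
      change e * c2 * x * (e * c2)⁻¹ ∈ D.h.T ∧ e * c2 * x * (e * c2)⁻¹ * d = d * (e * c2 * x * (e * c2)⁻¹)
      constructor
      · have e1 : e * c2 * x * (e * c2)⁻¹ = e * (c2 * x * c2⁻¹) * e⁻¹ := by group
        rw [e1]
        exact mul_mem (mul_mem (D.h.E_le_T he) (hc2T x hx)) (inv_mem (D.h.E_le_T he))
      · have h8 := hT1c x hx d hdT
        calc e * c2 * x * (e * c2)⁻¹ * d = e * c2 * x * (e * c2)⁻¹ * (e * (c2 * d * c2⁻¹) * e⁻¹) := by rw [hed]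
          _ = e * c2 * (x * d) * (e * c2)⁻¹ := by group
          _ = e * c2 * (d * x) * (e * c2)⁻¹ := by rw [h8]
          _ = (e * (c2 * d * c2⁻¹) * e⁻¹) * (e * c2 * x * (e * c2)⁻¹) := by group
          _ = d * (e * c2 * x * (e * c2)⁻¹) := by rw [hed])
    rw [Nat.card_congr (T1.equivMapOfInjective _ (MulAut.conj (e * c2)).injective).toEquiv.symm, hT1,
      Nat.card_congr (E1.equivMapOfInjective _ (MulAut.conj g⁻¹).injective).toEquiv.symm, hcard] at h7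
    omega
  rcases D.h.inv_R hx'R hx'2 with h8 | h8
  · exact key D.h.E D.h.card_E (fun x hx => D.h.E_sq hx) (fun x hx y hy => D.h.E_comm hx hy) D.h.U_le_E h8
  · exact key D.h.F D.h.card_F (fun x hx => D.h.F_sq hx) (fun x hx y hy => D.h.F_comm hx hy) D.h.U_le_F h8

/-- no element of `C_S(td)` inverts an element of order 8 -/
theorem no_inv {q y : G} (hq : q ∈ D.h.S) (hqd : q * (t * d) = t * d * q) (hy : y ∈ D.h.S)
    (hyd : y * (t * d) = t * d * y) (hqy : q * y * q⁻¹ = y⁻¹) : y * y * (y * y) = 1 := by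
  set σ : G := t * d with hσ
  have hσσ : σ * σ = 1 := D.h.td_sq
  -- normal form modulo `σ`
  have nf : ∀ g ∈ D.h.S, g * σ = σ * g → g ∈ D.h.RT ∨ g * σ ∈ D.h.RT := by
    intro g hg _
    by_cases h1 : g ∈ D.h.RT
    · exact Or.inl h1
    · right
      obtain ⟨b, a, c, rfl | rfl⟩ := D.h.mem_S' hg h1
      · refine D.h.mem_RT.2 ⟨b, a, c, Or.inr ?_⟩
        calc el X Y Z b a c * d * σ = el X Y Z b a c * (d * t) * d := by rw [hσ]; group
          _ = el X Y Z b a c * t * (d * d) := by rw [← D.h.td]; group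
          _ = _ := by rw [D.h.dd, mul_one]
      · refine D.h.mem_RT.2 ⟨b, a, c, Or.inl ?_⟩
        rw [mul_assoc, hσσ, mul_one]
  have nf' : ∀ g ∈ D.h.S, g * σ = σ * g → ∃ g' ∈ D.h.RT, g' * σ = σ * g' ∧ (g = g' ∨ g = g' * σ) := by
    intro g hg h1
    rcases nf g hg h1 with h2 | h2
    · exact ⟨g, h2, h1, Or.inl rfl⟩
    · refine ⟨g * σ, h2, ?_, Or.inr ?_⟩
      · rw [h1, mul_assoc, h1]
      · rw [mul_assoc, hσσ, mul_one]
  obtain ⟨q1, hq1, hq1s, hq1q⟩ := nf' q hq hqd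
  obtain ⟨y1, hy1, hy1s, hy1y⟩ := nf' y hy hyd
  have hyy : y * y = y1 * y1 := by
    rcases hy1y with rfl | rfl
    · rfl
    · calc y1 * σ * (y1 * σ) = y1 * (σ * y1) * σ := by group
        _ = y1 * y1 * (σ * σ) := by rw [← hy1s]; group
        _ = _ := by rw [hσσ, mul_one]
  rw [hyy]
  -- `q1 y1 q1⁻¹ = y1⁻¹`
  have hrel : q1 * y1 * q1⁻¹ = y1⁻¹ := by
    have h1 : q * y1 * q⁻¹ = y1⁻¹ := by
      rcases hy1y with rfl | rfl
      · exact hqy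
      · have h2 : q * (y1 * σ) * q⁻¹ = (q * y1 * q⁻¹) * σ := by
          have h3 : σ * q⁻¹ = q⁻¹ * σ := by
            calc σ * q⁻¹ = q⁻¹ * (q * σ) * q⁻¹ := by group
              _ = q⁻¹ * (σ * q) * q⁻¹ := by rw [hqd]
              _ = q⁻¹ * σ := by group
          calc q * (y1 * σ) * q⁻¹ = q * y1 * (σ * q⁻¹) := by group
            _ = _ := by rw [h3]; group
        have hσi : σ⁻¹ = σ := inv_eq_iff_mul_eq_one.mpr hσσ
        rw [h2, mul_inv_rev, hσi] at hqy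
        have h4 : σ * y1⁻¹ = y1⁻¹ * σ := by
          calc σ * y1⁻¹ = y1⁻¹ * (y1 * σ) * y1⁻¹ := by group
            _ = y1⁻¹ * (σ * y1) * y1⁻¹ := by rw [hy1s]
            _ = y1⁻¹ * σ := by group
        rw [h4] at hqy
        exact mul_right_cancel hqy
    rcases hq1q with rfl | rfl
    · exact h1
    · calc q1 * y1 * q1⁻¹ = q1 * (y1 * (σ * σ)) * q1⁻¹ := by rw [hσσ, mul_one]
        _ = q1 * (y1 * σ) * σ * q1⁻¹ := by group
        _ = q1 * (σ * y1) * σ * q1⁻¹ := by rw [hy1s]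
        _ = q1 * σ * y1 * (σ⁻¹ * q1⁻¹) := by
            rw [inv_eq_iff_mul_eq_one.mpr hσσ]; group
        _ = q1 * σ * y1 * (q1 * σ)⁻¹ := by rw [mul_inv_rev q1 σ]
        _ = _ := h1
  -- `y1 ∈ R`: done
  rcases D.h.mem_RT'.1 hy1 with hyR | ⟨b1, a1, c1, hy1e⟩
  · obtain ⟨b, a, c, rfl⟩ := hyR
    rw [D.h.el_sq, D.h.Zsq]
  -- without loss of generality `q1 ∈ R`
  obtain ⟨q2, hq2, hq2s, hq2r⟩ : ∃ q2 ∈ D.h.R, q2 * σ = σ * q2 ∧ q2 * y1 * q2⁻¹ = y1⁻¹ := by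
    rcases D.h.mem_RT'.1 hq1 with hqR | ⟨b, a, c, hqe⟩
    · exact ⟨q1, hqR, hq1s, hrel⟩
    · refine ⟨q1 * y1, ?_, ?_, ?_⟩
      · rw [hqe, hy1e]
        have e : el X Y Z b a c * t * (el X Y Z b1 a1 c1 * t) = el X Y Z b a c * (t * el X Y Z b1 a1 c1 * t) := by
          group
        rw [e, D.h.t_el_t]
        exact mul_mem ⟨_, _, _, rfl⟩ ⟨_, _, _, rfl⟩
      · rw [mul_assoc, hy1s, ← mul_assoc, hq1s, mul_assoc]
      · rw [← hrel]
        group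
  obtain ⟨b, a, c, rfl⟩ := hq2
  -- coordinates
  have h1 : F4.fr a = b := by
    rw [hσ, D.h.td_el] at hq2s
    obtain ⟨h2, -, -⟩ := D.h.el_inj (mul_right_cancel hq2s)
    exact h2.symm
  have h2 : b1 = F4.fr a1 := by
    rw [hy1e] at hy1s
    have h3 : el X Y Z b1 a1 c1 * t * σ = el X Y Z b1 a1 c1 * σ * t := by
      have e : t * σ = σ * t := by
        rw [hσ]
        calc t * (t * d) = t * (d * t) := by rw [D.h.td]
          _ = _ := by group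
      rw [mul_assoc, e, ← mul_assoc]
    have h4 : σ * (el X Y Z b1 a1 c1 * t) = σ * el X Y Z b1 a1 c1 * t := by group
    rw [h3, h4] at hy1s
    have h5 := mul_right_cancel hy1s
    rw [hσ, D.h.td_el] at h5
    obtain ⟨h6, -, -⟩ := D.h.el_inj (mul_right_cancel h5)
    exact h6
  have h3 : el X Y Z b a c * y1 = y1⁻¹ * el X Y Z b a c := by
    rw [← hq2r]; group
  have h4 : y1⁻¹ = el X Y Z a1 b1 c1 * t := by
    rw [hy1e, mul_inv_rev, D.h.t_inv, D.h.el_inv, D.h.t_el]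
    congr 2
    clear * -
    revert a1 b1 c1
    decide
  rw [h4, hy1e, mul_assoc, D.h.t_el, ← mul_assoc, ← mul_assoc, D.h.el_mul, D.h.el_mul] at h3
  obtain ⟨-, -, h5⟩ := D.h.el_inj (mul_right_cancel h3)
  subst h1 h2
  have h6 : a * F4.fr a = 0 := by
    clear * - h5
    revert a c a1 c1
    decide
  have ha : a = 0 := by
    clear * - h6
    revert a
    decide
  subst ha
  -- `q2 = Z c` is central
  have h7 : el X Y Z (F4.fr 0) 0 c = Z c := D.h.el_Z c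
  rw [h7] at hq2r
  have h8 := D.h.RT_cent hy1 c
  rw [← h8, mul_inv_cancel_right] at hq2r
  have h9 : y1 * y1 = 1 := by
    nth_rewrite 2 [hq2r]
    rw [mul_inv_cancel]
  rw [h9, mul_one]

/-- **(T4), order 256.** -/
theorem dead [Finite G] (hG : ∀ f : G →* ℤˣ, f d = 1) : False := by
  obtain ⟨g0, hg0, hg0C⟩ := SylowSp4.ExtTransfer.exists_extremal P D.h.M (by rw [D.hP]; exact D.h.M_le)
    (by rw [D.hP]; exact D.h.relIndex_M) d D.h.dd hG D.Cd D.Cd_isPGroup (fun x hx => (D.mem_Cd.1 hx).2)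
  have h2 : g0 * d * g0⁻¹ * (g0 * d * g0⁻¹) = 1 := sq_one_conj D.h.dd
  have hd1 : d ≠ 1 := fun hc => D.h.d_nmem (D.h.mem_RT.2 ⟨0, 0, 0, Or.inl (by rw [D.h.el_zero]; exact hc)⟩)
  have h1 : g0 * d * g0⁻¹ ≠ 1 := by
    intro hc
    apply hd1
    calc d = g0⁻¹ * (g0 * d * g0⁻¹) * g0 := by group
      _ = 1 := by rw [hc]; group
  by_cases hR : g0 * d * g0⁻¹ ∈ D.h.R
  · have hZ : ∀ c, g0 * d * g0⁻¹ ≠ Z c := by
      intro c hc
      have hc0 : c ≠ 0 := by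
        rintro rfl
        exact h1 (hc.trans D.h.Z0)
      obtain ⟨k, hk⟩ := D.conj_Z hc0
      apply D.d_Z (k * g0)
      rw [← hk, ← hc]
      group
    rcases D.h.inv_R hR h2 with ⟨a, c, h3⟩ | ⟨b, c, h3⟩
    · by_cases ha : a = 0
      · exact hZ c (by rw [h3, ha]; exact D.h.el_Z c)
      · exact D.not_el D.d_X ha g0 h3
    · by_cases hb : b = 0
      · exact hZ c (by rw [h3, hb]; exact D.h.el_Z c)
      · exact D.not_el' D.d_X hb g0 h3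
  · obtain ⟨b, a, c, h3⟩ := D.h.M_diff hg0 hR
    rw [h3] at h2
    obtain ⟨r, hr, hrt⟩ := D.h.inv_td h2
    set g : G := r * g0 with hg
    have hgd : g * d * g⁻¹ = t * d := by
      rw [← hrt, ← h3, hg]; group
    have hgC : ∀ x ∈ D.Cd, g * x * g⁻¹ ∈ D.h.S ∧ g * x * g⁻¹ * (t * d) = t * d * (g * x * g⁻¹) := by
      intro x hx
      constructor
      · have h4 := hg0C x hx
        have h5 : g0 * x * g0⁻¹ ∈ D.h.S := by
          rw [← D.hP]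
          exact h4
        have e : g * x * g⁻¹ = r * (g0 * x * g0⁻¹) * r⁻¹ := by rw [hg]; group
        have hrS : r ∈ D.h.S := D.h.RT_le (D.h.R_le hr)
        rw [e]
        exact mul_mem (mul_mem hrS h5) (inv_mem hrS)
      · rw [← hgd]
        have h6 := (D.mem_Cd.1 hx).2
        calc g * x * g⁻¹ * (g * d * g⁻¹) = g * (x * d) * g⁻¹ := by group
          _ = g * (d * x) * g⁻¹ := by rw [h6]
          _ = _ := by group
    have hy := hgC _ (D.mem_Cd.2 ⟨D.y_mem, D.y_d⟩)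
    have ht := hgC _ (D.mem_Cd.2 ⟨D.h.RT_le D.h.t_mem, D.h.td⟩)
    have h7 := D.no_inv ht.1 ht.2 hy.1 hy.2 (by
      have h8 : t * (Y 1 * t) * t⁻¹ = (Y 1 * t)⁻¹ := by
        have hYi : (Y 1)⁻¹ = Y 1 := inv_eq_iff_mul_eq_one.mpr (D.h.Ysq 1)
        rw [mul_inv_rev, hYi, D.h.t_inv]
        calc t * (Y 1 * t) * t = t * Y 1 * (t * t) := by group
          _ = t * Y 1 := by rw [D.h.tt, mul_one]
      calc g * t * g⁻¹ * (g * (Y 1 * t) * g⁻¹) * (g * t * g⁻¹)⁻¹ = g * (t * (Y 1 * t) * t⁻¹) * g⁻¹ := by group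
        _ = g * (Y 1 * t)⁻¹ * g⁻¹ := by rw [h8]
        _ = _ := by group)
    apply D.Z1_ne
    rw [← D.y_four]
    calc Y 1 * t * (Y 1 * t) * (Y 1 * t * (Y 1 * t)) = g⁻¹ * (g * (Y 1 * t) * g⁻¹ * (g * (Y 1 * t) * g⁻¹) *
        (g * (Y 1 * t) * g⁻¹ * (g * (Y 1 * t) * g⁻¹))) * g := by group
      _ = 1 := by rw [h7]; group

end Big

/-- the same, in the form of `T4Defs`: `E⟨d⟩` (order 32) is a Sylow 2-subgroup of `C(X 1)`, all `X a * Z c` with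
`a ≠ 0` are conjugate to `X 1`, some `ε ∈ C(t)` acts on `Z` as multiplication by `w`. -/
theorem dead_256 [Finite G] {X Y Z : F4 → G} {t d : G} (h : T4Defs.UT X Y Z) (tt : t * t = 1)
    (tX : ∀ a, t * X a = Y a * t) (tZ : ∀ c, t * Z c = Z c * t) (dd : d * d = 1) (td : t * d = d * t)
    (dX : ∀ a, d * X a = X (F4.fr a) * d) (dY : ∀ a, d * Y a = Y (F4.fr a) * d)
    (dZ : ∀ a, d * Z a = Z (F4.fr a) * d) (P : Sylow 2 G)
    (mem : ∀ g, g ∈ P ↔ ∃ a b c, g = Y b * X a * Z c ∨ g = Y b * X a * Z c * t ∨ g = Y b * X a * Z c * d ∨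
      g = Y b * X a * Z c * (t * d))
    (maxT : ∀ T' : Subgroup G, IsPGroup 2 T' → T' ≤ centralizer ({X 1} : Set G) → Nat.card T' ≤ 32)
    (conjX : ∀ a c, a ≠ 0 → IsConj (X 1) (X a * Z c))
    (eps : ∃ ε : G, ε * t = t * ε ∧ ∀ c, ε * Z c * ε⁻¹ = Z (F4.w * c))
    (hG : ∀ f : G →* ℤˣ, f d = 1) : False := by
  have h' : UTtd X Y Z t d :=
    { XX := h.XX, YY := h.YY, ZZ := h.ZZ, XY := h.XY, ZX := h.ZX, ZY := h.ZY, Z1 := h.Z1
      tt := tt, tX := tX, tZ := tZ, dd := dd, td := td, dX := dX, dY := dY, dZ := dZ }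
  have hP : (P : Subgroup G) = h'.S := by
    ext g
    change g ∈ P ↔ _
    rw [mem, h'.mem_S, h'.mem_RT, h'.mem_RT]
    constructor
    · rintro ⟨a, b, c, hg | hg | hg | hg⟩
      · exact Or.inl ⟨b, a, c, Or.inl hg⟩
      · exact Or.inl ⟨b, a, c, Or.inr hg⟩
      · exact Or.inr ⟨b, a, c, Or.inl (by rw [hg, mul_assoc, dd, mul_one]; rfl)⟩
      · refine Or.inr ⟨b, a, c, Or.inr ?_⟩
        rw [hg]
        calc Y b * X a * Z c * (t * d) * d = Y b * X a * Z c * t * (d * d) := by group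
          _ = Y b * X a * Z c * t := by rw [dd, mul_one]
    · rintro (⟨b, a, c, hg | hg⟩ | ⟨b, a, c, hg | hg⟩)
      · exact ⟨a, b, c, Or.inl hg⟩
      · exact ⟨a, b, c, Or.inr (Or.inl hg)⟩
      · refine ⟨a, b, c, Or.inr (Or.inr (Or.inl ?_))⟩
        calc g = g * (d * d) := by rw [dd, mul_one]
          _ = g * d * d := by group
          _ = _ := by rw [hg]; rfl
      · refine ⟨a, b, c, Or.inr (Or.inr (Or.inr ?_))⟩
        calc g = g * (d * d) := by rw [dd, mul_one]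
          _ = g * d * d := by group
          _ = el X Y Z b a c * t * d := by rw [hg]
          _ = Y b * X a * Z c * (t * d) := by unfold el; group
  exact Big.dead ⟨h', hP, maxT, conjX, eps⟩ hG

end Cfsg.Agent.GH.L2.TFour
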