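import Cfsg.Agent.GH.L2.TFourE

/-!
# Project GH, branch GH-L2, case (T4), growth I: a 2-group containing `UT3(4)` whose normaliser of `E` is small
permutes `E` and `F`
-/

set_option autoImplicit false

namespace Cfsg.Agent.GH.L2.TFour

open Subgroup Cfsg.Agent.J2Sylow.Model Tool

variable {G : Type*} [Group G]

/-- normaliser condition in a finite `p`-group -/
theorem exists_norm [Finite G] {p : ℕ} [Fact p.Prime] {S W : Subgroup G} (hS : IsPGroup p S) (hW : W ≤ S)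
    (hne : ¬ S ≤ W) : ∃ g ∈ S, g ∉ W ∧ ∀ w ∈ W, g * w * g⁻¹ ∈ W := by
  have : Group.IsNilpotent S := hS.isNilpotent
  have hlt : W.subgroupOf S < ⊤ := by
    rw [lt_top_iff_ne_top]
    intro h
    exact hne (subgroupOf_eq_top.1 h)
  have h1 := Group.normalizerCondition_of_isNilpotent (G := S) _ hlt
  obtain ⟨g, hg, hgW⟩ := SetLike.exists_of_lt h1
  refine ⟨g, g.2, fun h => hgW (mem_subgroupOf.2 h), fun w hw => ?_⟩
  have h2 := (mem_normalizer_iff.1 hg (⟨w, hW hw⟩ : S)).1 (mem_subgroupOf.2 hw)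
  exact mem_subgroupOf.1 h2

/-- `A ⊓ K` has index at most two in `A` -/
theorem card_le_two [Finite G] {A K : Subgroup G} (h : ∀ a ∈ A, ∀ b ∈ A, a ∉ K → b ∉ K → a * b ∈ K) :
    Nat.card A ≤ 2 * Nat.card (A ⊓ K : Subgroup G) := by
  classical
  by_cases hAK : A ≤ K
  · rw [inf_eq_left.2 hAK]
    have : 0 < Nat.card A := Nat.card_pos
    omega
  obtain ⟨a, ha, haK⟩ := SetLike.not_le_iff_exists.1 hAK
  have hinj : Function.Injective (fun x : A => if hx : (x : G) ∈ K then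
      ((⟨x, mem_inf.2 ⟨x.2, hx⟩⟩ : (A ⊓ K : Subgroup G)), true) else
      ((⟨a * x, mem_inf.2 ⟨mul_mem ha x.2, h a ha x x.2 haK hx⟩⟩ : (A ⊓ K : Subgroup G)), false)) := by
    intro x y hxy
    by_cases hx : (x : G) ∈ K <;> by_cases hy : (y : G) ∈ K
    · simp only [hx, hy, dif_pos] at hxy
      have := congrArg (fun z => ((z.1 : (A ⊓ K : Subgroup G)) : G)) hxy
      exact Subtype.ext this
    · simp only [hx, hy, dif_pos] at hxy
      have := congrArg (fun z => z.2) hxy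
      simp at this
    · simp only [hx, hy, dif_pos] at hxy
      have := congrArg (fun z => z.2) hxy
      simp at this
    · simp only [hx, hy] at hxy
      have := congrArg (fun z => ((z.1 : (A ⊓ K : Subgroup G)) : G)) hxy
      exact Subtype.ext (mul_left_cancel this)
  have h2 := Nat.card_le_card_of_injective _ hinj
  rw [Nat.card_prod, Nat.card_eq_fintype_card (α := Bool), Fintype.card_bool] at h2
  omega

namespace UT

variable {X Y Z : F4 → G} (h : UT X Y Z)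
include h

/-- `g` fixes `E` and `F` -/
def Fx (_h : UT X Y Z) (g : G) : Prop := (∀ x ∈ _h.E, g * x * g⁻¹ ∈ _h.E) ∧ ∀ x ∈ _h.F, g * x * g⁻¹ ∈ _h.F

/-- `g` swaps `E` and `F` -/
def Sw (_h : UT X Y Z) (g : G) : Prop := (∀ x ∈ _h.E, g * x * g⁻¹ ∈ _h.F) ∧ ∀ x ∈ _h.F, g * x * g⁻¹ ∈ _h.E

theorem conj_mul {g k x : G} : g * k * x * (g * k)⁻¹ = g * (k * x * k⁻¹) * g⁻¹ := by group

theorem Fx_Fx {g k : G} (h1 : h.Fx g) (h2 : h.Fx k) : h.Fx (g * k) :=
  ⟨fun x hx => by rw [UT.conj_mul h]; exact h1.1 _ (h2.1 x hx),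
   fun x hx => by rw [UT.conj_mul h]; exact h1.2 _ (h2.2 x hx)⟩

theorem Fx_Sw {g k : G} (h1 : h.Fx g) (h2 : h.Sw k) : h.Sw (g * k) :=
  ⟨fun x hx => by rw [UT.conj_mul h]; exact h1.2 _ (h2.1 x hx),
   fun x hx => by rw [UT.conj_mul h]; exact h1.1 _ (h2.2 x hx)⟩

theorem Sw_Fx {g k : G} (h1 : h.Sw g) (h2 : h.Fx k) : h.Sw (g * k) :=
  ⟨fun x hx => by rw [UT.conj_mul h]; exact h1.1 _ (h2.1 x hx),
   fun x hx => by rw [UT.conj_mul h]; exact h1.2 _ (h2.2 x hx)⟩

theorem Sw_Sw {g k : G} (h1 : h.Sw g) (h2 : h.Sw k) : h.Fx (g * k) :=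
  ⟨fun x hx => by rw [UT.conj_mul h]; exact h1.2 _ (h2.1 x hx),
   fun x hx => by rw [UT.conj_mul h]; exact h1.1 _ (h2.2 x hx)⟩

/-- if `g A g⁻¹ ≤ B` and the orders are equal then `g⁻¹ B g ≤ A` -/
theorem conj_inv_mem [Finite G] {A B : Subgroup G} (hc : Nat.card A = Nat.card B) {g : G}
    (hg : ∀ x ∈ A, g * x * g⁻¹ ∈ B) : ∀ y ∈ B, g⁻¹ * y * g ∈ A := by
  have hle : A.map (MulAut.conj g).toMonoidHom ≤ B := by
    rintro _ ⟨x, hx, rfl⟩
    exact hg x hx
  have heq : A.map (MulAut.conj g).toMonoidHom = B := by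
    apply Subgroup.eq_of_le_of_card_ge hle
    rw [Nat.card_congr (A.equivMapOfInjective _ (MulAut.conj g).injective).toEquiv.symm, hc]
  intro y hy
  rw [← heq, mem_map_conj] at hy
  exact hy

theorem card_EF : Nat.card h.E = Nat.card h.F := by rw [h.card_E, h.card_F]

theorem Fx_inv [Finite G] {g : G} (h1 : h.Fx g) : h.Fx g⁻¹ :=
  ⟨fun x hx => by rw [inv_inv]; exact UT.conj_inv_mem h rfl h1.1 x hx,
   fun x hx => by rw [inv_inv]; exact UT.conj_inv_mem h rfl h1.2 x hx⟩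

theorem Sw_inv [Finite G] {g : G} (h1 : h.Sw g) : h.Sw g⁻¹ :=
  ⟨fun x hx => by rw [inv_inv]; exact UT.conj_inv_mem h h.card_EF.symm h1.2 x hx,
   fun x hx => by rw [inv_inv]; exact UT.conj_inv_mem h h.card_EF h1.1 x hx⟩

theorem Y1_notE : Y 1 ∉ h.E := by
  rintro ⟨a, c, h1⟩
  rw [← h.el_Y] at h1
  obtain ⟨h2, -, -⟩ := h.el_inj h1
  exact absurd h2 (by decide)

theorem X1_notF : X 1 ∉ h.F := by
  rintro ⟨a, c, h1⟩
  rw [← h.el_X] at h1
  obtain ⟨-, h2, -⟩ := h.el_inj h1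
  exact absurd h2 (by decide)

theorem E_ne_F : ¬ h.F ≤ h.E := fun hc => h.Y1_notE (hc ⟨1, 0, (h.el_Y 1).symm⟩)

theorem E_inf_F {x : G} (h1 : x ∈ h.E) (h2 : x ∈ h.F) : x ∈ h.U := by
  obtain ⟨a, c, rfl⟩ := h1
  obtain ⟨b, c', h3⟩ := h2
  obtain ⟨-, h4, -⟩ := h.el_inj h3
  subst h4
  exact ⟨c, h.el_Z c⟩

theorem not_Fx_Sw {g : G} (h1 : h.Fx g) (h2 : h.Sw g) [Finite G] : False := by
  apply h.E_ne_F
  intro y hy
  have h3 := UT.conj_inv_mem h rfl h1.2 y hy
  have h4 := h2.2 _ h3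
  have e : g * (g⁻¹ * y * g) * g⁻¹ = y := by group
  rwa [e] at h4

/-- the subgroup of elements of `S` permuting `E` and `F` -/
def Wg [Finite G] (S : Subgroup G) : Subgroup G where
  carrier := {g | g ∈ S ∧ (h.Fx g ∨ h.Sw g)}
  mul_mem' := by
    rintro g k ⟨hg, h1 | h1⟩ ⟨hk, h2 | h2⟩
    · exact ⟨mul_mem hg hk, Or.inl (h.Fx_Fx h1 h2)⟩
    · exact ⟨mul_mem hg hk, Or.inr (h.Fx_Sw h1 h2)⟩
    · exact ⟨mul_mem hg hk, Or.inr (h.Sw_Fx h1 h2)⟩
    · exact ⟨mul_mem hg hk, Or.inl (h.Sw_Sw h1 h2)⟩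
  one_mem' := ⟨one_mem _, Or.inl ⟨fun x hx => by simpa using hx, fun x hx => by simpa using hx⟩⟩
  inv_mem' := by
    rintro g ⟨hg, h1 | h1⟩
    · exact ⟨inv_mem hg, Or.inl (h.Fx_inv h1)⟩
    · exact ⟨inv_mem hg, Or.inr (h.Sw_inv h1)⟩

theorem mem_Wg [Finite G] {S : Subgroup G} {g : G} : g ∈ h.Wg S ↔ g ∈ S ∧ (h.Fx g ∨ h.Sw g) := Iff.rfl

theorem R_Fx {g : G} (hg : g ∈ h.R) : h.Fx g := by
  obtain ⟨b, a, c, rfl⟩ := hg
  constructor
  · rintro _ ⟨a', c', rfl⟩
    rw [h.el_inv, h.el_mul, h.el_mul]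
    have e : b + 0 + b = 0 := by clear * -; revert b; decide
    rw [e]
    exact ⟨_, _, rfl⟩
  · rintro _ ⟨a', c', rfl⟩
    rw [h.el_inv, h.el_mul, h.el_mul]
    have e : a + 0 + a = 0 := by clear * -; revert a; decide
    rw [e]
    exact ⟨_, _, rfl⟩

/-- a transversal of `R` in the normaliser of `E` in `S`: either `d` does not occur, or `d` acts as Frobenius -/
structure Small (_h : UT X Y Z) (S : Subgroup G) (p : Prop) (d : G) : Prop where
  cov : ∀ s ∈ S, (∀ x ∈ _h.E, s * x * s⁻¹ ∈ _h.E) → s ∈ _h.R ∨ (p ∧ s * d ∈ _h.R)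
  mem : p → d ∈ S
  dd : p → d * d = 1
  dX : p → ∀ a, d * X a = X (F4.fr a) * d
  dY : p → ∀ a, d * Y a = Y (F4.fr a) * d
  dZ : p → ∀ a, d * Z a = Z (F4.fr a) * d

theorem Small.d_el {S : Subgroup G} {p : Prop} {d : G} (hs : Small h S p d) (hd : p) (b a c : F4) :
    d * el X Y Z b a c = el X Y Z (F4.fr b) (F4.fr a) (F4.fr c) * d := by
  unfold el
  calc d * (Y b * X a * Z c) = (d * Y b) * X a * Z c := by group
    _ = Y (F4.fr b) * (d * X a) * Z c := by rw [hs.dY hd]; group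
    _ = Y (F4.fr b) * X (F4.fr a) * (d * Z c) := by rw [hs.dX hd]; group
    _ = _ := by rw [hs.dZ hd]; group

theorem Small.cent [Finite G] {S : Subgroup G} {p : Prop} {d : G} (hs : Small h S p d) (hd : p) {b a c : F4}
    (A : Subgroup G) (hA : A ≤ h.E ∨ A ≤ h.F) (hc : ∀ x ∈ A, el X Y Z b a c * d * x = x * (el X Y Z b a c * d)) :
    Nat.card A ≤ 4 := by
  have hn : ∀ p : F4, Nat.card {q : F4 × F4 // F4.fr q.1 = q.1 ∧ F4.fr q.2 = q.2 + q.1 * p} ≤ 4 := by
    intro p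
    rw [Nat.card_eq_fintype_card]
    revert p
    decide
  rcases hA with hA | hA
  · refine le_trans ?_ (hn b)
    have h1 : ∀ x : A, ∃ q : {q : F4 × F4 // F4.fr q.1 = q.1 ∧ F4.fr q.2 = q.2 + q.1 * b},
        (x : G) = el X Y Z 0 q.1.1 q.1.2 := by
      intro x
      obtain ⟨a', c', hx⟩ := hA x.2
      have h2 := hc x x.2
      rw [hx, mul_assoc, hs.d_el h hd, ← mul_assoc, ← mul_assoc, h.el_mul, h.el_mul] at h2
      obtain ⟨-, h3, h4⟩ := h.el_inj (mul_right_cancel h2)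
      have h5 : F4.fr a' = a' := by
        clear * - h3
        revert a a'
        decide
      refine ⟨⟨(a', c'), h5, ?_⟩, hx⟩
      change F4.fr c' = c' + a' * b
      clear * - h4
      revert c c' a a' b
      decide
    choose f hf using h1
    refine Nat.card_le_card_of_injective f fun x y hxy => Subtype.ext ?_
    rw [hf x, hf y, hxy]
  · refine le_trans ?_ (hn a)
    have h1 : ∀ x : A, ∃ q : {q : F4 × F4 // F4.fr q.1 = q.1 ∧ F4.fr q.2 = q.2 + q.1 * a},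
        (x : G) = el X Y Z q.1.1 0 q.1.2 := by
      intro x
      obtain ⟨a', c', hx⟩ := hA x.2
      have h2 := hc x x.2
      rw [hx, mul_assoc, hs.d_el h hd, ← mul_assoc, ← mul_assoc, h.el_mul, h.el_mul] at h2
      obtain ⟨h3, -, h4⟩ := h.el_inj (mul_right_cancel h2)
      have h5 : F4.fr a' = a' := by
        clear * - h3
        revert b a'
        decide
      refine ⟨⟨(a', c'), h5, ?_⟩, hx⟩
      change F4.fr c' = c' + a' * a
      rw [h5] at h4
      clear * - h4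
      revert c c' a a' b
      decide
    choose f hf using h1
    refine Nat.card_le_card_of_injective f fun x y hxy => Subtype.ext ?_
    rw [hf x, hf y, hxy]

theorem Small.not_cent_U {S : Subgroup G} {p : Prop} {d : G} (hs : Small h S p d) (hd : p) {g : G} (hg : g * d ∈ h.R)
    (hc : ∀ c, g * Z c = Z c * g) : False := by
  have h1 := h.comm_Z hg F4.w
  have h2 : g * d * Z F4.w = Z F4.u * (g * d) := by
    calc g * d * Z F4.w = g * (d * Z F4.w) := by group
      _ = g * (Z F4.u * d) := by rw [hs.dZ hd]; rfl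
      _ = _ := by rw [← mul_assoc, hc, mul_assoc]
  rw [h1] at h2
  exact absurd (h.Z_inj (mul_right_cancel h2)) (by decide)

theorem card_inf_R_le [Finite G] {A : Subgroup G} (hA : A ≤ h.U) : Nat.card A ≤ 4 := by
  have := Subgroup.card_le_of_le hA
  rwa [h.card_U] at this

/-- the only elementary abelian subgroups of order 16 of `W` are `E` and `F` -/
theorem elem_W [Finite G] {S : Subgroup G} {p : Prop} {d : G} (hs : Small h S p d) {A : Subgroup G}
    (hAW : A ≤ h.Wg S) (hsq : ∀ x ∈ A, x * x = 1) (hcard : Nat.card A = 16) : A ≤ h.E ∨ A ≤ h.F := by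
  have hcomm : ∀ x ∈ A, ∀ y ∈ A, x * y = y * x := by
    intro x hx y hy
    have h1 := hsq _ (mul_mem hx hy)
    calc x * y = x * y * (y * x * (y * x)) := by rw [hsq _ (mul_mem hy hx), mul_one]
      _ = x * (y * y) * x * (y * x) := by group
      _ = y * x := by rw [hsq y hy, mul_one, hsq x hx, one_mul]
  have hE : A ⊓ h.R ≤ h.E ∨ A ⊓ h.R ≤ h.F := h.elem_R inf_le_right fun x hx => hsq x hx.1
  have h2d : ∀ a ∈ A ⊓ normalizer (h.E : Set G), ∀ b ∈ A ⊓ normalizer (h.E : Set G), a ∉ h.R → b ∉ h.R →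
      a * b ∈ h.R := by
    intro a ha b hb haR hbR
    have key : ∀ x ∈ A ⊓ normalizer (h.E : Set G), x ∉ h.R → p ∧ x * d ∈ h.R := by
      intro x hx hxR
      refine (hs.cov x (hAW hx.1).1 fun y hy => ?_).resolve_left hxR
      exact (mem_normalizer_iff.1 hx.2 y).1 hy
    obtain ⟨hd, h3⟩ := key a ha haR
    obtain ⟨-, h4⟩ := key b hb hbR
    obtain ⟨b1, a1, c1, h5⟩ := h4
    have h6 : a * b = (a * d) * (d * (b * d) * d) := by
      have hdd := hs.dd hd
      calc a * b = a * (1 : G) * b * 1 := by group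
        _ = a * (d * d) * b * (d * d) := by rw [hdd]
        _ = _ := by group
    rw [h6, h5, hs.d_el h hd, mul_assoc _ d d, hs.dd hd, mul_one]
    exact mul_mem h3 ⟨_, _, _, rfl⟩
  by_cases hsw : ∃ a0 ∈ A, h.Sw a0
  · exfalso
    obtain ⟨a0, ha0, ha0s⟩ := hsw
    have hAU : A ⊓ h.R ≤ h.U := by
      intro x hx
      have h3 : a0 * x * a0⁻¹ = x := by rw [hcomm a0 ha0 x hx.1]; group
      rcases hE with h4 | h4
      · exact h.E_inf_F (h4 hx) (by rw [← h3]; exact ha0s.1 x (h4 hx))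
      · exact h.E_inf_F (by rw [← h3]; exact ha0s.2 x (h4 hx)) (h4 hx)
    have h5 := h.card_inf_R_le hAU
    have h6 : Nat.card A ≤ 2 * Nat.card (A ⊓ normalizer (h.E : Set G) : Subgroup G) := by
      apply card_le_two
      intro a ha b hb haN hbN
      have key : ∀ x ∈ A, x ∉ normalizer (h.E : Set G) → h.Sw x := by
        intro x hx hxN
        refine (hAW hx).2.resolve_left fun h7 => hxN ?_
        rw [mem_normalizer_iff]
        intro y
        refine ⟨fun hy => h7.1 y hy, fun hy => ?_⟩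
        have h8 := UT.conj_inv_mem h rfl h7.1 _ hy
        have e : x⁻¹ * (x * y * x⁻¹) * x = y := by group
        rwa [e] at h8
      have h9 := h.Sw_Sw (key a ha haN) (key b hb hbN)
      rw [mem_normalizer_iff]
      intro y
      refine ⟨fun hy => h9.1 y hy, fun hy => ?_⟩
      have h8 := UT.conj_inv_mem h rfl h9.1 _ hy
      have e : (a * b)⁻¹ * (a * b * y * (a * b)⁻¹) * (a * b) = y := by group
      rwa [e] at h8
    have h7 := card_le_two h2d
    have h8 : Nat.card (A ⊓ normalizer (h.E : Set G) ⊓ h.R : Subgroup G) ≤ Nat.card (A ⊓ h.R : Subgroup G) :=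
      Subgroup.card_le_of_le (le_inf (inf_le_left.trans inf_le_left) inf_le_right)
    -- all of `U` lies in `A`
    have h9 : Nat.card (A ⊓ h.R : Subgroup G) = 4 := by omega
    have h10 : A ⊓ h.R = h.U := by
      apply Subgroup.eq_of_le_of_card_ge hAU
      rw [h9, h.card_U]
    have h11 : ¬ (A ⊓ normalizer (h.E : Set G)) ≤ h.R := by
      intro hc
      have h12 : A ⊓ normalizer (h.E : Set G) ≤ A ⊓ h.R := le_inf inf_le_left hc
      have := Subgroup.card_le_of_le h12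
      omega
    obtain ⟨a1, ha1, ha1R⟩ := SetLike.not_le_iff_exists.1 h11
    obtain ⟨hd, h12⟩ := (hs.cov a1 (hAW ha1.1).1 fun y hy => (mem_normalizer_iff.1 ha1.2 y).1 hy).resolve_left ha1R
    refine hs.not_cent_U h hd h12 fun c => ?_
    have h13 : Z c ∈ A ⊓ h.R := by rw [h10]; exact ⟨c, rfl⟩
    exact hcomm a1 ha1.1 _ h13.1
  · push Not at hsw
    have hAN : A ≤ normalizer (h.E : Set G) := by
      intro x hx
      have h7 := (hAW hx).2.resolve_right (hsw x hx)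
      rw [mem_normalizer_iff]
      intro y
      refine ⟨fun hy => h7.1 y hy, fun hy => ?_⟩
      have h8 := UT.conj_inv_mem h rfl h7.1 _ hy
      have e : x⁻¹ * (x * y * x⁻¹) * x = y := by group
      rwa [e] at h8
    rw [inf_eq_left.2 hAN] at h2d
    by_cases hAR : A ≤ h.R
    · rwa [inf_eq_left.2 hAR] at hE
    · exfalso
      obtain ⟨a1, ha1, ha1R⟩ := SetLike.not_le_iff_exists.1 hAR
      obtain ⟨hd, h12⟩ := (hs.cov a1 (hAW ha1).1 fun y hy => (mem_normalizer_iff.1 (hAN ha1) y).1 hy).resolve_left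
        ha1R
      have h3 := card_le_two h2d
      obtain ⟨b, a, c, h4⟩ := h12
      have h5 : a1 = el X Y Z b a c * d := by rw [← h4, mul_assoc, hs.dd hd, mul_one]
      have h6 := hs.cent h hd (b := b) (a := a) (c := c) (A ⊓ h.R) hE fun x hx => by
        rw [← h5]; exact hcomm a1 ha1 x hx.1
      omega

/-- `S` permutes `E` and `F` -/
theorem growth [Finite G] {S : Subgroup G} (hS : IsPGroup 2 S) (hRS : h.R ≤ S) {p : Prop} {d : G}
    (hs : Small h S p d) :
    ∀ g ∈ S, h.Fx g ∨ h.Sw g := by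
  have : Fact (Nat.Prime 2) := ⟨Nat.prime_two⟩
  by_contra hcon
  push Not at hcon
  obtain ⟨g0, hg0, hg0'⟩ := hcon
  have hRW : h.R ≤ h.Wg S := fun x hx => h.mem_Wg.2 ⟨hRS hx, Or.inl (h.R_Fx hx)⟩
  obtain ⟨g, hg, hgW, hgn⟩ := exists_norm (W := h.Wg S) hS (fun x hx => (h.mem_Wg.1 hx).1)
    (fun hc => by
      rcases (h.mem_Wg.1 (hc hg0)).2 with h1 | h1
      · exact hg0'.1 h1
      · exact hg0'.2 h1)
  have key : ∀ A : Subgroup G, Nat.card A = 16 → (∀ x ∈ A, x * x = 1) → A ≤ h.R →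
      (∀ x ∈ A, g * x * g⁻¹ ∈ h.E) ∨ (∀ x ∈ A, g * x * g⁻¹ ∈ h.F) := by
    intro A hA hsq hAR
    have h1 := h.elem_W hs (A := A.map (MulAut.conj g).toMonoidHom) (by
      rintro _ ⟨x, hx, rfl⟩
      exact hgn x (hRW (hAR hx))) (by
      rintro _ ⟨x, hx, rfl⟩
      exact sq_one_conj (hsq x hx)) (by
      rw [Nat.card_congr (A.equivMapOfInjective _ (MulAut.conj g).injective).toEquiv.symm, hA])
    rcases h1 with h1 | h1
    · exact Or.inl fun x hx => h1 ⟨x, hx, rfl⟩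
    · exact Or.inr fun x hx => h1 ⟨x, hx, rfl⟩
  apply hgW
  refine h.mem_Wg.2 ⟨hg, ?_⟩
  rcases key h.E h.card_E (fun x hx => h.E_sq hx) h.E_le with h1 | h1 <;>
    rcases key h.F h.card_F (fun x hx => h.F_sq hx) h.F_le with h2 | h2
  · exfalso
    apply h.E_ne_F
    intro y hy
    have h3 := h2 y hy
    have h4 := UT.conj_inv_mem h rfl h1 _ h3
    have e : g⁻¹ * (g * y * g⁻¹) * g = y := by group
    rwa [e] at h4
  · exact Or.inl ⟨h1, h2⟩
  · exact Or.inr ⟨h1, h2⟩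
  · exfalso
    apply h.E_ne_F
    intro y hy
    have h3 := h2 y hy
    have h4 := UT.conj_inv_mem h h.card_EF h1 _ h3
    have e : g⁻¹ * (g * y * g⁻¹) * g = y := by group
    rwa [e] at h4

end UT

end Cfsg.Agent.GH.L2.TFour
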