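import Cfsg.Agent.GH.L2.TFourGA

/-!
# Project GH, branch GH-L2, case (T4), growth II: the situation `R` normal
-/

set_option autoImplicit false

namespace Cfsg.Agent.GH.L2.TFour

open Subgroup Cfsg.Agent.J2Sylow.Model Tool

variable {G : Type*} [Group G]

/-- additive injective maps of `F4` -/
theorem F4.lin_or_semi {f : F4 → F4} (hadd : ∀ a b, f (a + b) = f a + f b) (hinj : ∀ a, f a = 0 → a = 0) :
    (∀ a, f a = f 1 * a) ∨ (∀ a, f a = f 1 * F4.fr a) := by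
  have h0 : f 0 = 0 := by
    have := hadd 0 0
    rw [add_zero] at this
    have key : ∀ x : F4, x = x + x → x = 0 := by decide
    exact key _ this
  have hu : f F4.u = f 1 + f F4.w := by
    rw [← hadd]
    rfl
  have h1 : f 1 ≠ 0 := fun hc => absurd (hinj _ hc) (by decide)
  have hw : f F4.w ≠ 0 := fun hc => absurd (hinj _ hc) (by decide)
  have hu' : f 1 + f F4.w ≠ 0 := fun hc => absurd (hinj F4.u (hu.trans hc)) (by decide)
  have key : ∀ p q : F4, p ≠ 0 → q ≠ 0 → p + q ≠ 0 → q = p * F4.w ∨ q = p * F4.u := by decide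
  rcases key _ _ h1 hw hu' with h2 | h2
  · left
    intro a
    cases a
    · exact h0.trans (by clear * -; generalize f 1 = p; revert p; decide)
    · exact (mul_one (f 1)).symm
    · exact h2
    · rw [hu, h2]
      clear * -
      generalize f 1 = p
      revert p
      decide
  · right
    intro a
    cases a
    · exact h0.trans (by clear * -; generalize f 1 = p; revert p; decide)
    · exact (mul_one (f 1)).symm
    · exact h2
    · rw [hu, h2]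
      clear * -
      generalize f 1 = p
      revert p
      decide

theorem F4.dich {f : F4 → F4} (hadd : ∀ a b, f (a + b) = f a + f b) (hinj : ∀ a, f a = 0 → a = 0) :
    (∀ a, f (F4.w * a) = F4.w * f a) ∨ (∀ a, f (F4.w * a) = F4.u * f a) := by
  rcases F4.lin_or_semi hadd hinj with h1 | h1
  · left
    intro a
    rw [h1 (F4.w * a), h1 a]
    ring
  · right
    intro a
    rw [h1 (F4.w * a), h1 a]
    clear * -
    generalize f 1 = p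
    revert p a
    decide

/-- the odd part of the order -/
theorem exists_odd_pow [Finite G] (g : G) : ∃ k, Odd k ∧ IsPGroup 2 (zpowers (g ^ k)) := by
  have h0 : orderOf g ≠ 0 := (orderOf_pos g).ne'
  obtain ⟨e, k, hk, he⟩ := Nat.exists_eq_two_pow_mul_odd h0
  refine ⟨k, hk, ?_⟩
  have h1 : (g ^ k) ^ 2 ^ e = 1 := by
    rw [← pow_mul, mul_comm, ← he, pow_orderOf_eq_one]
  rintro ⟨x, hx⟩
  obtain ⟨n, rfl⟩ := mem_zpowers_iff.1 hx
  refine ⟨e, Subtype.ext ?_⟩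
  change ((g ^ k) ^ n) ^ 2 ^ e = 1
  rw [← zpow_natCast, ← zpow_mul, mul_comm, zpow_mul, zpow_natCast, h1, one_zpow]

/-- maximal `p`-subgroups -/
theorem exists_max [Finite G] {p : ℕ} [Fact p.Prime] {H A : Subgroup G} (hA : IsPGroup p A) (hAH : A ≤ H) :
    ∃ P : Subgroup G, A ≤ P ∧ P ≤ H ∧ IsPGroup p P ∧
      ∀ T : Subgroup G, IsPGroup p T → P ≤ T → T ≤ H → Nat.card T ≤ Nat.card P := by
  have hA' : IsPGroup p (A.subgroupOf H) := hA.comap_subtype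
  obtain ⟨S1, hS1⟩ := hA'.exists_le_sylow
  refine ⟨(S1 : Subgroup H).map H.subtype, fun x hx => ⟨⟨x, hAH hx⟩, hS1 (mem_subgroupOf.mpr hx), rfl⟩, ?_,
    S1.isPGroup'.map _, ?_⟩
  · rintro _ ⟨y, -, rfl⟩
    exact y.2
  · intro T hT hle hTH
    have h1 : (S1 : Subgroup H) ≤ T.subgroupOf H := fun x hx => mem_subgroupOf.2 (hle ⟨x, hx, rfl⟩)
    have h2 := S1.is_maximal' (hT.comap_subtype (K := H)) h1
    have h3 : T ≤ (S1 : Subgroup H).map H.subtype := fun x hx =>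
      ⟨⟨x, hTH hx⟩, by rw [← h2]; exact mem_subgroupOf.2 hx, rfl⟩
    exact Subgroup.card_le_of_le h3

namespace UT

variable {X Y Z : F4 → G} (h : UT X Y Z)
include h

theorem exists_gam {g : G} (hg : h.Fx g ∨ h.Sw g) (c : F4) : ∃ c', g * Z c * g⁻¹ = Z c' := by
  have hE : Z c ∈ h.E := h.U_le_E ⟨c, rfl⟩
  have hF : Z c ∈ h.F := h.U_le_F ⟨c, rfl⟩
  rcases hg with h1 | h1
  · exact h.E_inf_F (h1.1 _ hE) (h1.2 _ hF)
  · exact h.E_inf_F (h1.2 _ hF) (h1.1 _ hE)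

/-- all elements permute `E` and `F` if `R` is normal -/
theorem Fx_or_Sw [Finite G] (hN : h.R.Normal) (g : G) : h.Fx g ∨ h.Sw g := by
  have key : ∀ A : Subgroup G, (∀ x ∈ A, x * x = 1) → A ≤ h.R →
      (∀ x ∈ A, g * x * g⁻¹ ∈ h.E) ∨ (∀ x ∈ A, g * x * g⁻¹ ∈ h.F) := by
    intro A hsq hAR
    rcases h.elem_R (A := A.map (MulAut.conj g).toMonoidHom) (by
      rintro _ ⟨x, hx, rfl⟩
      exact hN.conj_mem x (hAR hx) g) (by
      rintro _ ⟨x, hx, rfl⟩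
      exact sq_one_conj (hsq x hx)) with h1 | h1
    · exact Or.inl fun x hx => h1 ⟨x, hx, rfl⟩
    · exact Or.inr fun x hx => h1 ⟨x, hx, rfl⟩
  rcases key h.E (fun x hx => h.E_sq hx) h.E_le with h1 | h1 <;>
    rcases key h.F (fun x hx => h.F_sq hx) h.F_le with h2 | h2
  · exfalso
    apply h.E_ne_F
    intro y hy
    have h3 := h2 y hy
    have h4 := UT.conj_inv_mem h rfl h1 _ h3
    have e : g⁻¹ * (g * y * g⁻¹) * g = y := by group
    rwa [e] at h4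
  · exact Or.inl ⟨h1, h2⟩
  · exact Or.inr ⟨h1, h2⟩
  · exfalso
    apply h.E_ne_F
    intro y hy
    have h3 := h2 y hy
    have h4 := UT.conj_inv_mem h h.card_EF h1 _ h3
    have e : g⁻¹ * (g * y * g⁻¹) * g = y := by group
    rwa [e] at h4

/-- linear on `U` -/
def Lin (_h : UT X Y Z) (g : G) : Prop := ∀ c c', g * Z c * g⁻¹ = Z c' → g * Z (F4.w * c) * g⁻¹ = Z (F4.w * c')

/-- semilinear on `U` -/
def Sem (_h : UT X Y Z) (g : G) : Prop := ∀ c c', g * Z c * g⁻¹ = Z c' → g * Z (F4.w * c) * g⁻¹ = Z (F4.u * c')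

theorem lin_or_sem {g : G} (hg : h.Fx g ∨ h.Sw g) : h.Lin g ∨ h.Sem g := by
  choose f hf using fun c => h.exists_gam hg c
  have hadd : ∀ a b, f (a + b) = f a + f b := by
    intro a b
    apply h.Z_inj
    rw [← hf, ← h.ZZ, ← h.ZZ, ← hf, ← hf]
    group
  have hinj : ∀ a, f a = 0 → a = 0 := by
    intro a ha
    apply h.Z_ne
    have h1 := hf a
    rw [ha, h.Z0] at h1
    calc Z a = g⁻¹ * (g * Z a * g⁻¹) * g := by group
      _ = 1 := by rw [h1]; group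
  rcases F4.dich hadd hinj with h1 | h1
  · left
    intro c c' hc
    rw [hf] at hc
    rw [hf, h1, h.Z_inj hc]
  · right
    intro c c' hc
    rw [hf] at hc
    rw [hf, h1, h.Z_inj hc]

theorem Lin_Lin {g k : G} (hk : h.Fx k ∨ h.Sw k) (h1 : h.Lin g) (h2 : h.Lin k) : h.Lin (g * k) := by
  intro c c' hc
  obtain ⟨c1, hc1⟩ := h.exists_gam hk c
  rw [UT.conj_mul h] at hc ⊢
  rw [hc1] at hc
  rw [h2 c c1 hc1, h1 _ _ hc]

theorem Sem_Sem {g k : G} (hk : h.Fx k ∨ h.Sw k) (h1 : h.Sem g) (h2 : h.Sem k) (hg : h.Fx g ∨ h.Sw g) :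
    h.Lin (g * k) := by
  intro c c' hc
  obtain ⟨c1, hc1⟩ := h.exists_gam hk c
  rw [UT.conj_mul h] at hc ⊢
  rw [hc1] at hc
  rw [h2 c c1 hc1]
  obtain ⟨c2, hc2⟩ := h.exists_gam hg c1
  have h3 := h1 _ _ hc
  have h4 := h1 _ _ h3
  have e1 : F4.w * (F4.w * c1) = F4.u * c1 := by clear * -; revert c1; decide
  have e2 : F4.u * (F4.u * c') = F4.w * c' := by clear * -; revert c'; decide
  rwa [e1, e2] at h4

theorem Lin_inv [Finite G] {g : G} (hg : h.Fx g ∨ h.Sw g) (h1 : h.Lin g) : h.Lin g⁻¹ := by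
  intro c c' hc
  rw [inv_inv] at hc ⊢
  have h2 : g * Z c' * g⁻¹ = Z c := by rw [← hc]; group
  have h3 := h1 _ _ h2
  rw [← h3]
  group

theorem Sem_inv [Finite G] {g : G} (hg : h.Fx g ∨ h.Sw g) (h1 : h.Sem g) : h.Sem g⁻¹ := by
  intro c c' hc
  rw [inv_inv] at hc ⊢
  have h2 : g * Z c' * g⁻¹ = Z c := by rw [← hc]; group
  have h3 := h1 _ _ h2
  have h4 := h1 _ _ h3
  have e1 : F4.w * (F4.w * c') = F4.u * c' := by clear * -; revert c'; decide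
  have e2 : F4.u * (F4.u * c) = F4.w * c := by clear * -; revert c; decide
  rw [e1, e2] at h4
  rw [← h4]
  group

theorem not_Lin_Sem {g : G} (hg : h.Fx g ∨ h.Sw g) (h1 : h.Lin g) (h2 : h.Sem g) : False := by
  obtain ⟨c, hc⟩ := h.exists_gam hg 1
  have h3 := h1 _ _ hc
  have h4 := h2 _ _ hc
  rw [h3] at h4
  have h5 := h.Z_inj h4
  have h6 : c = 0 := by
    clear * - h5
    revert c
    decide
  rw [h6, h.Z0] at hc
  refine h.Z1 1 (by decide) ?_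
  calc Z 1 = g⁻¹ * (g * Z 1 * g⁻¹) * g := by group
    _ = 1 := by rw [hc]; group

theorem Lin_Sem {g k : G} (hk : h.Fx k ∨ h.Sw k) (h1 : h.Lin g) (h2 : h.Sem k) (hg : h.Fx g ∨ h.Sw g) :
    h.Sem (g * k) := by
  intro c c' hc
  obtain ⟨c1, hc1⟩ := h.exists_gam hk c
  rw [UT.conj_mul h] at hc ⊢
  rw [hc1] at hc
  rw [h2 c c1 hc1]
  have h3 := h1 _ _ (h1 _ _ hc)
  have e1 : F4.w * (F4.w * c1) = F4.u * c1 := by clear * -; revert c1; decide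
  have e2 : F4.w * (F4.w * c') = F4.u * c' := by clear * -; revert c'; decide
  rwa [e1, e2] at h3

theorem Sem_Lin {g k : G} (hk : h.Fx k ∨ h.Sw k) (h1 : h.Sem g) (h2 : h.Lin k) : h.Sem (g * k) := by
  intro c c' hc
  obtain ⟨c1, hc1⟩ := h.exists_gam hk c
  rw [UT.conj_mul h] at hc ⊢
  rw [hc1] at hc
  rw [h2 c c1 hc1, h1 _ _ hc]

theorem Lin_one : h.Lin 1 := by
  intro c c' hc
  have h1 : Z c = Z c' := by rw [← hc]; group
  rw [h.Z_inj h1]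
  group

theorem Fx_one : h.Fx 1 := ⟨fun x hx => by simpa using hx, fun x hx => by simpa using hx⟩

/-- elements of `R` -/
theorem Lin_R {g : G} (hg : g ∈ h.R) : h.Lin g := by
  intro c c' hc
  rw [h.comm_Z hg, mul_inv_cancel_right] at hc ⊢
  rw [h.Z_inj hc]

/-- the normal subgroup `H` -/
def HH [Finite G] : Subgroup G where
  carrier := {g | h.Fx g ∧ h.Lin g}
  mul_mem' := by
    rintro g k ⟨h1, h2⟩ ⟨h3, h4⟩
    exact ⟨h.Fx_Fx h1 h3, h.Lin_Lin (Or.inl h3) h2 h4⟩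
  one_mem' := ⟨h.Fx_one, h.Lin_one⟩
  inv_mem' := by
    rintro g ⟨h1, h2⟩
    exact ⟨h.Fx_inv h1, h.Lin_inv (Or.inl h1) h2⟩

theorem mem_HH [Finite G] {g : G} : g ∈ h.HH ↔ h.Fx g ∧ h.Lin g := Iff.rfl

theorem R_le_HH [Finite G] : h.R ≤ h.HH := fun _ hx => ⟨h.R_Fx hx, h.Lin_R hx⟩

theorem HH_conj [Finite G] (hN : h.R.Normal) {g n : G} (hg : g ∈ h.HH) : n * g * n⁻¹ ∈ h.HH := by
  obtain ⟨h1, h2⟩ := hg
  have hn := h.Fx_or_Sw hN n
  have hni : h.Fx n⁻¹ ∨ h.Sw n⁻¹ := h.Fx_or_Sw hN n⁻¹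
  constructor
  · rcases hn with h3 | h3
    · exact h.Fx_Fx (h.Fx_Fx h3 h1) (h.Fx_inv h3)
    · exact h.Sw_Sw (h.Sw_Fx h3 h1) (h.Sw_inv h3)
  · have hng : h.Fx (n * g) ∨ h.Sw (n * g) := h.Fx_or_Sw hN _
    rcases h.lin_or_sem hn with h3 | h3
    · exact h.Lin_Lin hni (h.Lin_Lin (Or.inl h1) h3 h2) (h.Lin_inv hn h3)
    · exact h.Sem_Sem hni (h.Sem_Lin (Or.inl h1) h3 h2) (h.Sem_inv hn h3) hng

theorem HH_sq [Finite G] (hN : h.R.Normal) (g : G) : g * g ∈ h.HH := by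
  have hg := h.Fx_or_Sw hN g
  constructor
  · rcases hg with h3 | h3
    · exact h.Fx_Fx h3 h3
    · exact h.Sw_Sw h3 h3
  · rcases h.lin_or_sem hg with h3 | h3
    · exact h.Lin_Lin hg h3 h3
    · exact h.Sem_Sem hg h3 h3 hg

theorem HH_comm [Finite G] (hN : h.R.Normal) (a b : G) : a * b * a⁻¹ * b⁻¹ ∈ h.HH := by
  have e : a * b * a⁻¹ * b⁻¹ = (a * b) * (a * b) * (b⁻¹ * (a * a)⁻¹ * b⁻¹⁻¹) * (b * b)⁻¹ := by group
  rw [e]
  exact mul_mem (mul_mem (h.HH_sq hN _) (h.HH_conj hN (inv_mem (h.HH_sq hN _)))) (inv_mem (h.HH_sq hN _))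

/-- the data for the frame -/
structure Fr (_h : UT X Y Z) (S : Subgroup G) (ρ : G) : Prop where
  nrm : _h.R.Normal
  pg : IsPGroup 2 S
  syl : ∀ T : Subgroup G, IsPGroup 2 T → ∃ n : G, ∀ x ∈ T, n * x * n⁻¹ ∈ S
  small : ∀ s ∈ S, _h.Fx s → _h.Lin s → s ∈ _h.R
  sw : ∃ s ∈ S, _h.Sw s
  ρ3 : IsPGroup 3 (zpowers ρ)
  ρX : ∀ a, ρ * X a * ρ⁻¹ = X a
  ρY : ∀ a, ρ * Y a * ρ⁻¹ = Y (F4.w * a)
  ρZ : ∀ a, ρ * Z a * ρ⁻¹ = Z (F4.w * a)

/-- the output -/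
structure Out (_h : UT X Y Z) (S : Subgroup G) (ρ : G) (P T : Subgroup G) : Prop where
  p3 : IsPGroup 3 P
  ρP : ρ ∈ P
  PH : ∀ x ∈ P, _h.Fx x ∧ _h.Lin x
  tn : ∀ t ∈ T, ∀ x ∈ P, t * x * t⁻¹ ∈ P
  t2 : ∀ t ∈ T, t * t = 1
  tH : ∀ t ∈ T, _h.Fx t → _h.Lin t → t = 1
  typ : ∀ n : G, ∃ t ∈ T, _h.Fx (t * n⁻¹) ∧ _h.Lin (t * n⁻¹)
  syl : ∃ n : G, ∀ g, n⁻¹ * g * n ∈ S ↔ ∃ t ∈ T, g * t⁻¹ ∈ _h.R

theorem two_el [Finite G] {S : Subgroup G} {ρ : G} (D : Fr h S ρ) {g : G} (hg : g ∈ h.HH)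
    (h2 : IsPGroup 2 (zpowers g)) : g ∈ h.R := by
  obtain ⟨n, hn⟩ := D.syl _ h2
  have h3 := hn g (mem_zpowers g)
  obtain ⟨h4, h5⟩ := h.HH_conj D.nrm (n := n) hg
  have h6 := D.nrm.conj_mem _ (D.small _ h3 h4 h5) n⁻¹
  have e : n⁻¹ * (n * g * n⁻¹) * n⁻¹⁻¹ = g := by group
  rwa [e] at h6

theorem ρ_el {S : Subgroup G} {ρ : G} (D : Fr h S ρ) (b a c : F4) :
    ρ * el X Y Z b a c * ρ⁻¹ = el X Y Z (F4.w * b) a (F4.w * c) := by
  unfold el
  calc ρ * (Y b * X a * Z c) * ρ⁻¹ = (ρ * Y b * ρ⁻¹) * (ρ * X a * ρ⁻¹) * (ρ * Z c * ρ⁻¹) := by group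
    _ = _ := by rw [D.ρX, D.ρY, D.ρZ]

theorem ρ_HH [Finite G] {S : Subgroup G} {ρ : G} (D : Fr h S ρ) : ρ ∈ h.HH := by
  refine ⟨⟨?_, ?_⟩, ?_⟩
  · rintro _ ⟨a, c, rfl⟩
    rw [h.ρ_el D]
    exact ⟨_, _, rfl⟩
  · rintro _ ⟨a, c, rfl⟩
    rw [h.ρ_el D]
    exact ⟨_, _, rfl⟩
  · intro c c' hc
    rw [D.ρZ] at hc ⊢
    rw [← h.Z_inj hc]

/-- `C_R(ρ) = {X a}` -/
theorem cent_ρ {S : Subgroup G} {ρ : G} (D : Fr h S ρ) {g : G} (hg : g ∈ h.R) (hc : ρ * g * ρ⁻¹ = g) :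
    ∃ a, g = X a := by
  obtain ⟨b, a, c, rfl⟩ := hg
  rw [h.ρ_el D] at hc
  obtain ⟨h1, -, h2⟩ := h.el_inj hc
  have key : ∀ x : F4, F4.w * x = x → x = 0 := by decide
  refine ⟨a, ?_⟩
  rw [key b h1, key c h2, h.el_X]

theorem exists_out [Finite G] {S : Subgroup G} {ρ : G} (D : Fr h S ρ) : ∃ P T : Subgroup G, Out h S ρ P T := by
  have : Fact (Nat.Prime 2) := ⟨Nat.prime_two⟩
  have : Fact (Nat.Prime 3) := ⟨Nat.prime_three⟩
  obtain ⟨P, hρP, hPH, hP3, hPmax⟩ := exists_max (H := h.HH) D.ρ3 (by rw [zpowers_le]; exact h.ρ_HH D)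
  -- the normaliser of `P`
  let M : Subgroup G := normalizer (P : Set G)
  have mM : ∀ m, m ∈ M ↔ ∀ x ∈ P, m * x * m⁻¹ ∈ P := by
    intro m
    constructor
    · intro hm x hx
      exact (mem_normalizer_iff.1 hm x).1 hx
    · intro hm
      refine mem_normalizer_iff.2 fun x => ⟨fun hx => hm x hx, fun hx => ?_⟩
      have h1 := UT.conj_inv_mem h (A := P) (B := P) rfl hm _ hx
      have e : m⁻¹ * (m * x * m⁻¹) * m = x := by group
      rwa [e] at h1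
  -- Frattini
  have frat : ∀ n : G, ∃ k ∈ h.HH, k * n ∈ M := by
    intro n
    obtain ⟨k, hk, hkP⟩ := conj_into_max (D := h.HH) (M := P) (P := P.map (MulAut.conj n).toMonoidHom) hPH hP3
      hPmax (isPGroup_conj hP3 n) (by
        rintro _ ⟨x, hx, rfl⟩
        exact h.HH_conj D.nrm (hPH hx))
    refine ⟨k, hk, (mM _).2 fun x hx => ?_⟩
    have h1 := hkP _ ⟨x, hx, rfl⟩
    have e : k * n * x * (k * n)⁻¹ = k * (n * x * n⁻¹) * k⁻¹ := by group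
    rw [e]
    exact h1
  obtain ⟨T, -, hTM, hT2, hTmax⟩ := exists_max (H := M) (A := ⊥) (p := 2) (by
    intro x
    exact ⟨0, Subsingleton.elim _ _⟩) bot_le
  have hρP' : ρ ∈ P := hρP (mem_zpowers ρ)
  -- a swapping element of `M`
  obtain ⟨m, hmM, hmS⟩ : ∃ m ∈ M, h.Sw m := by
    obtain ⟨s, -, hs⟩ := D.sw
    obtain ⟨k, hk, hkM⟩ := frat s
    exact ⟨_, hkM, h.Fx_Sw hk.1 hs⟩
  -- `T ∩ H = 1`
  have hTH : ∀ t ∈ T, t ∈ h.HH → t = 1 := by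
    intro t ht htH
    have htR : t ∈ h.R := h.two_el D htH (IsPGroup.to_le hT2 (by rw [zpowers_le]; exact ht))
    have htP : ∀ x ∈ P, x * t * x⁻¹ = t := by
      intro x hx
      have h1 : t * x * t⁻¹ * x⁻¹ ∈ P := mul_mem ((mM t).1 (hTM ht) x hx) (inv_mem hx)
      have h2 : t * x * t⁻¹ * x⁻¹ ∈ h.R := by
        have e : t * x * t⁻¹ * x⁻¹ = t * (x * t⁻¹ * x⁻¹) := by group
        rw [e]
        exact mul_mem htR (D.nrm.conj_mem _ (inv_mem htR) x)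
      have h3 : t * x * t⁻¹ * x⁻¹ = 1 := by
        -- a 3-element of a 2-group
        have h4 : IsPGroup 2 h.R := by
          intro y
          refine ⟨2, Subtype.ext ?_⟩
          obtain ⟨b, a, c, hy⟩ := y.2
          have h5 : (y : G) * y = Z (a * b) := by rw [hy, h.el_sq]
          have h6 : (y : G) ^ 2 ^ 2 = (y * y) * (y * y) := by
            have h7 : (y : G) ^ 2 ^ 2 = ((y : G) ^ 2) ^ 2 := by rw [← pow_mul]; norm_num
            rw [h7, pow_two, pow_two]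
          change (y : G) ^ 2 ^ 2 = 1
          rw [h6, h5, h.Zsq]
        obtain ⟨i, hi⟩ := h4 ⟨_, h2⟩
        obtain ⟨j, hj⟩ := hP3 ⟨_, h1⟩
        have hi' : (t * x * t⁻¹ * x⁻¹) ^ 2 ^ i = 1 := congrArg Subtype.val hi
        have hj' : (t * x * t⁻¹ * x⁻¹) ^ 3 ^ j = 1 := congrArg Subtype.val hj
        have h8 : orderOf (t * x * t⁻¹ * x⁻¹) ∣ Nat.gcd (2 ^ i) (3 ^ j) :=
          Nat.dvd_gcd (orderOf_dvd_of_pow_eq_one hi') (orderOf_dvd_of_pow_eq_one hj')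
        have h9 : Nat.gcd (2 ^ i) (3 ^ j) = 1 := Nat.Coprime.pow i j (by norm_num)
        rw [h9, Nat.dvd_one, orderOf_eq_one_iff] at h8
        exact h8
      calc x * t * x⁻¹ = (t * x * t⁻¹ * x⁻¹)⁻¹ * t := by group
        _ = t := by rw [h3]; group
    obtain ⟨a, ha⟩ := h.cent_ρ D htR (htP ρ hρP')
    have h4 := htP _ ((mM m).1 hmM ρ hρP')
    have h5 : ρ * (m⁻¹ * t * m) * ρ⁻¹ = m⁻¹ * t * m := by
      calc ρ * (m⁻¹ * t * m) * ρ⁻¹ = m⁻¹ * (m * ρ * m⁻¹ * t * (m * ρ * m⁻¹)⁻¹) * m := by group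
        _ = _ := by rw [h4]
    have h6 : m⁻¹ * t * m ∈ h.R := by
      have := D.nrm.conj_mem _ htR m⁻¹
      rwa [inv_inv] at this
    obtain ⟨a', ha'⟩ := h.cent_ρ D h6 h5
    have h7 : t ∈ h.F := by
      have h8 := hmS.1 (X a') ⟨a', 0, (h.el_X a').symm⟩
      have e : m * X a' * m⁻¹ = t := by rw [← ha']; group
      rwa [e] at h8
    have h9 : a = 0 := by
      rw [ha] at h7
      obtain ⟨b, c, h10⟩ := h7
      rw [← h.el_X] at h10
      exact (h.el_inj h10).2.1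
    rw [ha, h9, h.X0]
  have htyp : ∀ n : G, ∃ t ∈ T, t * n⁻¹ ∈ h.HH := by
    intro n
    obtain ⟨k0, hk0, hm0⟩ := frat n
    obtain ⟨k, hkodd, hk2⟩ := exists_odd_pow (k0 * n)
    obtain ⟨c, hc, hcT⟩ := conj_into_max (D := M) (M := T) (P := zpowers ((k0 * n) ^ k)) hTM hT2 hTmax hk2 (by
      rw [zpowers_le]
      exact pow_mem hm0 k)
    refine ⟨c * (k0 * n) ^ k * c⁻¹, hcT _ (mem_zpowers _), ?_⟩
    obtain ⟨j, hj⟩ := hkodd
    have h1 : c * (k0 * n) ^ k * c⁻¹ * n⁻¹ =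
        (c * (k0 * n) ^ k * c⁻¹ * ((k0 * n) ^ k)⁻¹) * ((k0 * n) * (k0 * n)) ^ j * k0 := by
      have e : (k0 * n) ^ k = ((k0 * n) * (k0 * n)) ^ j * (k0 * n) := by
        rw [hj, pow_succ, ← pow_two, ← pow_mul]
      have e2 : ((k0 * n) ^ k)⁻¹ * ((k0 * n) * (k0 * n)) ^ j * k0 = n⁻¹ := by
        rw [e]; group
      rw [← e2]
      group
    rw [h1]
    exact mul_mem (mul_mem (h.HH_comm D.nrm _ _) (pow_mem (h.HH_sq D.nrm _) j)) hk0
  refine ⟨P, T, ?_⟩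
  have ht2 : ∀ t ∈ T, t * t = 1 := fun t ht => hTH _ (mul_mem ht ht) (h.HH_sq D.nrm t)
  have hRT2 : IsPGroup 2 (h.R ⊔ T : Subgroup G) := by
    have hR2 : IsPGroup 2 h.R := by
      intro y
      refine ⟨2, Subtype.ext ?_⟩
      obtain ⟨b, a, c, hy⟩ := y.2
      have h5 : (y : G) * y = Z (a * b) := by rw [hy, h.el_sq]
      have h6 : (y : G) ^ 2 ^ 2 = (y * y) * (y * y) := by
        have h7 : (y : G) ^ 2 ^ 2 = ((y : G) ^ 2) ^ 2 := by rw [← pow_mul]; norm_num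
        rw [h7, pow_two, pow_two]
      change (y : G) ^ 2 ^ 2 = 1
      rw [h6, h5, h.Zsq]
    have := D.nrm
    exact IsPGroup.to_sup_of_normal_left hR2 hT2
  refine ⟨hP3, hρP', fun x hx => hPH hx, fun t ht x hx => (mM t).1 (hTM ht) x hx, ht2,
    fun t ht h1 h2 => hTH t ht ⟨h1, h2⟩, fun n => ?_, ?_⟩
  · obtain ⟨t, ht, h1⟩ := htyp n
    exact ⟨t, ht, h1⟩
  · obtain ⟨n, hn⟩ := D.syl _ hRT2
    refine ⟨n⁻¹, fun g => ?_⟩
    rw [inv_inv]
    constructor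
    · intro hg
      obtain ⟨t, ht, h1⟩ := htyp g
      refine ⟨t, ht, ?_⟩
      have h2 : g * t⁻¹ ∈ h.HH := by
        have := inv_mem h1
        rwa [mul_inv_rev, inv_inv] at this
      have h3 : n * (g * t⁻¹) * n⁻¹ ∈ S := by
        have e : n * (g * t⁻¹) * n⁻¹ = (n * g * n⁻¹) * (n * t * n⁻¹)⁻¹ := by group
        rw [e]
        exact mul_mem hg (inv_mem (hn t (mem_sup_right ht)))
      obtain ⟨h4, h5⟩ := h.HH_conj D.nrm (n := n) h2
      have h6 := D.nrm.conj_mem _ (D.small _ h3 h4 h5) n⁻¹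
      have e : n⁻¹ * (n * (g * t⁻¹) * n⁻¹) * n⁻¹⁻¹ = g * t⁻¹ := by group
      rwa [e] at h6
    · rintro ⟨t, ht, h1⟩
      have e : g = (g * t⁻¹) * t := by group
      rw [e]
      exact hn _ (mul_mem (mem_sup_left h1) (mem_sup_right ht))

end UT

end Cfsg.Agent.GH.L2.TFour
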