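import Cfsg.Agent.GH.L2.TFourGB

/-!
# Project GH, branch GH-L2, case (T4), growth III: new coordinates
-/

set_option autoImplicit false

namespace Cfsg.Agent.GH.L2.TFour

open Subgroup Cfsg.Agent.J2Sylow.Model Tool

variable {G : Type*} [Group G]

theorem F4.add_surj {f : F4 → F4} (hadd : ∀ a b, f (a + b) = f a + f b) (hinj : ∀ a, f a = 0 → a = 0) :
    Function.Surjective f := by
  apply Finite.surjective_of_injective
  intro a b hab
  apply F4.eq_of_add
  apply hinj
  rw [hadd, hab, F4.add_self]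

namespace UT

variable {X Y Z : F4 → G} (h : UT X Y Z)
include h

/-- the images of `X` under a swapping involution -/
theorem exists_phi {t : G} (tt : t * t = 1) (ht : h.Sw t) : ∃ f g : F4 → F4,
    (∀ b, t * X b * t = Y (f b) * Z (g b)) ∧ (∀ a b, f (a + b) = f a + f b) ∧ (∀ a, f a = 0 → a = 0) := by
  have hti : t⁻¹ = t := inv_eq_iff_mul_eq_one.mpr tt
  have h1 : ∀ b, ∃ q : F4 × F4, t * X b * t = Y q.1 * Z q.2 := by
    intro b
    obtain ⟨p, q, hpq⟩ := ht.1 (X b) ⟨b, 0, (h.el_X b).symm⟩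
    rw [hti] at hpq
    refine ⟨(p, q), ?_⟩
    rw [hpq]
    unfold el
    rw [h.X0, mul_one]
  choose q hq using h1
  have hmul : ∀ a b, Y (q (a + b)).1 * Z (q (a + b)).2 = Y ((q a).1 + (q b).1) * Z ((q a).2 + (q b).2) := by
    intro a b
    rw [← hq, ← h.XX]
    calc t * (X a * X b) * t = (t * X a * t⁻¹) * (t * X b * t) := by group
      _ = Y (q a).1 * Z (q a).2 * (Y (q b).1 * Z (q b).2) := by rw [hti, hq, hq]
      _ = Y (q a).1 * (Z (q a).2 * Y (q b).1) * Z (q b).2 := by group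
      _ = (Y (q a).1 * Y (q b).1) * (Z (q a).2 * Z (q b).2) := by rw [h.ZY]; group
      _ = _ := by rw [h.YY, h.ZZ]
  refine ⟨fun b => (q b).1, fun b => (q b).2, hq, fun a b => ?_, fun a ha => ?_⟩
  · have h2 := hmul a b
    have e : ∀ p r, Y p * Z r = el X Y Z p 0 r := by
      intro p r
      unfold el
      rw [h.X0, mul_one]
    rw [e, e] at h2
    exact (h.el_inj h2).1
  · have h2 : t * X a * t ∈ h.U := by
      rw [hq]
      change (q a).1 = 0 at ha
      rw [ha, h.Y0, one_mul]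
      exact ⟨_, rfl⟩
    -- `X a = t (..) t ∈ U`
    have h3 : X a ∈ h.F := by
      have h4 := ht.1 _ (h.U_le_E h2)
      have e : t * (t * X a * t) * t⁻¹ = X a := by
        rw [hti]
        calc t * (t * X a * t) * t = (t * t) * X a * (t * t) := by group
          _ = X a := by rw [tt, one_mul, mul_one]
      rwa [e] at h4
    obtain ⟨b, c, h5⟩ := h3
    rw [← h.el_X] at h5
    exact (h.el_inj h5).2.1

/-- change of coordinates: `Y' b = Y (l * b) * Z (..)`, `Z' c = Z (l * c)` -/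
theorem change {l : F4} (hl : l ≠ 0) {Y' : F4 → G} {g : F4 → F4} (hY' : ∀ b, Y' b = Y (l * b) * Z (g b))
    (hYY : ∀ a b, Y' a * Y' b = Y' (a + b)) : UT X Y' (fun c => Z (l * c)) where
  XX := h.XX
  YY := hYY
  ZZ := fun a b => by
    change Z (l * a) * Z (l * b) = Z (l * (a + b))
    rw [h.ZZ, mul_add]
  XY := fun a b => by
    change X a * Y' b = Y' b * (X a * Z (l * (a * b)))
    rw [hY']
    calc X a * (Y (l * b) * Z (g b)) = (X a * Y (l * b)) * Z (g b) := by group
      _ = Y (l * b) * X a * (Z (a * (l * b)) * Z (g b)) := by rw [h.XY]; group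
      _ = Y (l * b) * (X a * Z (g b)) * Z (a * (l * b)) := by rw [h.ZZ, add_comm, ← h.ZZ]; group
      _ = Y (l * b) * Z (g b) * (X a * Z (a * (l * b))) := by rw [← h.ZX]; group
      _ = _ := by
        congr 3
        ring
  ZX := fun c a => h.ZX _ a
  ZY := fun c b => by
    change Z (l * c) * Y' b = Y' b * Z (l * c)
    rw [hY', ← mul_assoc, h.ZY, mul_assoc, h.ZZ, add_comm, ← h.ZZ, mul_assoc]
  Z1 := fun a ha => h.Z1 _ (by
    intro hc
    rcases F4.mul_eq_zero hc with h1 | h1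
    · exact hl h1
    · exact ha h1)

/-- the group `R` does not change -/
theorem change_R {l : F4} (hl : l ≠ 0) {Y' : F4 → G} {g : F4 → F4} (hY' : ∀ b, Y' b = Y (l * b) * Z (g b))
    (x : G) : (∃ b a c, x = el X Y' (fun c => Z (l * c)) b a c) ↔ x ∈ h.R := by
  have e : ∀ b a c, el X Y' (fun c => Z (l * c)) b a c = el X Y Z (l * b) a (g b + l * c) := by
    intro b a c
    unfold el
    rw [hY']
    calc Y (l * b) * Z (g b) * X a * Z (l * c) = Y (l * b) * (Z (g b) * X a) * Z (l * c) := by group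
      _ = Y (l * b) * X a * (Z (g b) * Z (l * c)) := by rw [h.ZX]; group
      _ = _ := by rw [h.ZZ]
  constructor
  · rintro ⟨b, a, c, rfl⟩
    exact ⟨_, _, _, e b a c⟩
  · rintro ⟨b, a, c, rfl⟩
    obtain ⟨m, hm⟩ : ∃ m, l * m = 1 := by
      clear * - hl
      revert l
      decide
    refine ⟨m * b, a, m * (c + g (m * b)), ?_⟩
    rw [e]
    have e1 : l * (m * b) = b := by rw [← mul_assoc, hm, one_mul]
    have e2 : g (m * b) + l * (m * (c + g (m * b))) = c := by
      rw [← mul_assoc, hm, one_mul]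
      generalize g (m * b) = q
      clear * -
      revert q c
      decide
    rw [e1, e2]

/-- the two cases for a swapping involution -/
theorem coord {t : G} (tt : t * t = 1) (ht : h.Sw t) : ∃ l : F4, l ≠ 0 ∧ ∃ g : F4 → F4,
    ((∀ b, t * X b * t = Y (l * b) * Z (g b)) ∧ UTt X (fun b => t * X b * t) (fun c => Z (l * c)) t) ∨
    ((∀ b, t * X (F4.fr b) * t = Y (l * b) * Z (g b)) ∧
      UT X (fun b => t * X (F4.fr b) * t) (fun c => Z (l * c)) ∧
      (∀ a, t * X a = t * X (F4.fr (F4.fr a)) * t * t) ∧ ∀ c, t * Z (l * c) = Z (l * F4.fr c) * t) := by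
  have hti : t⁻¹ = t := inv_eq_iff_mul_eq_one.mpr tt
  obtain ⟨f, g, hfg, hadd, hinj⟩ := h.exists_phi tt ht
  have hl : f 1 ≠ 0 := fun hc => absurd (hinj 1 hc) (by decide)
  have hconj : ∀ a b, t * X a * t * (t * X b * t) = t * X (a + b) * t := by
    intro a b
    calc t * X a * t * (t * X b * t) = t * X a * (t * t) * X b * t := by group
      _ = t * (X a * X b) * t := by rw [tt]; group
      _ = _ := by rw [h.XX]
  have htt : ∀ x : G, t * (t * x * t) * t = x := by
    intro x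
    calc t * (t * x * t) * t = (t * t) * x * (t * t) := by group
      _ = x := by rw [tt, one_mul, mul_one]
  rcases F4.lin_or_semi hadd hinj with h1 | h1
  · refine ⟨f 1, hl, g, Or.inl ?_⟩
    have hY' : ∀ b, t * X b * t = Y (f 1 * b) * Z (g b) := by
      intro b
      rw [hfg, h1 b]
    refine ⟨hY', ?_⟩
    have hu := h.change hl (Y' := fun b => t * X b * t) (g := g) hY' hconj
    refine { toUT := hu, tt := tt, tX := ?_, tZ := ?_ }
    · intro a
      change t * X a = t * X a * t * t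
      rw [mul_assoc (t * X a), tt, mul_one]
    · intro c
      change t * Z (f 1 * c) = Z (f 1 * c) * t
      -- `[X 1, Y' c] = Z' c`
      have h2 : ∀ a b, X a * (t * X b * t) * (X a)⁻¹ * (t * X b * t)⁻¹ = Z (f 1 * (a * b)) := by
        intro a b
        have h3 := hu.XY a b
        change X a * (t * X b * t) = t * X b * t * (X a * Z (f 1 * (a * b))) at h3
        rw [h3]
        have h4 := h.comm_Z (g := X a) (h.E_le ⟨a, 0, (h.el_X a).symm⟩) (f 1 * (a * b))
        have h5 : (t * X b * t) * Z (f 1 * (a * b)) = Z (f 1 * (a * b)) * (t * X b * t) := by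
          rw [hY']
          exact h.comm_Z (mul_mem (h.F_le ⟨_, 0, (h.el_Y _).symm⟩) (h.E_le (h.U_le_E ⟨_, rfl⟩))) _
        calc t * X b * t * (X a * Z (f 1 * (a * b))) * (X a)⁻¹ * (t * X b * t)⁻¹
            = t * X b * t * (Z (f 1 * (a * b)) * X a) * (X a)⁻¹ * (t * X b * t)⁻¹ := by rw [h4]
          _ = (t * X b * t * Z (f 1 * (a * b))) * (t * X b * t)⁻¹ := by group
          _ = _ := by rw [h5]; group
      have h6 := h2 1 c
      have h7 := h2 c 1
      rw [one_mul] at h6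
      rw [mul_one] at h7
      have hX1 : (X 1)⁻¹ = X 1 := inv_eq_iff_mul_eq_one.mpr (h.Xsq 1)
      have hXc : (X c)⁻¹ = X c := inv_eq_iff_mul_eq_one.mpr (h.Xsq c)
      have e1 : t * Z (f 1 * c) * t = (Z (f 1 * c))⁻¹ := by
        rw [← h6]
        calc t * (X 1 * (t * X c * t) * (X 1)⁻¹ * (t * X c * t)⁻¹) * t
            = t * (X 1 * (t * X c * t) * (X 1)⁻¹ * (t * X c * t)⁻¹) * t⁻¹ := by rw [hti]
          _ = (t * X 1 * t⁻¹) * (t * (t * X c * t) * t⁻¹) * (t * X 1 * t⁻¹)⁻¹ * (t * (t * X c * t) * t⁻¹)⁻¹ := by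
              group
          _ = (t * X 1 * t) * X c * (t * X 1 * t)⁻¹ * (X c)⁻¹ := by rw [hti, htt]
          _ = (X c * (t * X 1 * t) * (X c)⁻¹ * (t * X 1 * t)⁻¹)⁻¹ := by group
          _ = (X 1 * (t * X c * t) * (X 1)⁻¹ * (t * X c * t)⁻¹)⁻¹ := by rw [h7, h6]
      have e2 : (Z (f 1 * c))⁻¹ = Z (f 1 * c) := inv_eq_iff_mul_eq_one.mpr (h.Zsq _)
      rw [e2] at e1
      calc t * Z (f 1 * c) = t * Z (f 1 * c) * (t * t) := by rw [tt, mul_one]
        _ = (t * Z (f 1 * c) * t) * t := by group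
        _ = _ := by rw [e1]
  · refine ⟨f 1, hl, fun b => g (F4.fr b), Or.inr ?_⟩
    have hY' : ∀ b, t * X (F4.fr b) * t = Y (f 1 * b) * Z (g (F4.fr b)) := by
      intro b
      rw [hfg, h1 (F4.fr b), F4.fr_fr]
    refine ⟨hY', ?_⟩
    have hu := h.change hl (Y' := fun b => t * X (F4.fr b) * t) (g := fun b => g (F4.fr b)) hY' (by
      intro a b
      change t * X (F4.fr a) * t * (t * X (F4.fr b) * t) = t * X (F4.fr (a + b)) * t
      rw [hconj, F4.fr_add])
    refine ⟨hu, ?_, ?_⟩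
    · intro a
      rw [F4.fr_fr, mul_assoc (t * X a), tt, mul_one]
    · intro c
      have h2 : ∀ a b, X a * (t * X (F4.fr b) * t) * (X a)⁻¹ * (t * X (F4.fr b) * t)⁻¹ = Z (f 1 * (a * b)) := by
        intro a b
        have h3 := hu.XY a b
        change X a * (t * X (F4.fr b) * t) = t * X (F4.fr b) * t * (X a * Z (f 1 * (a * b))) at h3
        rw [h3]
        have h4 := h.comm_Z (g := X a) (h.E_le ⟨a, 0, (h.el_X a).symm⟩) (f 1 * (a * b))
        have h5 : (t * X (F4.fr b) * t) * Z (f 1 * (a * b)) = Z (f 1 * (a * b)) * (t * X (F4.fr b) * t) := by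
          rw [hY']
          exact h.comm_Z (mul_mem (h.F_le ⟨_, 0, (h.el_Y _).symm⟩) (h.E_le (h.U_le_E ⟨_, rfl⟩))) _
        calc t * X (F4.fr b) * t * (X a * Z (f 1 * (a * b))) * (X a)⁻¹ * (t * X (F4.fr b) * t)⁻¹
            = t * X (F4.fr b) * t * (Z (f 1 * (a * b)) * X a) * (X a)⁻¹ * (t * X (F4.fr b) * t)⁻¹ := by rw [h4]
          _ = (t * X (F4.fr b) * t * Z (f 1 * (a * b))) * (t * X (F4.fr b) * t)⁻¹ := by group
          _ = _ := by rw [h5]; group
      have h6 := h2 1 c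
      have h7 := h2 (F4.fr c) 1
      rw [one_mul] at h6
      rw [mul_one] at h7
      have hf1 : F4.fr 1 = 1 := rfl
      rw [hf1] at h7
      have e1 : t * Z (f 1 * c) * t = (Z (f 1 * F4.fr c))⁻¹ := by
        rw [← h6, ← h7]
        calc t * (X 1 * (t * X (F4.fr c) * t) * (X 1)⁻¹ * (t * X (F4.fr c) * t)⁻¹) * t
            = t * (X 1 * (t * X (F4.fr c) * t) * (X 1)⁻¹ * (t * X (F4.fr c) * t)⁻¹) * t⁻¹ := by rw [hti]
          _ = (t * X 1 * t⁻¹) * (t * (t * X (F4.fr c) * t) * t⁻¹) * (t * X 1 * t⁻¹)⁻¹ *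
              (t * (t * X (F4.fr c) * t) * t⁻¹)⁻¹ := by group
          _ = (t * X 1 * t) * X (F4.fr c) * (t * X 1 * t)⁻¹ * (X (F4.fr c))⁻¹ := by rw [hti, htt]
          _ = _ := by group
      have e2 : (Z (f 1 * F4.fr c))⁻¹ = Z (f 1 * F4.fr c) := inv_eq_iff_mul_eq_one.mpr (h.Zsq _)
      rw [e2] at e1
      calc t * Z (f 1 * c) = t * Z (f 1 * c) * (t * t) := by rw [tt, mul_one]
        _ = (t * Z (f 1 * c) * t) * t := by group
        _ = _ := by rw [e1]

end UT

end Cfsg.Agent.GH.L2.TFour
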