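import Cfsg.Agent.GH.L2.TFourGC

/-!
# Project GH, branch GH-L2, case (T4), growth IV: the conclusion
-/

set_option autoImplicit false

namespace Cfsg.Agent.GH.L2.TFour

open Subgroup Cfsg.Agent.J2Sylow.Model Tool

variable {G : Type*} [Group G]

/-- an involution acting on a set of odd order has a fixed point -/
theorem exists_fix_of_odd {α : Type*} [Finite α] (hodd : Odd (Nat.card α)) (f : α → α) (hf : ∀ x, f (f x) = x) :
    ∃ x, f x = x := by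
  classical
  have : Fintype α := Fintype.ofFinite α
  have : Fact (Nat.Prime 2) := ⟨Nat.prime_two⟩
  let F : Function.End α := f
  have h0 : F ^ 2 = 1 := by
    rw [pow_two]
    funext x
    exact hf x
  have h1 := Equiv.Perm.card_fixedPoints_modEq (f := F) (p := 2) (n := 1) (by
    rw [pow_one]
    exact h0)
  by_contra hcon
  push Not at hcon
  have h2 : Fintype.card (Function.fixedPoints f) = 0 := by
    rw [Fintype.card_eq_zero_iff]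
    exact ⟨fun x => hcon x.1 x.2⟩
  have h3 : Fintype.card α % 2 = Fintype.card (Function.fixedPoints f) % 2 := h1
  rw [h2] at h3
  rw [Nat.card_eq_fintype_card, Nat.odd_iff] at hodd
  omega

namespace UT

variable {X Y Z : F4 → G} (h : UT X Y Z)
include h

/-- the output, in the big group -/
structure Out' (_h : UT X Y Z) (S : Subgroup G) (ρ : G) (P T : Subgroup G) : Prop where
  p3 : IsPGroup 3 P
  ρP : ρ ∈ P
  PH : ∀ x ∈ P, _h.Fx x ∧ _h.Lin x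
  tn : ∀ t ∈ T, ∀ x ∈ P, t * x * t⁻¹ ∈ P
  t2 : ∀ t ∈ T, t * t = 1
  tFS : ∀ t ∈ T, _h.Fx t ∨ _h.Sw t
  tH : ∀ t ∈ T, _h.Fx t → _h.Lin t → t = 1
  typ : ∀ n ∈ S, ∃ t ∈ T, _h.Fx (t * n⁻¹) ∧ _h.Lin (t * n⁻¹)
  syl : ∃ n : G, (_h.Fx n ∨ _h.Sw n) ∧ ∀ g, n⁻¹ * g * n ∈ S ↔ ∃ t ∈ T, g * t⁻¹ ∈ _h.R

theorem conj_R {n : G} (hn : h.Fx n ∨ h.Sw n) {x : G} (hx : x ∈ h.R) : n * x * n⁻¹ ∈ h.R := by
  obtain ⟨b, a, c, rfl⟩ := hx
  have e : n * el X Y Z b a c * n⁻¹ = (n * el X Y Z b 0 0 * n⁻¹) * (n * el X Y Z 0 a c * n⁻¹) := by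
    have e1 : el X Y Z b a c = el X Y Z b 0 0 * el X Y Z 0 a c := by
      rw [h.el_mul]
      congr 1 <;> ring
    rw [e1]; group
  rw [e]
  rcases hn with h1 | h1
  · exact mul_mem (h.F_le (h1.2 _ ⟨_, _, rfl⟩)) (h.E_le (h1.1 _ ⟨_, _, rfl⟩))
  · exact mul_mem (h.E_le (h1.2 _ ⟨_, _, rfl⟩)) (h.F_le (h1.1 _ ⟨_, _, rfl⟩))

/-- from `N_G(R)` to `G` -/
theorem exists_out' [Finite G] (S : Sylow 2 G) {ρ : G} (hRS : h.R ≤ S) (hFS : ∀ s ∈ S, h.Fx s ∨ h.Sw s)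
    (hsmall : ∀ s ∈ S, h.Fx s → h.Lin s → s ∈ h.R) (hsw : ∃ s ∈ S, h.Sw s) (ρ3 : IsPGroup 3 (zpowers ρ))
    (ρX : ∀ a, ρ * X a * ρ⁻¹ = X a) (ρY : ∀ a, ρ * Y a * ρ⁻¹ = Y (F4.w * a))
    (ρZ : ∀ a, ρ * Z a * ρ⁻¹ = Z (F4.w * a)) : ∃ P T : Subgroup G, Out' h S ρ P T := by
  have : Fact (Nat.Prime 2) := ⟨Nat.prime_two⟩
  have hnorm : ∀ x : G, (∀ y ∈ h.R, x * y * x⁻¹ ∈ h.R) → x ∈ normalizer (h.R : Set G) := by
    intro x hx
    refine mem_normalizer_iff.2 fun y => ⟨fun hy => hx y hy, fun hy => ?_⟩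
    have h1 := UT.conj_inv_mem h (A := h.R) (B := h.R) rfl hx _ hy
    have e : x⁻¹ * (x * y * x⁻¹) * x = y := by group
    rwa [e] at h1
  set N : Subgroup G := normalizer (h.R : Set G) with hN
  have hSN : (S : Subgroup G) ≤ N := fun s hs => hnorm s fun y hy => h.conj_R (hFS s hs) hy
  have hRN : h.R ≤ N := hRS.trans hSN
  have hρN : ρ ∈ N := by
    refine hnorm ρ ?_
    rintro _ ⟨b, a, c, rfl⟩
    refine ⟨F4.w * b, a, F4.w * c, ?_⟩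
    unfold el
    calc ρ * (Y b * X a * Z c) * ρ⁻¹ = (ρ * Y b * ρ⁻¹) * (ρ * X a * ρ⁻¹) * (ρ * Z c * ρ⁻¹) := by group
      _ = _ := by rw [ρX, ρY, ρZ]
  have hXN : ∀ a, X a ∈ N := fun a => hRN ⟨0, a, 0, (h.el_X a).symm⟩
  have hYN : ∀ a, Y a ∈ N := fun a => hRN ⟨a, 0, 0, (h.el_Y a).symm⟩
  have hZN : ∀ a, Z a ∈ N := fun a => hRN ⟨0, 0, a, (h.el_Z a).symm⟩
  let XN : F4 → N := fun a => ⟨X a, hXN a⟩
  let YN : F4 → N := fun a => ⟨Y a, hYN a⟩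
  let ZN : F4 → N := fun a => ⟨Z a, hZN a⟩
  have k : UT XN YN ZN :=
    { XX := fun a b => Subtype.ext (h.XX a b)
      YY := fun a b => Subtype.ext (h.YY a b)
      ZZ := fun a b => Subtype.ext (h.ZZ a b)
      XY := fun a b => Subtype.ext (h.XY a b)
      ZX := fun a b => Subtype.ext (h.ZX a b)
      ZY := fun a b => Subtype.ext (h.ZY a b)
      Z1 := fun a ha hc => h.Z1 a ha (congrArg Subtype.val hc) }
  have kel : ∀ b a c, ((el XN YN ZN b a c : N) : G) = el X Y Z b a c := fun b a c => rfl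
  have kR : ∀ g : N, g ∈ k.R ↔ (g : G) ∈ h.R := by
    intro g
    constructor
    · rintro ⟨b, a, c, hg⟩
      exact ⟨b, a, c, congrArg Subtype.val hg⟩
    · rintro ⟨b, a, c, hg⟩
      exact ⟨b, a, c, Subtype.ext hg⟩
  have kE : ∀ g : N, g ∈ k.E ↔ (g : G) ∈ h.E := by
    intro g
    constructor
    · rintro ⟨a, c, hg⟩
      exact ⟨a, c, congrArg Subtype.val hg⟩
    · rintro ⟨a, c, hg⟩
      exact ⟨a, c, Subtype.ext hg⟩
  have kF : ∀ g : N, g ∈ k.F ↔ (g : G) ∈ h.F := by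
    intro g
    constructor
    · rintro ⟨a, c, hg⟩
      exact ⟨a, c, congrArg Subtype.val hg⟩
    · rintro ⟨a, c, hg⟩
      exact ⟨a, c, Subtype.ext hg⟩
  have hEN : h.E ≤ N := h.E_le.trans hRN
  have hFN : h.F ≤ N := h.F_le.trans hRN
  have kFx : ∀ g : N, k.Fx g ↔ h.Fx g := by
    intro g
    constructor
    · rintro ⟨h1, h2⟩
      exact ⟨fun x hx => (kE _).1 (h1 ⟨x, hEN hx⟩ ((kE _).2 hx)), fun x hx => (kF _).1 (h2 ⟨x, hFN hx⟩ ((kF _).2 hx))⟩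
    · rintro ⟨h1, h2⟩
      exact ⟨fun x hx => (kE _).2 (h1 x ((kE _).1 hx)), fun x hx => (kF _).2 (h2 x ((kF _).1 hx))⟩
  have kSw : ∀ g : N, k.Sw g ↔ h.Sw g := by
    intro g
    constructor
    · rintro ⟨h1, h2⟩
      exact ⟨fun x hx => (kF _).1 (h1 ⟨x, hEN hx⟩ ((kE _).2 hx)), fun x hx => (kE _).1 (h2 ⟨x, hFN hx⟩ ((kF _).2 hx))⟩
    · rintro ⟨h1, h2⟩
      exact ⟨fun x hx => (kF _).2 (h1 x ((kE _).1 hx)), fun x hx => (kE _).2 (h2 x ((kF _).1 hx))⟩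
  have kLin : ∀ g : N, k.Lin g ↔ h.Lin g := by
    intro g
    constructor
    · intro h1 c c' hc
      exact congrArg Subtype.val (h1 c c' (Subtype.ext hc))
    · intro h1 c c' hc
      exact Subtype.ext (h1 c c' (congrArg Subtype.val hc))
  have D : Fr k ((S : Subgroup G).subgroupOf N) (⟨ρ, hρN⟩ : N) :=
    { nrm := ⟨fun x hx g => (kR _).2 ((mem_normalizer_iff.1 g.2 _).1 ((kR _).1 hx))⟩
      pg := S.isPGroup'.comap_subtype
      syl := by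
        intro T hT
        obtain ⟨n, hn, hnT⟩ := conj_into S (H := N) (P := T.map N.subtype) hSN (hT.map _) (by
          rintro _ ⟨x, -, rfl⟩
          exact x.2)
        exact ⟨⟨n, hn⟩, fun x hx => mem_subgroupOf.2 (hnT x ⟨x, hx, rfl⟩)⟩
      small := fun s hs h1 h2 => (kR s).2 (hsmall s (mem_subgroupOf.1 hs) ((kFx s).1 h1) ((kLin s).1 h2))
      sw := by
        obtain ⟨s, hs, h1⟩ := hsw
        exact ⟨⟨s, hSN hs⟩, mem_subgroupOf.2 hs, (kSw _).2 h1⟩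
      ρ3 := by
        intro x
        obtain ⟨i, hi⟩ := mem_zpowers_iff.1 x.2
        obtain ⟨j, hj⟩ := ρ3 ⟨ρ ^ i, zpow_mem (mem_zpowers ρ) i⟩
        refine ⟨j, Subtype.ext (Subtype.ext ?_)⟩
        have h1 : ((x : N) : G) = ρ ^ i := by rw [← hi]; rfl
        change ((x : N) : G) ^ 3 ^ j = 1
        rw [h1]
        exact congrArg Subtype.val hj
      ρX := fun a => Subtype.ext (ρX a)
      ρY := fun a => Subtype.ext (ρY a)
      ρZ := fun a => Subtype.ext (ρZ a) }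
  obtain ⟨P, T, O⟩ := k.exists_out D
  refine ⟨P.map N.subtype, T.map N.subtype, O.p3.map _, ⟨_, O.ρP, rfl⟩, ?_, ?_, ?_, ?_, ?_, ?_, ?_⟩
  · rintro _ ⟨x, hx, rfl⟩
    exact ⟨(kFx x).1 (O.PH x hx).1, (kLin x).1 (O.PH x hx).2⟩
  · rintro _ ⟨t, ht, rfl⟩ _ ⟨x, hx, rfl⟩
    exact ⟨_, O.tn t ht x hx, rfl⟩
  · rintro _ ⟨t, ht, rfl⟩
    exact congrArg Subtype.val (O.t2 t ht)
  · rintro _ ⟨t, ht, rfl⟩
    rcases k.Fx_or_Sw D.nrm t with h1 | h1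
    · exact Or.inl ((kFx t).1 h1)
    · exact Or.inr ((kSw t).1 h1)
  · rintro _ ⟨t, ht, rfl⟩ h1 h2
    exact congrArg Subtype.val (O.tH t ht ((kFx t).2 h1) ((kLin t).2 h2))
  · intro n hn
    obtain ⟨t, ht, h1, h2⟩ := O.typ ⟨n, hSN hn⟩
    exact ⟨t, ⟨t, ht, rfl⟩, (kFx _).1 h1, (kLin _).1 h2⟩
  · obtain ⟨n, hn⟩ := O.syl
    refine ⟨n, ?_, fun g => ?_⟩
    · rcases k.Fx_or_Sw D.nrm n with h1 | h1
      · exact Or.inl ((kFx n).1 h1)
      · exact Or.inr ((kSw n).1 h1)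
    · constructor
      · intro hg
        have hgN : g ∈ N := by
          have e : g = n * ((n : G)⁻¹ * g * n) * (n : G)⁻¹ := by group
          rw [e]
          exact mul_mem (mul_mem n.2 (hSN hg)) (inv_mem n.2)
        obtain ⟨t, ht, h1⟩ := (hn ⟨g, hgN⟩).1 (mem_subgroupOf.2 hg)
        exact ⟨t, ⟨t, ht, rfl⟩, (kR _).1 h1⟩
      · rintro ⟨_, ⟨t, ht, rfl⟩, h1⟩
        have hgN : g ∈ N := by
          have e : g = (g * (t : G)⁻¹) * t := by group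
          rw [e]
          exact mul_mem (hRN h1) t.2
        exact mem_subgroupOf.1 ((hn ⟨g, hgN⟩).2 ⟨t, ht, (kR _).2 h1⟩)

end UT

end Cfsg.Agent.GH.L2.TFour
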