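import Cfsg.Agent.GH.L2.TFourGD

/-!
# Project GH, branch GH-L2, case (T4), growth V: the theorem
-/

set_option autoImplicit false

namespace Cfsg.Agent.GH.L2.TFour

open Subgroup Cfsg.Agent.J2Sylow.Model Tool
open scoped Pointwise

variable {G : Type*} [Group G]

theorem exists_conj_sylow [Finite G] (S : Sylow 2 G) (n : G) : ∃ S' : Sylow 2 G, ∀ g, g ∈ S' ↔ n⁻¹ * g * n ∈ S := by
  refine ⟨n • S, fun g => ?_⟩
  have h1 : g ∈ ((n • S : Sylow 2 G) : Subgroup G) ↔ g ∈ (MulAut.conj n • (S : Subgroup G)) := by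
    rw [Sylow.coe_subgroup_smul]
  change g ∈ ((n • S : Sylow 2 G) : Subgroup G) ↔ _
  rw [h1, Subgroup.mem_pointwise_smul_iff_inv_smul_mem]
  have h2 : (MulAut.conj n)⁻¹ • g = n⁻¹ * g * n := by
    rw [← map_inv, MulAut.smul_def, MulAut.conj_apply, inv_inv]
  rw [h2]
  rfl

namespace UT

variable {X Y Z : F4 → G} (h : UT X Y Z)
include h

/-- `J2`-form of a Sylow 2-subgroup -/
def J2Form (G : Type*) [Group G] : Prop := ∃ (X Y Z : F4 → G) (t : G) (S : Sylow 2 G), UT X Y Z ∧ t * t = 1 ∧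
  (∀ a, t * X a = Y (F4.fr a) * t) ∧ (∀ a, t * Z a = Z (F4.fr a) * t) ∧
  ∀ g, g ∈ S ↔ ∃ a b c, g = Y b * X a * Z c ∨ g = Y b * X a * Z c * t

theorem Lin_of_comm {g : G} (hg : ∀ c, g * Z c = Z c * g) : h.Lin g := by
  intro c c' hc
  rw [hg, mul_inv_cancel_right] at hc ⊢
  rw [h.Z_inj hc]

theorem Fx_conj {n : G} [Finite G] (hn : h.Fx n ∨ h.Sw n) {x : G} (hx : h.Fx x) : h.Fx (n⁻¹ * x * n) := by
  rcases hn with h1 | h1
  · exact h.Fx_Fx (h.Fx_Fx (h.Fx_inv h1) hx) h1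
  · exact h.Sw_Sw (h.Sw_Fx (h.Sw_inv h1) hx) h1

/-- case A: `S ∩ N(E) = R` -/
theorem final_A [Finite G] (S : Sylow 2 G) {p : Prop} {d ρ : G} (small : Small h S p d) (hp : ¬ p)
    {P T : Subgroup G} (O : Out' h S ρ P T) (hsw : ∃ s ∈ S, h.Sw s) (hG : ∀ f : G →* ℤˣ, ∀ g, f g = 1) :
    J2Form G := by
  obtain ⟨s, hs, hsS⟩ := hsw
  obtain ⟨t, ht, htF, -⟩ := O.typ s hs
  have htS : h.Sw t := by
    have h1 := h.Fx_Sw htF hsS
    have e : t * s⁻¹ * s = t := by group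
    rwa [e] at h1
  obtain ⟨n, hn, hsyl⟩ := O.syl
  have hni : h.Fx n⁻¹ ∨ h.Sw n⁻¹ := by
    rcases hn with h1 | h1
    · exact Or.inl (h.Fx_inv h1)
    · exact Or.inr (h.Sw_inv h1)
  -- `T = {1, t}`
  have hT : ∀ τ ∈ T, τ = 1 ∨ τ = t := by
    have key : ∀ τ ∈ T, h.Fx τ → τ = 1 := by
      intro τ hτ hF
      have h1 : n⁻¹ * τ * n ∈ S := (hsyl τ).2 ⟨τ, hτ, by rw [mul_inv_cancel]; exact one_mem _⟩
      have h2 := (small.cov _ h1 (h.Fx_conj hn hF).1).resolve_right fun hc => hp hc.1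
      have h3 := h.conj_R hn h2
      have e : n * (n⁻¹ * τ * n) * n⁻¹ = τ := by group
      rw [e] at h3
      exact O.tH τ hτ hF (h.Lin_R h3)
    intro τ hτ
    rcases O.tFS τ hτ with h1 | h1
    · exact Or.inl (key τ hτ h1)
    · right
      have h2 := key _ (mul_mem hτ ht) (h.Sw_Sw h1 htS)
      have h3 := O.t2 t ht
      calc τ = τ * t * t := by rw [mul_assoc, h3, mul_one]
        _ = t := by rw [h2, one_mul]
  have tt := O.t2 t ht
  have hti : t⁻¹ = t := inv_eq_iff_mul_eq_one.mpr tt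
  obtain ⟨S', hS'⟩ := exists_conj_sylow S n
  have hmem : ∀ g, g ∈ S' ↔ g ∈ h.R ∨ g * t ∈ h.R := by
    intro g
    refine (hS' g).trans ((hsyl g).trans ?_)
    constructor
    · rintro ⟨τ, hτ, hg⟩
      rcases hT τ hτ with rfl | rfl
      · rw [inv_one, mul_one] at hg
        exact Or.inl hg
      · rw [hti] at hg
        exact Or.inr hg
    · rintro (hg | hg)
      · exact ⟨1, one_mem _, by rw [inv_one, mul_one]; exact hg⟩
      · exact ⟨t, ht, by rw [hti]; exact hg⟩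
  obtain ⟨l, hl, g, ⟨hY', hc⟩ | ⟨hY', hu, htX, htZ⟩⟩ := h.coord tt htS
  · exfalso
    refine hc.dead S' (fun x => ?_) (fun f => hG f t)
    rw [hmem, hc.mem_RT', ← h.change_R hl hY', ← h.change_R hl hY']
    constructor
    · rintro (⟨b, a, c, hx⟩ | ⟨b, a, c, hx⟩)
      · exact Or.inl ⟨b, a, c, hx⟩
      · refine Or.inr ⟨b, a, c, ?_⟩
        rw [← hx, mul_assoc, tt, mul_one]
    · rintro (⟨b, a, c, hx⟩ | ⟨b, a, c, hx⟩)
      · exact Or.inl ⟨b, a, c, hx⟩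
      · refine Or.inr ⟨b, a, c, ?_⟩
        rw [hx, mul_assoc, tt, mul_one]
  · refine ⟨X, _, _, t, S', hu, tt, htX, htZ, fun x => ?_⟩
    rw [hmem, ← h.change_R hl hY', ← h.change_R hl hY']
    constructor
    · rintro (⟨b, a, c, hx⟩ | ⟨b, a, c, hx⟩)
      · exact ⟨a, b, c, Or.inl hx⟩
      · refine ⟨a, b, c, Or.inr ?_⟩
        change x = el X (fun b => t * X (F4.fr b) * t) (fun c => Z (l * c)) b a c * t
        rw [← hx, mul_assoc, tt, mul_one]
    · rintro ⟨a, b, c, hx | hx⟩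
      · exact Or.inl ⟨b, a, c, hx⟩
      · refine Or.inr ⟨b, a, c, ?_⟩
        rw [hx, mul_assoc, tt, mul_one]
        rfl

/-- odd order elements: `x` commutes with `y` if `x * x` does -/
theorem comm_of_sq {P : Subgroup G} (hP : IsPGroup 3 P) {x y : G} (hx : x ∈ P) (h1 : x * x * y = y * (x * x)) :
    x * y = y * x := by
  obtain ⟨k, hk⟩ := hP ⟨x, hx⟩
  have hk' : x ^ 3 ^ k = 1 := congrArg Subtype.val hk
  have hodd : Odd (3 ^ k) := Odd.pow (by decide)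
  obtain ⟨j, hj⟩ := hodd
  have h2 : Commute (x * x) y := h1
  have h3 : Commute ((x * x) ^ (j + 1)) y := h2.pow_left _
  have h4 : (x * x) ^ (j + 1) = x := by
    rw [← pow_two, ← pow_mul]
    have e : 2 * (j + 1) = 3 ^ k + 1 := by omega
    rw [e, pow_succ, hk', one_mul]
  rw [h4] at h3
  exact h3

theorem T_comm {T : Subgroup G} (hT : ∀ t ∈ T, t * t = 1) {a b : G} (ha : a ∈ T) (hb : b ∈ T) : a * b = b * a := by
  have h1 := hT _ (mul_mem ha hb)
  calc a * b = a * b * (b * a * (b * a)) := by rw [hT _ (mul_mem hb ha), mul_one]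
    _ = a * (b * b) * a * (b * a) := by group
    _ = b * a := by rw [hT b hb, mul_one, hT a ha, one_mul]

/-- elements of `P` acting trivially on `E/U` centralise `{X a}` -/
theorem P_cent [Finite G] {S : Subgroup G} {ρ : G} {P T : Subgroup G} (O : Out' h S ρ P T)
    (ρX : ∀ a, ρ * X a * ρ⁻¹ = X a) (ρZ : ∀ a, ρ * Z a * ρ⁻¹ = Z (F4.w * a)) {g : G} (hg : g ∈ P)
    (h1 : ∀ a, ∃ c, g * X a * g⁻¹ = X a * Z c) (a : F4) : g * X a * g⁻¹ = X a := by
  -- `g` acts on `U` as a scalar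
  obtain ⟨hgF, hgL⟩ := O.PH g hg
  obtain ⟨m, hm⟩ := h.exists_gam (Or.inl hgF) 1
  have hm0 : m ≠ 0 := by
    rintro rfl
    rw [h.Z0] at hm
    refine h.Z1 1 (by decide) ?_
    calc Z 1 = g⁻¹ * (g * Z 1 * g⁻¹) * g := by group
      _ = 1 := by rw [hm]; group
  have hgZ : ∀ c, g * Z c * g⁻¹ = Z (m * c) := by
    intro c
    cases c
    · have e : (F4.o : F4) = 0 := rfl
      rw [e, mul_zero, h.Z0]; group
    · have e : (F4.e : F4) = 1 := rfl
      rw [e, mul_one]; exact hm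
    · have h2 := hgL _ _ hm
      rw [mul_one] at h2
      rw [h2, mul_comm]
    · have h2 := hgL _ _ (hgL _ _ hm)
      have e : F4.w * (F4.w * 1) = F4.u := rfl
      rw [e] at h2
      rw [h2]
      congr 1
      clear * -
      revert m
      decide
  -- `g' = g ρ^i` acts trivially on `U`
  obtain ⟨i, hi⟩ : ∃ i : ℕ, ∀ c, g * ρ ^ i * Z c * (g * ρ ^ i)⁻¹ = Z c := by
    have key : ∀ m : F4, m ≠ 0 → m = 1 ∨ m * F4.w = 1 ∨ m * (F4.w * F4.w) = 1 := by decide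
    rcases key m hm0 with h2 | h2 | h2
    · refine ⟨0, fun c => ?_⟩
      rw [pow_zero, mul_one, hgZ, h2, one_mul]
    · refine ⟨1, fun c => ?_⟩
      have e : g * ρ ^ 1 * Z c * (g * ρ ^ 1)⁻¹ = g * (ρ * Z c * ρ⁻¹) * g⁻¹ := by group
      rw [e, ρZ, hgZ, ← mul_assoc, h2, one_mul]
    · refine ⟨2, fun c => ?_⟩
      have e : g * ρ ^ 2 * Z c * (g * ρ ^ 2)⁻¹ = g * (ρ * (ρ * Z c * ρ⁻¹) * ρ⁻¹) * g⁻¹ := by
        rw [pow_two]; group
      rw [e, ρZ, ρZ, hgZ]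
      have e2 : m * (F4.w * (F4.w * c)) = m * (F4.w * F4.w) * c := by ring
      rw [e2, h2, one_mul]
  set g' : G := g * ρ ^ i with hg'
  have hg'P : g' ∈ P := mul_mem hg (pow_mem O.ρP i)
  have hρi : ∀ a, ρ ^ i * X a * (ρ ^ i)⁻¹ = X a := by
    intro a
    have h2 : Commute ρ (X a) := by
      have := ρX a
      change ρ * X a = X a * ρ
      calc ρ * X a = ρ * X a * ρ⁻¹ * ρ := by group
        _ = _ := by rw [this]
    have h3 : Commute (ρ ^ i) (X a) := h2.pow_left i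
    rw [h3.eq, mul_inv_cancel_right]
  have hg'X : ∀ a, g' * X a * g'⁻¹ = g * X a * g⁻¹ := by
    intro a
    have e : g' * X a * g'⁻¹ = g * (ρ ^ i * X a * (ρ ^ i)⁻¹) * g⁻¹ := by rw [hg']; group
    rw [e, hρi]
  rw [← hg'X]
  obtain ⟨c, hc⟩ := h1 a
  rw [← hg'X] at hc
  have hsq : g' * g' * X a = X a * (g' * g') := by
    have h2 : g' * g' * X a * (g' * g')⁻¹ = X a := by
      calc g' * g' * X a * (g' * g')⁻¹ = g' * (g' * X a * g'⁻¹) * g'⁻¹ := by group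
        _ = g' * (X a * Z c) * g'⁻¹ := by rw [hc]
        _ = (g' * X a * g'⁻¹) * (g' * Z c * g'⁻¹) := by group
        _ = X a * Z c * Z c := by rw [hc, hi]
        _ = X a := by rw [mul_assoc, h.Zsq, mul_one]
    calc g' * g' * X a = g' * g' * X a * (g' * g')⁻¹ * (g' * g') := by group
      _ = _ := by rw [h2]
  have h3 := UT.comm_of_sq h O.p3 hg'P hsq
  rw [h3, mul_inv_cancel_right]

end UT

end Cfsg.Agent.GH.L2.TFour
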