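import Cfsg.Agent.GH.L2.TFourGE

/-!
# Project GH, branch GH-L2, case (T4), growth VI: case B and the final theorem
-/

set_option autoImplicit false

namespace Cfsg.Agent.GH.L2.TFour

open Subgroup Cfsg.Agent.J2Sylow.Model Tool

variable {G : Type*} [Group G]

namespace UT

variable {X Y Z : F4 → G} (h : UT X Y Z)
include h

/-- an element of `P` commuting with `t` and acting as `w` on `U` -/
theorem exists_eps [Finite G] {S : Subgroup G} {ρ : G} {P T : Subgroup G} (O : Out' h S ρ P T)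
    (ρZ : ∀ a, ρ * Z a * ρ⁻¹ = Z (F4.w * a)) {t : G} (ht : t ∈ T) (htZ : ∀ c, t * Z c = Z c * t) :
    ∃ ε : G, ε * t = t * ε ∧ ∀ c, ε * Z c * ε⁻¹ = Z (F4.w * c) := by
  classical
  have tt := O.t2 t ht
  have hti : t⁻¹ = t := inv_eq_iff_mul_eq_one.mpr tt
  have htZ' : ∀ c, t * Z c * t = Z c := fun c => by rw [htZ, mul_assoc, tt, mul_one]
  -- the centraliser of `U` in `P`
  let K : Subgroup G :=
    { carrier := {g | g ∈ P ∧ ∀ c, g * Z c * g⁻¹ = Z c}
      mul_mem' := by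
        rintro a b ⟨ha, ha'⟩ ⟨hb, hb'⟩
        refine ⟨mul_mem ha hb, fun c => ?_⟩
        have e : a * b * Z c * (a * b)⁻¹ = a * (b * Z c * b⁻¹) * a⁻¹ := by group
        rw [e, hb', ha']
      one_mem' := ⟨one_mem _, fun c => by group⟩
      inv_mem' := by
        rintro a ⟨ha, ha'⟩
        refine ⟨inv_mem ha, fun c => ?_⟩
        have h1 := ha' c
        calc a⁻¹ * Z c * a⁻¹⁻¹ = a⁻¹ * (a * Z c * a⁻¹) * a := by rw [h1, inv_inv]
          _ = Z c := by group }
  have hKP : K ≤ P := fun x hx => hx.1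
  have hodd : Odd (Nat.card K) := by
    have : Fact (Nat.Prime 3) := ⟨Nat.prime_three⟩
    obtain ⟨n, hn⟩ := IsPGroup.iff_card.1 (IsPGroup.to_le O.p3 hKP)
    rw [hn]
    exact Odd.pow (by decide)
  let C : Type _ := {g : G // g ∈ P ∧ ∀ c, g * Z c * g⁻¹ = Z (F4.w * c)}
  have hcard : Nat.card C = Nat.card K := by
    refine (Nat.card_congr (Equiv.ofBijective (fun x : K => (⟨ρ * x, mul_mem O.ρP x.2.1, fun c => ?_⟩ : C)) ?_)).symm
    · have e : ρ * (x : G) * Z c * (ρ * x)⁻¹ = ρ * ((x : G) * Z c * (x : G)⁻¹) * ρ⁻¹ := by group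
      rw [e, x.2.2, ρZ]
    · constructor
      · intro x y hxy
        exact Subtype.ext (mul_left_cancel (congrArg Subtype.val hxy))
      · rintro ⟨g, hg, hg'⟩
        refine ⟨⟨ρ⁻¹ * g, mul_mem (inv_mem O.ρP) hg, fun c => ?_⟩, Subtype.ext ?_⟩
        · have h1 := hg' c
          have h2 := ρZ c
          calc ρ⁻¹ * g * Z c * (ρ⁻¹ * g)⁻¹ = ρ⁻¹ * (g * Z c * g⁻¹) * ρ := by group
            _ = ρ⁻¹ * (ρ * Z c * ρ⁻¹) * ρ := by rw [h1, h2]
            _ = Z c := by group
        · change ρ * (ρ⁻¹ * g) = g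
          group
  have hmaps : ∀ g : C, (t * g.1 * t) ∈ P ∧ ∀ c, (t * g.1 * t) * Z c * (t * g.1 * t)⁻¹ = Z (F4.w * c) := by
    intro g
    constructor
    · have := O.tn t ht g.1 g.2.1
      rwa [hti] at this
    · intro c
      calc t * g.1 * t * Z c * (t * g.1 * t)⁻¹ = t * g.1 * (t * Z c * t⁻¹) * g.1⁻¹ * t⁻¹ := by group
        _ = t * (g.1 * Z c * g.1⁻¹) * t := by rw [hti, htZ']; group
        _ = Z (F4.w * c) := by rw [g.2.2, htZ']
  obtain ⟨ε, hε⟩ := exists_fix_of_odd (α := C) (by rw [hcard]; exact hodd) (fun g => ⟨t * g.1 * t, hmaps g⟩) (by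
    intro g
    apply Subtype.ext
    change t * (t * g.1 * t) * t = g.1
    calc t * (t * g.1 * t) * t = (t * t) * g.1 * (t * t) := by group
      _ = g.1 := by rw [tt, one_mul, mul_one])
  refine ⟨ε.1, ?_, ε.2.2⟩
  have h1 : t * ε.1 * t = ε.1 := congrArg Subtype.val hε
  calc ε.1 * t = t * ε.1 * t * t := by rw [h1]
    _ = t * ε.1 * (t * t) := by group
    _ = t * ε.1 := by rw [tt, mul_one]

/-- conjugacy of the elements `X a * Z c` -/
theorem conj_XZ (a c c' : F4) (ha : a ≠ 0) : IsConj (X a * Z c) (X a * Z c') := by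
  obtain ⟨b, hb⟩ : ∃ b, a * b = c + c' := by
    clear * - ha
    revert a c c'
    decide
  refine isConj_iff.2 ⟨(Y b)⁻¹, ?_⟩
  rw [inv_inv]
  calc (Y b)⁻¹ * (X a * Z c) * Y b = (Y b)⁻¹ * X a * (Z c * Y b) := by group
    _ = (Y b)⁻¹ * (X a * Y b) * Z c := by rw [h.ZY]; group
    _ = X a * (Z (a * b) * Z c) := by rw [h.XY]; group
    _ = X a * Z c' := by
      rw [h.ZZ, hb]
      congr 2
      clear * -
      revert c c'
      decide

/-- case B: `S ∩ N(E) = R⟨d⟩` -/
theorem final_B [Finite G] (S : Sylow 2 G) {p : Prop} {d ρ : G} (hRS : h.R ≤ S) (small : Small h S p d) (hp : p)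
    (ρX : ∀ a, ρ * X a * ρ⁻¹ = X a) (ρY : ∀ a, ρ * Y a * ρ⁻¹ = Y (F4.w * a))
    (ρZ : ∀ a, ρ * Z a * ρ⁻¹ = Z (F4.w * a))
    {P T : Subgroup G} (O : Out' h S ρ P T) (hsw : ∃ s ∈ S, h.Sw s) (hG : ∀ f : G →* ℤˣ, ∀ g, f g = 1)
    (K : ∀ T' : Subgroup G, IsPGroup 2 T' → T' ≤ centralizer ({X 1} : Set G) → Nat.card T' ≤ 32) : False := by
  obtain ⟨s, hs, hsS⟩ := hsw
  have hdS := small.mem hp
  have hdd := small.dd hp
  have hdi : d⁻¹ = d := inv_eq_iff_mul_eq_one.mpr hdd
  have hdFx : h.Fx d := by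
    constructor
    · rintro _ ⟨a, c, rfl⟩
      rw [small.d_el h hp, mul_inv_cancel_right]
      exact ⟨_, _, rfl⟩
    · rintro _ ⟨a, c, rfl⟩
      rw [small.d_el h hp, mul_inv_cancel_right]
      exact ⟨_, _, rfl⟩
  have hdSem : h.Sem d := by
    intro c c' hc
    rw [small.dZ hp, mul_inv_cancel_right] at hc ⊢
    rw [← h.Z_inj hc]
    congr 1
    clear * -
    revert c
    decide
  -- `d0`
  obtain ⟨d0, hd0, hd0F, hd0L⟩ := O.typ d hdS
  have hd0Fx : h.Fx d0 := by
    have h1 := h.Fx_Fx hd0F hdFx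
    have e : d0 * d⁻¹ * d = d0 := by group
    rwa [e] at h1
  have hd0Sem : h.Sem d0 := by
    have h1 := h.Lin_Sem (Or.inl hdFx) hd0L hdSem (Or.inl hd0F)
    have e : d0 * d⁻¹ * d = d0 := by group
    rwa [e] at h1
  -- `t`
  obtain ⟨s', hs', hs'S, hs'L⟩ : ∃ s' ∈ S, h.Sw s' ∧ h.Lin s' := by
    rcases h.lin_or_sem (Or.inr hsS) with h1 | h1
    · exact ⟨s, hs, hsS, h1⟩
    · exact ⟨s * d, mul_mem hs hdS, h.Sw_Fx hsS hdFx, h.Sem_Sem (Or.inl hdFx) h1 hdSem (Or.inr hsS)⟩
  obtain ⟨t, ht, htF, htL0⟩ := O.typ s' hs'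
  have htS : h.Sw t := by
    have h1 := h.Fx_Sw htF hs'S
    have e : t * s'⁻¹ * s' = t := by group
    rwa [e] at h1
  have htL : h.Lin t := by
    have h1 := h.Lin_Lin (Or.inr hs'S) htL0 hs'L
    have e : t * s'⁻¹ * s' = t := by group
    rwa [e] at h1
  have tt := O.t2 t ht
  have hti : t⁻¹ = t := inv_eq_iff_mul_eq_one.mpr tt
  have dd := O.t2 d0 hd0
  have hd0i : d0⁻¹ = d0 := inv_eq_iff_mul_eq_one.mpr dd
  have htd : t * d0 = d0 * t := UT.T_comm h O.t2 ht hd0
  -- coordinates for `t`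
  obtain ⟨l, hl, g, ⟨hY', hc⟩ | ⟨hY', hu, htX, htZ⟩⟩ := h.coord tt htS
  swap
  · -- `t` linear on `U`
    have h1 := htL (l * 1) (l * F4.fr 1) (by rw [htZ, mul_inv_cancel_right])
    have h2 := htZ F4.w
    have e1 : F4.w * (l * 1) = l * F4.w := by ring
    rw [e1, h2, mul_inv_cancel_right] at h1
    have h3 := h.Z_inj h1
    apply hl
    clear * - h3
    revert l
    decide
  have htZ : ∀ c, t * Z c = Z c * t := by
    intro c
    obtain ⟨m, hm⟩ : ∃ m, l * m = c := by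
      clear * - hl
      revert l c
      decide
    rw [← hm]
    exact hc.tZ m
  -- `d0` normalises `{X a}`
  have hd0V : ∀ a, ∃ a', d0 * X a * d0⁻¹ = X a' := by
    have hgP := O.tn d0 hd0 ρ O.ρP
    have hcent := h.P_cent O ρX ρZ hgP (by
      intro a
      obtain ⟨a', c', h1⟩ := (h.Fx_inv hd0Fx).1 (X a) ⟨a, 0, (h.el_X a).symm⟩
      rw [inv_inv] at h1
      have h2 : ρ * el X Y Z 0 a' c' * ρ⁻¹ = el X Y Z 0 a' c' * Z (c' + F4.w * c') := by
        unfold el
        rw [h.Y0, one_mul]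
        calc ρ * (X a' * Z c') * ρ⁻¹ = (ρ * X a' * ρ⁻¹) * (ρ * Z c' * ρ⁻¹) := by group
          _ = X a' * Z (F4.w * c') := by rw [ρX, ρZ]
          _ = X a' * (Z c' * Z (c' + F4.w * c')) := by
            rw [h.ZZ]
            congr 2
            clear * -
            revert c'
            decide
          _ = _ := by group
      obtain ⟨q, hq⟩ := h.exists_gam (Or.inl hd0Fx) (c' + F4.w * c')
      refine ⟨q, ?_⟩
      calc d0 * ρ * d0⁻¹ * X a * (d0 * ρ * d0⁻¹)⁻¹ = d0 * (ρ * (d0⁻¹ * X a * d0) * ρ⁻¹) * d0⁻¹ := by group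
        _ = d0 * (ρ * el X Y Z 0 a' c' * ρ⁻¹) * d0⁻¹ := by rw [h1]
        _ = d0 * (d0⁻¹ * X a * d0 * Z (c' + F4.w * c')) * d0⁻¹ := by rw [h2, h1]
        _ = X a * (d0 * Z (c' + F4.w * c') * d0⁻¹) := by group
        _ = X a * Z q := by rw [hq])
    intro a
    have h1 := hcent a
    -- `ρ` centralises `d0⁻¹ X a d0 = d0 X a d0⁻¹`
    have h2 : ρ * (d0⁻¹ * X a * d0) * ρ⁻¹ = d0⁻¹ * X a * d0 := by
      calc ρ * (d0⁻¹ * X a * d0) * ρ⁻¹ = d0⁻¹ * (d0 * ρ * d0⁻¹ * X a * (d0 * ρ * d0⁻¹)⁻¹) * d0 := by group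
        _ = _ := by rw [h1]
    obtain ⟨a', c', h3⟩ := (h.Fx_inv hd0Fx).1 (X a) ⟨a, 0, (h.el_X a).symm⟩
    rw [inv_inv] at h3
    rw [h3] at h2
    refine ⟨a', ?_⟩
    have h4 : c' = 0 := by
      have h5 : ρ * el X Y Z 0 a' c' * ρ⁻¹ = el X Y Z 0 a' (F4.w * c') := by
        unfold el
        rw [h.Y0, one_mul]
        calc ρ * (X a' * Z c') * ρ⁻¹ = (ρ * X a' * ρ⁻¹) * (ρ * Z c' * ρ⁻¹) := by group
          _ = X a' * Z (F4.w * c') := by rw [ρX, ρZ]
      rw [h5] at h2
      obtain ⟨-, -, h6⟩ := h.el_inj h2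
      clear * - h6
      revert c'
      decide
    have e : d0 * X a * d0⁻¹ = d0⁻¹ * X a * d0 := by rw [hd0i]
    rw [e, h3, h4, h.el_X]
  choose δ hδ using hd0V
  have hδ' : ∀ a, d0 * X a * d0 = X (δ a) := fun a => by rw [← hδ, hd0i]
  have X_inj : ∀ {a b : F4}, X a = X b → a = b := by
    intro a b hab
    rw [← h.el_X, ← h.el_X b] at hab
    exact (h.el_inj hab).2.1
  have hδadd : ∀ a b, δ (a + b) = δ a + δ b := by
    intro a b
    apply X_inj
    rw [← hδ, ← h.XX, ← h.XX, ← hδ, ← hδ]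
    group
  have hδinj : ∀ a, δ a = 0 → a = 0 := by
    intro a ha
    apply X_inj
    have h1 := hδ a
    rw [ha] at h1
    rw [h.X0] at h1 ⊢
    calc X a = d0⁻¹ * (d0 * X a * d0⁻¹) * d0 := by group
      _ = 1 := by rw [h1]; group
  -- action of `d0` on `Y' b = t X b t`
  have hδY : ∀ b, d0 * (t * X b * t) * d0 = t * X (δ b) * t := by
    intro b
    calc d0 * (t * X b * t) * d0 = (d0 * t) * X b * (t * d0) := by group
      _ = (t * d0) * X b * (d0 * t) := by rw [htd]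
      _ = t * (d0 * X b * d0) * t := by group
      _ = _ := by rw [hδ']
  -- action of `d0` on `Z' c = Z (l c)`
  have hδZ : ∀ a b, d0 * Z (l * (a * b)) * d0 = Z (l * (δ a * δ b)) := by
    intro a b
    have h1 := hc.XY a b
    have h2 := hc.XY (δ a) (δ b)
    change X a * (t * X b * t) = t * X b * t * (X a * Z (l * (a * b))) at h1
    change X (δ a) * (t * X (δ b) * t) = t * X (δ b) * t * (X (δ a) * Z (l * (δ a * δ b))) at h2
    have h3 : d0 * (X a * (t * X b * t)) * d0 = (d0 * X a * d0) * (d0 * (t * X b * t) * d0) := by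
      calc d0 * (X a * (t * X b * t)) * d0 = d0 * X a * (1 : G) * (t * X b * t) * d0 := by group
        _ = d0 * X a * (d0 * d0) * (t * X b * t) * d0 := by rw [dd]
        _ = _ := by group
    have h4 : d0 * (t * X b * t * (X a * Z (l * (a * b)))) * d0 =
        (d0 * (t * X b * t) * d0) * ((d0 * X a * d0) * (d0 * Z (l * (a * b)) * d0)) := by
      calc d0 * (t * X b * t * (X a * Z (l * (a * b)))) * d0 =
          d0 * (t * X b * t) * (1 : G) * X a * (1 : G) * Z (l * (a * b)) * d0 := by group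
        _ = d0 * (t * X b * t) * (d0 * d0) * X a * (d0 * d0) * Z (l * (a * b)) * d0 := by rw [dd]
        _ = _ := by group
    rw [h1, h4, hδ', hδY, h2] at h3
    exact mul_left_cancel (mul_left_cancel h3)
  -- `δ` is semilinear
  obtain ⟨μ, hμ0, hμ⟩ : ∃ μ, μ ≠ 0 ∧ ∀ a, δ a = μ * F4.fr a := by
    rcases F4.lin_or_semi hδadd hδinj with h1 | h1
    · exfalso
      have h0 : δ 1 ≠ 0 := fun hc => absurd (hδinj 1 hc) (by decide)
      have h2 := hδZ 1 1
      have h3 := hδZ 1 F4.w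
      have h4 := hd0Sem (l * (1 * 1)) (l * (δ 1 * δ 1)) (by rw [hd0i]; exact h2)
      have e1 : F4.w * (l * (1 * 1)) = l * (1 * F4.w) := by ring
      rw [e1, hd0i, h3, h1 F4.w] at h4
      have h5 := h.Z_inj h4
      generalize δ 1 = q at h0 h5
      clear * - h0 h5 hl
      revert l q
      decide
    · exact ⟨δ 1, fun hc => absurd (hδinj 1 hc) (by decide), h1⟩
  obtain ⟨ν, hν⟩ : ∃ ν, μ * ν = 1 := by
    clear * - hμ0
    revert μ
    decide
  have hν0 : ν ≠ 0 := by
    rintro rfl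
    rw [mul_zero] at hν
    exact absurd hν (by decide)
  -- final coordinates
  let X2 : F4 → G := fun a => X (ν * a)
  let Y2 : F4 → G := fun b => t * X (ν * b) * t
  let Z2 : F4 → G := fun c => Z (l * (ν * ν * c))
  have hfr : ∀ a, δ (ν * a) = ν * F4.fr a := by
    intro a
    rw [hμ]
    clear * - hν
    revert μ ν a
    decide
  have k : UTtd X2 Y2 Z2 t d0 :=
    { XX := fun a b => by
        change X (ν * a) * X (ν * b) = X (ν * (a + b))
        rw [h.XX, mul_add]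
      YY := fun a b => by
        have := hc.YY (ν * a) (ν * b)
        change t * X (ν * a) * t * (t * X (ν * b) * t) = t * X (ν * (a + b)) * t
        rw [mul_add]
        exact this
      ZZ := fun a b => by
        change Z (l * (ν * ν * a)) * Z (l * (ν * ν * b)) = Z (l * (ν * ν * (a + b)))
        rw [h.ZZ]
        congr 1
        ring
      XY := fun a b => by
        have h1 := hc.XY (ν * a) (ν * b)
        change X (ν * a) * (t * X (ν * b) * t) = t * X (ν * b) * t * (X (ν * a) * Z (l * (ν * a * (ν * b)))) at h1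
        change X (ν * a) * (t * X (ν * b) * t) = t * X (ν * b) * t * (X (ν * a) * Z (l * (ν * ν * (a * b))))
        rw [h1]
        congr 4
        ring
      ZX := fun c a => h.ZX _ _
      ZY := fun c b => hc.ZY _ _
      Z1 := fun a ha => h.Z1 _ (by
        clear * - ha hν0 hl
        revert l ν a
        decide)
      tt := tt
      tX := fun a => hc.tX _
      tZ := fun c => htZ _
      dd := dd
      td := htd
      dX := fun a => by
        change d0 * X (ν * a) = X (ν * F4.fr a) * d0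
        rw [← hfr, ← hδ', mul_assoc (d0 * X (ν * a)), dd, mul_one]
      dY := fun a => by
        change d0 * (t * X (ν * a) * t) = t * X (ν * F4.fr a) * t * d0
        rw [← hfr, ← hδY, mul_assoc (d0 * (t * X (ν * a) * t)), dd, mul_one]
      dZ := fun a => by
        change d0 * Z (l * (ν * ν * a)) = Z (l * (ν * ν * F4.fr a)) * d0
        have h1 := hδZ ν (ν * a)
        have h2 := hfr 1
        rw [mul_one] at h2
        rw [h2, hfr] at h1
        have e1 : l * (ν * (ν * a)) = l * (ν * ν * a) := by ring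
        have e2 : l * (ν * F4.fr 1 * (ν * F4.fr a)) = l * (ν * ν * F4.fr a) := by
          have : F4.fr 1 = 1 := rfl
          rw [this]; ring
        rw [e1, e2] at h1
        rw [← h1, mul_assoc (d0 * Z (l * (ν * ν * a))), dd, mul_one] }
  -- the group `R`
  have kR : ∀ x, x ∈ k.R ↔ x ∈ h.R := by
    intro x
    rw [← h.change_R hl hY']
    constructor
    · rintro ⟨b, a, c, rfl⟩
      refine ⟨ν * b, ν * a, ν * ν * c, rfl⟩
    · rintro ⟨b, a, c, rfl⟩
      have e1 : ∀ q, ν * (μ * q) = q := by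
        intro q
        have : ν * (μ * q) = μ * ν * q := by ring
        rw [this, hν, one_mul]
      refine ⟨μ * b, μ * a, μ * (μ * c), ?_⟩
      change t * X b * t * X a * Z (l * c) =
        t * X (ν * (μ * b)) * t * X (ν * (μ * a)) * Z (l * (ν * ν * (μ * (μ * c))))
      have e2 : ν * ν * (μ * (μ * c)) = c := by
        have : ν * ν * (μ * (μ * c)) = ν * (μ * (ν * (μ * c))) := by ring
        rw [this, e1, e1]
      rw [e1, e1, e2]
  -- the elements of `T`
  obtain ⟨n, hn, hsyl⟩ := O.syl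
  have hT : ∀ τ ∈ T, τ = 1 ∨ τ = t ∨ τ = d0 ∨ τ = t * d0 := by
    have key1 : ∀ τ ∈ T, h.Fx τ → τ = 1 ∨ τ = d0 := by
      intro τ hτ hF
      rcases h.lin_or_sem (Or.inl hF) with h1 | h1
      · exact Or.inl (O.tH τ hτ hF h1)
      · right
        have h2 := O.tH _ (mul_mem hτ hd0) (h.Fx_Fx hF hd0Fx) (h.Sem_Sem (Or.inl hd0Fx) h1 hd0Sem (Or.inl hF))
        calc τ = τ * d0 * d0 := by rw [mul_assoc, dd, mul_one]
          _ = d0 := by rw [h2, one_mul]
    intro τ hτ
    rcases O.tFS τ hτ with h1 | h1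
    · rcases key1 τ hτ h1 with h2 | h2
      · exact Or.inl h2
      · exact Or.inr (Or.inr (Or.inl h2))
    · have h3 : τ = τ * t * t := by rw [mul_assoc, tt, mul_one]
      rcases key1 _ (mul_mem hτ ht) (h.Sw_Sw h1 htS) with h2 | h2
      · rw [h2, one_mul] at h3
        exact Or.inr (Or.inl h3)
      · rw [h2, ← htd] at h3
        exact Or.inr (Or.inr (Or.inr h3))
  obtain ⟨S', hS'⟩ := exists_conj_sylow S n
  have hPS : (S' : Subgroup G) = k.S := by
    ext x
    refine (hS' x).trans ((hsyl x).trans ?_)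
    rw [k.mem_S, k.mem_RT', k.mem_RT']
    have hel : ∀ y : G, (∃ b a c, y = el X2 Y2 Z2 b a c * t) ↔ y * t ∈ h.R := by
      intro y
      rw [← kR, k.mem_R]
      constructor
      · rintro ⟨b, a, c, rfl⟩
        exact ⟨b, a, c, by rw [mul_assoc, tt, mul_one]⟩
      · rintro ⟨b, a, c, hy⟩
        exact ⟨b, a, c, by rw [← hy, mul_assoc, tt, mul_one]⟩
    rw [hel, hel, kR, kR]
    constructor
    · rintro ⟨τ, hτ, hx⟩
      rcases hT τ hτ with rfl | rfl | rfl | rfl
      · rw [inv_one, mul_one] at hx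
        exact Or.inl (Or.inl hx)
      · rw [hti] at hx
        exact Or.inl (Or.inr hx)
      · rw [hd0i] at hx
        exact Or.inr (Or.inl hx)
      · rw [mul_inv_rev, hd0i, hti, ← mul_assoc] at hx
        exact Or.inr (Or.inr hx)
    · rintro ((hx | hx) | (hx | hx))
      · exact ⟨1, one_mem _, by rw [inv_one, mul_one]; exact hx⟩
      · exact ⟨t, ht, by rw [hti]; exact hx⟩
      · exact ⟨d0, hd0, by rw [hd0i]; exact hx⟩
      · exact ⟨t * d0, mul_mem ht hd0, by rw [mul_inv_rev, hd0i, hti, ← mul_assoc]; exact hx⟩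
  -- conjugacy
  have hw : ∀ a, a ≠ 0 → IsConj (X a) (X (F4.w * a)) := by
    intro a ha
    have h1 : t * X a * t = Y (l * a) * Z (g a) := hY' a
    have h2 : t * X (F4.w * a) * t = Y (l * (F4.w * a)) * Z (g (F4.w * a)) := hY' _
    have h3 : ρ * (t * X a * t) * ρ⁻¹ = t * X (F4.w * a) * t * Z (g (F4.w * a) + F4.w * g a) := by
      rw [h1, h2]
      calc ρ * (Y (l * a) * Z (g a)) * ρ⁻¹ = (ρ * Y (l * a) * ρ⁻¹) * (ρ * Z (g a) * ρ⁻¹) := by group
        _ = Y (F4.w * (l * a)) * Z (F4.w * g a) := by rw [ρY, ρZ]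
        _ = Y (l * (F4.w * a)) * (Z (g (F4.w * a)) * Z (g (F4.w * a) + F4.w * g a)) := by
          rw [h.ZZ]
          congr 2
          · ring
          · generalize g (F4.w * a) = q
            generalize g a = r
            clear * -
            revert q r
            decide
        _ = _ := by group
    have h4 : t * (ρ * (t * X a * t) * ρ⁻¹) * t = X (F4.w * a) * Z (g (F4.w * a) + F4.w * g a) := by
      rw [h3]
      calc t * (t * X (F4.w * a) * t * Z (g (F4.w * a) + F4.w * g a)) * t =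
          (t * t) * X (F4.w * a) * (t * Z (g (F4.w * a) + F4.w * g a)) * t := by group
        _ = X (F4.w * a) * (t * Z (g (F4.w * a) + F4.w * g a)) * t := by rw [tt, one_mul]
        _ = X (F4.w * a) * (Z (g (F4.w * a) + F4.w * g a) * t) * t := by rw [htZ]
        _ = X (F4.w * a) * Z (g (F4.w * a) + F4.w * g a) * (t * t) := by group
        _ = _ := by rw [tt, mul_one]
    have h5 : IsConj (X a) (X (F4.w * a) * Z (g (F4.w * a) + F4.w * g a)) := by
      refine isConj_iff.2 ⟨t * ρ * t, ?_⟩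
      rw [← h4]
      calc t * ρ * t * X a * (t * ρ * t)⁻¹ = t * (ρ * (t * X a * t⁻¹) * ρ⁻¹) * t⁻¹ := by group
        _ = _ := by rw [hti]
    have hwa : F4.w * a ≠ 0 := by
      clear * - ha
      revert a
      decide
    have h6 := h.conj_XZ (F4.w * a) (g (F4.w * a) + F4.w * g a) 0 hwa
    rw [h.Z0, mul_one] at h6
    exact h5.trans h6
  have hall : ∀ a b, a ≠ 0 → b ≠ 0 → IsConj (X a) (X b) := by
    intro a b ha hb
    have key : ∀ a b : F4, a ≠ 0 → b ≠ 0 → b = a ∨ b = F4.w * a ∨ b = F4.w * (F4.w * a) := by decide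
    have hwa : F4.w * a ≠ 0 := by
      clear * - ha
      revert a
      decide
    rcases key a b ha hb with rfl | rfl | rfl
    · exact IsConj.refl _
    · exact hw a ha
    · exact (hw a ha).trans (hw _ hwa)
  obtain ⟨ε, hεt, hε⟩ := h.exists_eps O ρZ ht htZ
  refine Big.dead (X := X2) (Y := Y2) (Z := Z2) (t := t) (d := d0) (P := S') ⟨k, hPS, ?_, ?_, ε, hεt, ?_⟩
    (fun f => hG f d0)
  · -- `maxT`
    intro T' hT' hC
    obtain ⟨m, hm⟩ := isConj_iff.1 (hall 1 ν (by decide) hν0)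
    have h1 := K (T'.map (MulAut.conj m⁻¹).toMonoidHom) (isPGroup_conj hT' _) (by
      rintro _ ⟨x, hx, rfl⟩
      rw [mem_centralizer_singleton_iff]
      have h2 := mem_centralizer_singleton_iff.1 (hC hx)
      change x * X (ν * 1) = X (ν * 1) * x at h2
      rw [mul_one, ← hm] at h2
      change m⁻¹ * x * m⁻¹⁻¹ * X 1 = X 1 * (m⁻¹ * x * m⁻¹⁻¹)
      calc m⁻¹ * x * m⁻¹⁻¹ * X 1 = m⁻¹ * (x * (m * X 1 * m⁻¹)) * m := by group
        _ = m⁻¹ * (m * X 1 * m⁻¹ * x) * m := by rw [h2]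
        _ = _ := by group)
    rwa [Nat.card_congr (T'.equivMapOfInjective _ (MulAut.conj m⁻¹).injective).toEquiv.symm] at h1
  · intro a c ha
    change IsConj (X (ν * 1)) (X (ν * a) * Z (l * (ν * ν * c)))
    have hνa : ν * a ≠ 0 := by
      clear * - ha hν0
      revert ν a
      decide
    rw [mul_one]
    have h6 := h.conj_XZ (ν * a) 0 (l * (ν * ν * c)) hνa
    rw [h.Z0, mul_one] at h6
    exact (hall ν _ hν0 hνa).trans h6
  · intro c
    change ε * Z (l * (ν * ν * c)) * ε⁻¹ = Z (l * (ν * ν * (F4.w * c)))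
    rw [hε]
    congr 1
    ring

/-- **(T4), growth.** -/
theorem main [Finite G] (S : Sylow 2 G) {p : Prop} {d ρ : G} (hRS : h.R ≤ S) (small : Small h S p d)
    (ρ3 : IsPGroup 3 (zpowers ρ))
    (ρX : ∀ a, ρ * X a * ρ⁻¹ = X a) (ρY : ∀ a, ρ * Y a * ρ⁻¹ = Y (F4.w * a))
    (ρZ : ∀ a, ρ * Z a * ρ⁻¹ = Z (F4.w * a)) (hG : ∀ f : G →* ℤˣ, ∀ g, f g = 1)
    (K : p → ∀ T' : Subgroup G, IsPGroup 2 T' → T' ≤ centralizer ({X 1} : Set G) → Nat.card T' ≤ 32) :
    (∀ s ∈ S, h.Fx s) ∨ J2Form G := by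
  by_cases hF : ∀ s ∈ S, h.Fx s
  · exact Or.inl hF
  right
  push Not at hF
  obtain ⟨s, hs, hsF⟩ := hF
  have hFS := h.growth S.isPGroup' hRS small
  have hsw : ∃ s ∈ S, h.Sw s := ⟨s, hs, (hFS s hs).resolve_left hsF⟩
  have hsm : ∀ s ∈ S, h.Fx s → h.Lin s → s ∈ h.R := by
    intro s hs h1 h2
    rcases small.cov s hs h1.1 with h3 | ⟨hp, h3⟩
    · exact h3
    · exfalso
      have h4 : h.Sem d := by
        intro c c' hc
        rw [small.dZ hp, mul_inv_cancel_right] at hc ⊢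
        rw [← h.Z_inj hc]
        congr 1
        clear * -
        revert c
        decide
      have hdFx : h.Fx d := by
        constructor
        · rintro _ ⟨a, c, rfl⟩
          rw [small.d_el h hp, mul_inv_cancel_right]
          exact ⟨_, _, rfl⟩
        · rintro _ ⟨a, c, rfl⟩
          rw [small.d_el h hp, mul_inv_cancel_right]
          exact ⟨_, _, rfl⟩
      exact h.not_Lin_Sem (Or.inl (h.R_Fx h3)) (h.Lin_R h3) (h.Lin_Sem (Or.inl hdFx) h2 h4 (Or.inl h1))
  obtain ⟨P, T, O⟩ := h.exists_out' S hRS hFS hsm hsw ρ3 ρX ρY ρZ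
  by_cases hp : p
  · exact (h.final_B S hRS small hp ρX ρY ρZ O hsw hG (K hp)).elim
  · exact h.final_A S small hp O hsw hG

end UT

end Cfsg.Agent.GH.L2.TFour
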