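import Cfsg.Agent.GH.L2.TFourGF

/-!
# Project GH, branch GH-L2, case (T4): growth, in the form of `T4Defs` / `T4Main.Ready`
-/

set_option autoImplicit false

namespace Cfsg.Agent.GH.L2.TFour

open Subgroup Cfsg.Agent.J2Sylow.Model Cfsg.Agent.J2Sylow.Model.F4 Tool

variable {G : Type*} [Group G]

/-- **(T4), growth.**  `S ∩ N(E)` is `L` or `L⟨d⟩` in coordinates.  Then `S ≤ N(E)`, or some Sylow 2-subgroup has
the `J2` coordinates. -/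
theorem growth_main [Finite G] (S : Sylow 2 G) {E : Subgroup G} {X Y Z : F4 → G} {ρ : G}
    (ut : T4Defs.UT X Y Z) (memE : ∀ g, g ∈ E ↔ ∃ a c, g = X a * Z c) (three : ∃ k, ρ ^ (3 ^ k) = 1)
    (rX : ∀ a, ρ * X a = X a * ρ) (rY : ∀ c, ρ * Y c * ρ⁻¹ = Y (w * c)) (rZ : ∀ c, ρ * Z c * ρ⁻¹ = Z (w * c))
    (cases : (∀ g, (g ∈ (S : Subgroup G) ∧ g ∈ normalizer (E : Set G)) ↔ ∃ a b c, g = Y b * X a * Z c) ∨
      ∃ d, d * d = 1 ∧ (∀ a, d * X a = X (fr a) * d) ∧ (∀ b, d * Y b = Y (fr b) * d) ∧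
        (∀ c, d * Z c = Z (fr c) * d) ∧
        ∀ g, (g ∈ (S : Subgroup G) ∧ g ∈ normalizer (E : Set G)) ↔
          ∃ a b c, g = Y b * X a * Z c ∨ g = Y b * X a * Z c * d)
    (K : ∀ T' : Subgroup G, IsPGroup 2 T' → T' ≤ centralizer ({X 1} : Set G) → Nat.card T' ≤ 32)
    (hG : ∀ f : G →* ℤˣ, ∀ g, f g = 1) :
    (S : Subgroup G) ≤ normalizer (E : Set G) ∨
      ∃ (X' Y' Z' : F4 → G) (t : G) (S' : Sylow 2 G), T4Defs.UT X' Y' Z' ∧ t * t = 1 ∧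
        (∀ a, t * X' a = Y' (fr a) * t) ∧ (∀ a, t * Z' a = Z' (fr a) * t) ∧
        ∀ g, g ∈ (S' : Subgroup G) ↔ ∃ a b c, g = Y' b * X' a * Z' c ∨ g = Y' b * X' a * Z' c * t := by
  have h : UT X Y Z :=
    { XX := ut.XX, YY := ut.YY, ZZ := ut.ZZ, XY := ut.XY, ZX := ut.ZX, ZY := ut.ZY, Z1 := ut.Z1 }
  have hE : E = h.E := by
    ext g
    rw [memE, h.mem_E]
    constructor
    · rintro ⟨a, c, hg⟩
      refine ⟨a, c, ?_⟩
      rw [hg]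
      unfold el
      rw [h.Y0, one_mul]
    · rintro ⟨a, c, hg⟩
      refine ⟨a, c, ?_⟩
      rw [hg]
      unfold el
      rw [h.Y0, one_mul]
  subst hE
  have hNE : ∀ g : G, (∀ x ∈ h.E, g * x * g⁻¹ ∈ h.E) → g ∈ normalizer (h.E : Set G) := by
    intro g hg
    refine mem_normalizer_iff.2 fun y => ⟨fun hy => hg y hy, fun hy => ?_⟩
    have h8 := UT.conj_inv_mem h rfl hg _ hy
    have e : g⁻¹ * (g * y * g⁻¹) * g = y := by group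
    rwa [e] at h8
  have ρ3 : IsPGroup 3 (zpowers ρ) := by
    obtain ⟨k, hk⟩ := three
    rintro ⟨x, hx⟩
    obtain ⟨n, rfl⟩ := mem_zpowers_iff.1 hx
    refine ⟨k, Subtype.ext ?_⟩
    change (ρ ^ n) ^ 3 ^ k = 1
    rw [← zpow_natCast, ← zpow_mul, mul_comm, zpow_mul, zpow_natCast, hk, one_zpow]
  have ρX : ∀ a, ρ * X a * ρ⁻¹ = X a := fun a => by rw [rX, mul_inv_cancel_right]
  have fin : (h.R ≤ (S : Subgroup G)) → ∀ (p : Prop) (d : G), UT.Small h S p d →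
      (S : Subgroup G) ≤ normalizer (h.E : Set G) ∨
      ∃ (X' Y' Z' : F4 → G) (t : G) (S' : Sylow 2 G), T4Defs.UT X' Y' Z' ∧ t * t = 1 ∧
        (∀ a, t * X' a = Y' (fr a) * t) ∧ (∀ a, t * Z' a = Z' (fr a) * t) ∧
        ∀ g, g ∈ (S' : Subgroup G) ↔ ∃ a b c, g = Y' b * X' a * Z' c ∨ g = Y' b * X' a * Z' c * t := by
    intro hRS p d hs
    rcases h.main S hRS hs ρ3 ρX rY rZ hG (fun _ => K) with h1 | ⟨X', Y', Z', t, S', hu, tt, htX, htZ, hmem⟩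
    · exact Or.inl fun s hs => hNE s (h1 s hs).1
    · refine Or.inr ⟨X', Y', Z', t, S', ?_, tt, htX, htZ, hmem⟩
      exact ⟨hu.XX, hu.YY, hu.ZZ, hu.XY, hu.ZX, hu.ZY, hu.Z1⟩
  rcases cases with hc | ⟨d, dd, dX, dY, dZ, hc⟩
  · refine fin (fun g hg => ?_) False 1 ⟨fun s hs hsE => Or.inl ?_, fun hf => hf.elim, fun hf => hf.elim,
      fun hf => hf.elim, fun hf => hf.elim, fun hf => hf.elim⟩
    · obtain ⟨b, a, c, hg⟩ := hg
      exact ((hc g).2 ⟨a, b, c, hg⟩).1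
    · obtain ⟨a, b, c, hs⟩ := (hc s).1 ⟨hs, hNE s hsE⟩
      exact ⟨b, a, c, hs⟩
  · refine fin (fun g hg => ?_) True d ⟨fun s hs hsE => ?_, fun _ => ?_, fun _ => dd, fun _ => dX, fun _ => dY,
      fun _ => dZ⟩
    · obtain ⟨b, a, c, hg⟩ := hg
      exact ((hc g).2 ⟨a, b, c, Or.inl hg⟩).1
    · obtain ⟨a, b, c, hs | hs⟩ := (hc s).1 ⟨hs, hNE s hsE⟩
      · exact Or.inl ⟨b, a, c, hs⟩
      · refine Or.inr ⟨trivial, b, a, c, ?_⟩
        rw [hs, mul_assoc, dd, mul_one]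
        rfl
    · refine ((hc d).2 ⟨0, 0, 0, Or.inr ?_⟩).1
      rw [h.X0, h.Y0, h.Z0, one_mul, one_mul, one_mul]

end Cfsg.Agent.GH.L2.TFour
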