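import Cfsg.Agent.GH.L2.TFourT

/-!
# Project GH, branch GH-L2, case (T4): `t` is not fused into `R` in `C_G(U)`

`R⟨t⟩` Sylow in `C_G(U)`; Lemma W in `C_G(U)/U`.
-/

set_option autoImplicit false

namespace Cfsg.Agent.GH.L2.TFour

open Subgroup Cfsg.Agent.J2Sylow.Model Tool

variable {G : Type*} [Group G]

/-- a maximal `p`-subgroup of `D` (by order) as a Sylow subgroup of `D` -/
theorem exists_sylow_of_max [Finite G] {p : ℕ} [Fact p.Prime] {D S : Subgroup G} (hSD : S ≤ D) (hS2 : IsPGroup p S)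
    (hmax : ∀ T : Subgroup G, IsPGroup p T → S ≤ T → T ≤ D → Nat.card T ≤ Nat.card S) :
    ∃ P : Sylow p D, (P : Subgroup D) = S.subgroupOf D := by
  have hS' : IsPGroup p (S.subgroupOf D) := hS2.comap_subtype
  obtain ⟨P, hP⟩ := hS'.exists_le_sylow
  have hle : S ≤ (P : Subgroup D).map D.subtype := fun x hx =>
    ⟨⟨x, hSD hx⟩, hP (mem_subgroupOf.mpr hx), rfl⟩
  have heq : S = (P : Subgroup D).map D.subtype := by
    apply Subgroup.eq_of_le_of_card_ge hle
    refine hmax _ (P.isPGroup'.map _) hle ?_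
    rintro _ ⟨y, -, rfl⟩
    exact y.2
  refine ⟨P, ?_⟩
  ext x
  rw [mem_subgroupOf]
  constructor
  · intro hx
    rw [heq]
    exact ⟨x, hx, rfl⟩
  · intro hx
    rw [heq] at hx
    obtain ⟨y, hy, hyx⟩ := hx
    rw [← Subtype.ext hyx]
    exact hy

namespace UTt

variable {X Y Z : F4 → G} {t : G} (h : UTt X Y Z t)
include h

theorem mem_centU {g : G} : g ∈ centralizer (h.U : Set G) ↔ ∀ c, g * Z c = Z c * g := by
  rw [mem_centralizer_iff]
  constructor
  · intro hg c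
    exact (hg _ ⟨c, rfl⟩).symm
  · rintro hg _ ⟨c, rfl⟩
    exact (hg c).symm

theorem not_fused [Finite G] (h2 : IsPGroup 2 h.RT)
    (hmax : ∀ T : Subgroup G, IsPGroup 2 T → h.RT ≤ T → T ≤ centralizer (h.U : Set G) →
      Nat.card T ≤ Nat.card h.RT) {k : G} (hk : ∀ c, k * Z c = Z c * k) : k * t * k⁻¹ ∉ h.R := by
  have : Fact (Nat.Prime 2) := ⟨Nat.prime_two⟩
  set D : Subgroup G := centralizer (h.U : Set G) with hD
  have hRTD : h.RT ≤ D := fun g hg => h.mem_centU.2 (h.RT_cent hg)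
  have hRD : h.R ≤ D := h.R_le.trans hRTD
  have hUD : h.U ≤ D := (h.U_le_E.trans h.E_le).trans hRD
  have htD : t ∈ D := hRTD h.t_mem
  have hkD : k ∈ D := h.mem_centU.2 hk
  set N : Subgroup D := h.U.subgroupOf D with hN
  have hNn : N.Normal := by
    constructor
    intro n hn g
    rw [hN, mem_subgroupOf] at hn ⊢
    obtain ⟨c, hc⟩ := hn
    refine ⟨c, ?_⟩
    push_cast
    rw [hc, (h.mem_centU.1 g.2 c)]
    group
  let φ : D →* D ⧸ N := QuotientGroup.mk' N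
  have hφs : Function.Surjective φ := QuotientGroup.mk'_surjective N
  have hφ : ∀ x y : D, φ x = φ y ↔ ∃ c, (y : G) = x * Z c := by
    intro x y
    change ((x : D ⧸ N) = (y : D ⧸ N)) ↔ _
    rw [QuotientGroup.eq, hN, mem_subgroupOf]
    constructor
    · rintro ⟨c, hc⟩
      refine ⟨c, ?_⟩
      rw [← hc]
      push_cast
      group
    · rintro ⟨c, hc⟩
      refine ⟨c, ?_⟩
      push_cast
      rw [hc]
      group
  obtain ⟨P, hP⟩ := exists_sylow_of_max hRTD h2 hmax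
  have helD : ∀ b a c, el X Y Z b a c ∈ D := fun b a c => hRD ⟨b, a, c, rfl⟩
  have helc : ∀ b a c, φ ⟨el X Y Z b a c, helD b a c⟩ = φ ⟨el X Y Z b a 0, helD b a 0⟩ := by
    intro b a c
    rw [hφ]
    refine ⟨c, ?_⟩
    change el X Y Z b a 0 = el X Y Z b a c * Z c
    rw [← h.el_Z, h.el_mul]
    congr 1
    · rw [add_zero]
    · rw [add_zero]
    · rw [F4.add_self]
      clear * -
      revert a
      decide
  have hmul : ∀ x y : D, φ (x * y) = φ x * φ y := fun x y => map_mul φ x y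
  have htel : ∀ b a c, φ (⟨t, htD⟩ * ⟨el X Y Z b a c, helD b a c⟩) =
      φ (⟨el X Y Z a b 0, helD a b 0⟩ * ⟨t, htD⟩) := by
    intro b a c
    rw [hmul ⟨el X Y Z a b 0, helD a b 0⟩ ⟨t, htD⟩, ← helc a b (c + a * b), ← hmul]
    congr 1
    exact Subtype.ext (h.t_el b a c)
  let S' : Subgroup (D ⧸ N) := (h.RT.subgroupOf D).map φ
  let E' : Subgroup (D ⧸ N) := (h.R.subgroupOf D).map φ
  let d' : D ⧸ N := φ ⟨t, htD⟩
  have hE'mem : ∀ x, x ∈ E' ↔ ∃ b a, x = φ ⟨el X Y Z b a 0, helD b a 0⟩ := by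
    intro x
    constructor
    · rintro ⟨y, hy, rfl⟩
      obtain ⟨b, a, c, hy'⟩ := mem_subgroupOf.1 hy
      refine ⟨b, a, ?_⟩
      rw [← helc b a c]
      congr 1
      exact Subtype.ext hy'
    · rintro ⟨b, a, rfl⟩
      exact ⟨_, mem_subgroupOf.2 ⟨b, a, 0, rfl⟩, rfl⟩
  have hE'inj : ∀ b a b' a', φ ⟨el X Y Z b a 0, helD b a 0⟩ = φ ⟨el X Y Z b' a' 0, helD b' a' 0⟩ →
      b = b' ∧ a = a' := by
    intro b a b' a' he
    rw [hφ] at he
    obtain ⟨c, hc⟩ := he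
    change el X Y Z b' a' 0 = el X Y Z b a 0 * Z c at hc
    rw [← h.el_Z, h.el_mul] at hc
    obtain ⟨h3, h4, -⟩ := h.el_inj hc
    rw [add_zero] at h3 h4
    exact ⟨h3.symm, h4.symm⟩
  have hcent : ∀ x, x ∈ E' ⊓ centralizer ({d'} : Set (D ⧸ N)) ↔ ∃ a, x = φ ⟨el X Y Z a a 0, helD a a 0⟩ := by
    intro x
    rw [mem_inf, hE'mem, mem_centralizer_singleton_iff]
    constructor
    · rintro ⟨⟨b, a, rfl⟩, h3⟩
      have h4 : φ ⟨el X Y Z b a 0, helD b a 0⟩ * φ ⟨t, htD⟩ = φ ⟨el X Y Z a b 0, helD a b 0⟩ * φ ⟨t, htD⟩ := by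
        rw [h3, ← hmul, htel, hmul]
      obtain ⟨h5, -⟩ := hE'inj _ _ _ _ (mul_right_cancel h4)
      exact ⟨a, by rw [h5]⟩
    · rintro ⟨a, rfl⟩
      refine ⟨⟨a, a, rfl⟩, ?_⟩
      rw [← hmul, ← hmul, htel]
  have C : WrFour.Cfg S' E' d' :=
    { le := Subgroup.map_mono fun x hx => mem_subgroupOf.2 (h.R_le (mem_subgroupOf.1 hx))
      card := by
        have f : Function.Bijective (fun x : F4 × F4 =>
            (⟨φ ⟨el X Y Z x.1 x.2 0, helD _ _ _⟩, (hE'mem _).2 ⟨_, _, rfl⟩⟩ : E')) := by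
          constructor
          · intro a b hab
            obtain ⟨h3, h4⟩ := hE'inj _ _ _ _ (congrArg Subtype.val hab)
            exact Prod.ext h3 h4
          · rintro ⟨x, hx⟩
            obtain ⟨b, a, rfl⟩ := (hE'mem _).1 hx
            exact ⟨(b, a), rfl⟩
        rw [← Nat.card_congr (Equiv.ofBijective _ f), Nat.card_prod, card_F4]
      sq := by
        intro x hx
        obtain ⟨b, a, rfl⟩ := (hE'mem _).1 hx
        rw [← hmul, ← map_one φ, hφ]
        refine ⟨a * b, ?_⟩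
        change (1 : G) = el X Y Z b a 0 * el X Y Z b a 0 * Z (a * b)
        rw [h.el_sq, h.Zsq]
      mem := ⟨_, mem_subgroupOf.2 h.t_mem, rfl⟩
      nmem := by
        rintro hc
        obtain ⟨b, a, h3⟩ := (hE'mem _).1 hc
        change φ ⟨t, htD⟩ = _ at h3
        rw [hφ] at h3
        obtain ⟨c, hc⟩ := h3
        change el X Y Z b a 0 = t * Z c at hc
        rw [h.tZ] at hc
        refine h.t_nmem ((mul_mem_cancel_left (show Z c ∈ h.R from (h.U_le_E.trans h.E_le) ⟨c, rfl⟩)).1 ?_)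
        rw [← hc]
        exact ⟨_, _, _, rfl⟩
      dd := by
        change φ ⟨t, htD⟩ * φ ⟨t, htD⟩ = 1
        rw [← hmul, ← map_one φ]
        congr 1
        exact Subtype.ext h.tt
      cent := by
        have f : Function.Bijective (fun a : F4 =>
            (⟨φ ⟨el X Y Z a a 0, helD _ _ _⟩, (hcent _).2 ⟨_, rfl⟩⟩ :
              (E' ⊓ centralizer ({d'} : Set (D ⧸ N)) : Subgroup (D ⧸ N)))) := by
          constructor
          · intro a b hab
            exact (hE'inj _ _ _ _ (congrArg Subtype.val hab)).1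
          · rintro ⟨x, hx⟩
            obtain ⟨a, rfl⟩ := (hcent _).1 hx
            exact ⟨a, rfl⟩
        rw [← Nat.card_congr (Equiv.ofBijective _ f), card_F4]
      cov := by
        rintro _ ⟨s, hs, rfl⟩
        rcases h.mem_RT'.1 (mem_subgroupOf.1 hs) with h3 | ⟨b, a, c, h3⟩
        · exact Or.inl ⟨s, mem_subgroupOf.2 h3, rfl⟩
        · right
          change φ ⟨t, htD⟩ * φ s ∈ E'
          have h4 : s = ⟨el X Y Z b a c, helD b a c⟩ * ⟨t, htD⟩ := Subtype.ext h3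
          rw [h4, hmul, ← mul_assoc, ← hmul, htel, hmul, mul_assoc, ← hmul]
          have h5 : (⟨t, htD⟩ * ⟨t, htD⟩ : D) = 1 := Subtype.ext h.tt
          rw [h5, map_one, mul_one]
          exact (hE'mem _).2 ⟨_, _, rfl⟩ }
  have hP' : ((P.mapSurjective hφs : Sylow 2 (D ⧸ N)) : Subgroup (D ⧸ N)) = S' := by
    rw [Sylow.coe_mapSurjective, hP]
  intro hc
  refine C.not_conj (P.mapSurjective hφs) hP' (φ ⟨k, hkD⟩) ?_
  refine ⟨⟨k, hkD⟩ * ⟨t, htD⟩ * ⟨k, hkD⟩⁻¹, mem_subgroupOf.2 hc, ?_⟩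
  rw [map_mul, map_mul, map_inv]

end UTt

end Cfsg.Agent.GH.L2.TFour
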