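import Cfsg.Agent.GH.L2.Tool
import Cfsg.Agent.Transfer.ThompsonTransfer

/-!
# Project GH, branch GH-L2: Sylow 2-subgroups `V₄ wr 2`

`S` is a Sylow 2-subgroup of the finite group `G`, `S = E⟨d⟩` with `E` elementary abelian of order 16 and `d` an
involution acting freely on `E`.  Then `d` is not conjugate to an element of `E`; in particular (transfer) `G` has a
subgroup of index two.
-/

set_option autoImplicit false

namespace Cfsg.Agent.GH.L2.WrFour

open Subgroup Tool

variable {G : Type*} [Group G]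

/-- `S = E⟨d⟩`, `E` elementary abelian of order 16, `d` an involution with `|C_E(d)| = 4`. -/
structure Cfg (S E : Subgroup G) (d : G) : Prop where
  le : E ≤ S
  card : Nat.card E = 16
  sq : ∀ e ∈ E, e * e = 1
  mem : d ∈ S
  nmem : d ∉ E
  dd : d * d = 1
  cent : Nat.card (E ⊓ centralizer ({d} : Set G) : Subgroup G) = 4
  cov : ∀ s ∈ S, s ∈ E ∨ d * s ∈ E

namespace Cfg

variable {S E : Subgroup G} {d : G} (C : Cfg S E d)
include C

theorem inv_eq {e : G} (he : e ∈ E) : e⁻¹ = e := inv_eq_iff_mul_eq_one.mpr (C.sq e he)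

theorem d_inv : d⁻¹ = d := inv_eq_iff_mul_eq_one.mpr C.dd

theorem comm {a b : G} (ha : a ∈ E) (hb : b ∈ E) : a * b = b * a := by
  have h := C.sq _ (mul_mem ha hb)
  calc a * b = a * b * (b * a * (b * a)) := by rw [C.sq _ (mul_mem hb ha), mul_one]
    _ = (a * (b * b) * a) * (b * a) := by group
    _ = b * a := by rw [C.sq b hb, mul_one, C.sq a ha, one_mul]

theorem conj_d {e : G} (he : e ∈ E) : d * e * d ∈ E := by
  have h1 : d * e * d ∈ S := mul_mem (mul_mem C.mem (C.le he)) C.mem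
  rcases C.cov _ h1 with h | h
  · exact h
  · exfalso
    have h2 : d * (d * e * d) = e * d := by
      rw [← mul_assoc, ← mul_assoc, C.dd, one_mul]
    rw [h2] at h
    exact C.nmem ((mul_mem_cancel_left he).1 h)

theorem mem_Z {e : G} : e ∈ E ⊓ centralizer ({d} : Set G) ↔ e ∈ E ∧ e * d = d * e := by
  rw [mem_inf, mem_centralizer_singleton_iff]

theorem d_mul {s : G} (hs : s ∈ S) (h : s ∉ E) : ∃ e ∈ E, s = d * e := by
  refine ⟨d * s, (C.cov s hs).resolve_left h, ?_⟩
  rw [← mul_assoc, C.dd, one_mul]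

/-- involutions outside `E` -/
theorem inv_out {s : G} (hs : s ∈ S) (h : s ∉ E) (h1 : s * s = 1) :
    ∃ z, z ∈ E ∧ z * d = d * z ∧ s = d * z := by
  obtain ⟨e, he, rfl⟩ := C.d_mul hs h
  refine ⟨e, he, ?_, rfl⟩
  have h2 : d * e * d = e⁻¹ := by
    rw [eq_inv_iff_mul_eq_one]
    rw [← h1]
    group
  rw [C.inv_eq he] at h2
  calc e * d = (d * d) * (e * d) := by rw [C.dd, one_mul]
    _ = d * (d * e * d) := by group
    _ = d * e := by rw [h2]

theorem exists_n [Finite G] {z : G} (hz : z ∈ E) (hzd : z * d = d * z) : ∃ e ∈ E, e * (d * e * d) = z := by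
  classical
  have : Finite E := Subtype.finite
  let Z : Subgroup G := E ⊓ centralizer ({d} : Set G)
  let f : E →* E :=
    { toFun := fun e => ⟨e * (d * e * d), mul_mem e.2 (C.conj_d e.2)⟩
      map_one' := by
        apply Subtype.ext
        simp [C.dd]
      map_mul' := by
        intro a b
        apply Subtype.ext
        change (a * b : G) * (d * (a * b) * d) = (a * (d * a * d)) * (b * (d * b * d))
        have e1 : d * ((a : G) * b) * d = (d * a * d) * (d * b * d) := by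
          calc d * ((a : G) * b) * d = d * a * (1 : G) * b * d := by group
            _ = d * a * (d * d) * b * d := by rw [C.dd]
            _ = (d * a * d) * (d * b * d) := by group
        rw [e1]
        calc (a : G) * b * (d * a * d * (d * b * d)) = a * (b * (d * a * d)) * (d * b * d) := by group
          _ = a * ((d * a * d) * b) * (d * b * d) := by rw [C.comm b.2 (C.conj_d a.2)]
          _ = _ := by group }
  have hker : ∀ e : E, e ∈ f.ker ↔ (e : G) * d = d * e := by
    intro e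
    rw [MonoidHom.mem_ker]
    constructor
    · intro h
      have h1 : (e : G) * (d * e * d) = 1 := congrArg Subtype.val h
      have h2 : d * (e : G) * d = e := by
        rw [← C.inv_eq e.2, ← mul_eq_one_iff_eq_inv'] at *
        first
          | exact h1
          | simpa [C.inv_eq e.2] using h1
      calc (e : G) * d = (d * e * d) * d := by rw [h2]
        _ = d * e * (d * d) := by group
        _ = d * e := by rw [C.dd, mul_one]
    · intro h
      apply Subtype.ext
      change (e : G) * (d * e * d) = 1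
      rw [← h]
      calc (e : G) * (e * d * d) = (e * e) * (d * d) := by group
        _ = 1 := by rw [C.sq _ e.2, C.dd, mul_one]
  have hk4 : Nat.card f.ker = 4 := by
    rw [← C.cent]
    refine Nat.card_congr
      { toFun := fun x => ⟨x.1.1, C.mem_Z.2 ⟨x.1.2, (hker x.1).1 x.2⟩⟩
        invFun := fun y => ⟨⟨y.1, (C.mem_Z.1 y.2).1⟩, (hker _).2 (C.mem_Z.1 y.2).2⟩
        left_inv := fun x => rfl
        right_inv := fun y => rfl }
  have hr4 : Nat.card f.range = 4 := by
    have h1 := Subgroup.card_mul_index f.ker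
    rw [Subgroup.index_ker, hk4, C.card] at h1
    omega
  have hle : f.range ≤ Z.subgroupOf E := by
    rintro _ ⟨e, rfl⟩
    rw [mem_subgroupOf]
    refine C.mem_Z.2 ⟨(f e).2, ?_⟩
    change (e : G) * (d * e * d) * d = d * (e * (d * e * d))
    calc (e : G) * (d * e * d) * d = e * (d * e) * (d * d) := by group
      _ = e * (d * e * 1) := by rw [C.dd]; group
      _ = e * (d * e * (d * d)) := by rw [C.dd]
      _ = (e * (d * e * d)) * d := by group
      _ = ((d * e * d) * e) * d := by rw [C.comm e.2 (C.conj_d e.2)]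
      _ = d * (e * (d * e * d)) := by group
  have hZ4 : Nat.card (Z.subgroupOf E) = 4 := by
    rw [← C.cent]
    exact Nat.card_congr (subgroupOfEquivOfLe (inf_le_left : Z ≤ E)).toEquiv
  have heq : f.range = Z.subgroupOf E := by
    apply Subgroup.eq_of_le_of_card_ge hle
    rw [hr4, hZ4]
  have h1 : (⟨z, hz⟩ : E) ∈ f.range := by
    rw [heq, mem_subgroupOf]
    exact C.mem_Z.2 ⟨hz, hzd⟩
  obtain ⟨e, he⟩ := h1
  exact ⟨e, e.2, congrArg Subtype.val he⟩

theorem cent_dz {x z : G} (hx : x ∈ S) (hz : z ∈ E) (hzd : z * d = d * z)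
    (h : x * (d * z) = d * z * x) : x * d = d * x := by
  by_cases hxE : x ∈ E
  · have h1 : x * d * z = d * x * z := by
      calc x * d * z = x * (d * z) := by group
        _ = d * (z * x) := by rw [h]; group
        _ = d * (x * z) := by rw [C.comm hz hxE]
        _ = d * x * z := by group
    exact mul_right_cancel h1
  · obtain ⟨e, he, rfl⟩ := C.d_mul hx hxE
    have h1 : e * d * z = d * e * z := by
      have h2 : d * (e * d * z) = d * (d * e * z) := by
        calc d * (e * d * z) = d * e * (d * z) := by group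
          _ = d * z * (d * e) := h
          _ = d * (z * d) * e := by group
          _ = d * (d * z) * e := by rw [hzd]
          _ = d * d * (z * e) := by group
          _ = d * d * (e * z) := by rw [C.comm hz he]
          _ = d * (d * e * z) := by group
      exact mul_left_cancel h2
    have h3 : e * d = d * e := mul_right_cancel h1
    calc d * e * d = d * (e * d) := by group
      _ = d * (d * e) := by rw [h3]

/-- the elements of `C_S(d)` -/
theorem F_cases {x : G} (hx : x ∈ S) (h : x * d = d * x) :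
    (x ∈ E ∧ x * d = d * x) ∨ ∃ z ∈ E, z * d = d * z ∧ x = d * z := by
  by_cases hxE : x ∈ E
  · exact Or.inl ⟨hxE, h⟩
  · obtain ⟨e, he, rfl⟩ := C.d_mul hx hxE
    refine Or.inr ⟨e, he, ?_, rfl⟩
    have h1 : d * (e * d) = d * (d * e) := by
      calc d * (e * d) = d * e * d := by group
        _ = d * (d * e) := h
    exact mul_left_cancel h1

theorem F_sq {x : G} (hx : x ∈ S) (h : x * d = d * x) : x * x = 1 := by
  rcases C.F_cases hx h with ⟨h1, -⟩ | ⟨z, hz, hzd, rfl⟩
  · exact C.sq x h1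
  · calc d * z * (d * z) = d * (z * d) * z := by group
      _ = d * (d * z) * z := by rw [hzd]
      _ = (d * d) * (z * z) := by group
      _ = 1 := by rw [C.dd, C.sq z hz, mul_one]

theorem F_comm {x y : G} (hx : x ∈ S) (h : x * d = d * x) (hy : y ∈ S)
    (h' : y * d = d * y) : x * y = y * x := by
  have hxy : x * y * d = d * (x * y) := by
    calc x * y * d = x * (y * d) := by group
      _ = x * d * y := by rw [h']; group
      _ = d * (x * y) := by rw [h]; group
  have h1 := C.F_sq (mul_mem hx hy) hxy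
  have h2 := C.F_sq hx h
  have h3 := C.F_sq hy h'
  calc x * y = x * y * (x * y) * (y * x) := by
        rw [show x * y * (x * y) * (y * x) = x * y * (x * (y * y) * x) by group, h3, mul_one, h2, mul_one]
    _ = y * x := by rw [h1, one_mul]

open scoped Classical in
/-- a subset of `C_S(d)` has at most 8 elements -/
theorem card_le [Finite G] (A : Subgroup G) (hA : ∀ a ∈ A, a ∈ S ∧ a * d = d * a) :
    Nat.card A ≤ 8 := by
  let Z : Subgroup G := E ⊓ centralizer ({d} : Set G)
  have hZ : Nat.card Z = 4 := C.cent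
  have : Finite (Z × Bool) := inferInstance
  have h8 : Nat.card (Z × Bool) = 8 := by
    rw [Nat.card_prod, hZ, Nat.card_eq_fintype_card, Fintype.card_bool]
  rw [← h8]
  have hd : ∀ a : A, (a : G) ∉ E → d * (a : G) ∈ Z := by
    intro a ha
    rcases C.F_cases (hA a a.2).1 (hA a a.2).2 with ⟨h, -⟩ | ⟨z, hz, hzd, h⟩
    · exact absurd h ha
    · rw [h, ← mul_assoc, C.dd, one_mul]
      exact C.mem_Z.2 ⟨hz, hzd⟩
  let f : A → Z × Bool := fun a =>
    if h : (a : G) ∈ E then (⟨a, C.mem_Z.2 ⟨h, (hA a a.2).2⟩⟩, true) else (⟨d * a, hd a h⟩, false)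
  refine Nat.card_le_card_of_injective f ?_
  intro a b hab
  by_cases ha : (a : G) ∈ E <;> by_cases hb : (b : G) ∈ E <;> simp only [f, ha, hb, dite_true, dite_false,
    Prod.mk.injEq, Subtype.mk.injEq, reduceCtorEq, and_false, and_true] at hab
  · exact Subtype.ext hab
  · exact Subtype.ext (mul_left_cancel hab)

/-- `E` is the only elementary abelian subgroup of order 16 of `S`. -/
theorem unique [Finite G] {k : G} (hk : ∀ e ∈ E, k * e * k⁻¹ ∈ S) :
    ∀ e ∈ E, k * e * k⁻¹ ∈ E := by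
  by_contra hcon
  push Not at hcon
  obtain ⟨e1, he1, h1⟩ := hcon
  have hinv : k * e1 * k⁻¹ * (k * e1 * k⁻¹) = 1 := by
    rw [show k * e1 * k⁻¹ * (k * e1 * k⁻¹) = k * (e1 * e1) * k⁻¹ by group, C.sq e1 he1]
    group
  obtain ⟨z, hz, hzd, hx⟩ := C.inv_out (hk e1 he1) h1 hinv
  have h2 := C.card_le (E.map (MulAut.conj k).toMonoidHom) (by
    rintro _ ⟨e, he, rfl⟩
    have e0 : (MulAut.conj k).toMonoidHom e = k * e * k⁻¹ := rfl
    rw [e0]
    refine ⟨hk e he, C.cent_dz (hk e he) hz hzd ?_⟩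
    rw [← hx]
    rw [show k * e * k⁻¹ * (k * e1 * k⁻¹) = k * (e * e1) * k⁻¹ by group, C.comm he he1]
    group)
  rw [Nat.card_congr (E.equivMapOfInjective _ (MulAut.conj k).injective).toEquiv.symm, C.card] at h2
  omega

theorem mem_F {x : G} : x ∈ S ⊓ centralizer ({d} : Set G) ↔ x ∈ S ∧ x * d = d * x := by
  rw [mem_inf, mem_centralizer_singleton_iff]

/-- the elements of `S` normalise `C_S(d)` -/
theorem F_normal {s x : G} (hs : s ∈ S) (hx : x ∈ S) (h : x * d = d * x) :
    s * x * s⁻¹ * d = d * (s * x * s⁻¹) := by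
  -- it is enough that `s` maps `d` to an element `d z`
  have key : ∃ z ∈ E, z * d = d * z ∧ s⁻¹ * d * s = d * z := by
    refine C.inv_out (mul_mem (mul_mem (inv_mem hs) C.mem) hs) ?_ ?_
    · intro h1
      have h2 : s * (s⁻¹ * d * s) * s⁻¹ ∈ E := by
        by_cases hsE : s ∈ E
        · exact mul_mem (mul_mem hsE h1) (inv_mem hsE)
        · obtain ⟨e, he, rfl⟩ := C.d_mul hs hsE
          have e1 : d * e * ((d * e)⁻¹ * d * (d * e)) * (d * e)⁻¹ =
              d * (e * ((d * e)⁻¹ * d * (d * e)) * e⁻¹) * d := by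
            rw [mul_inv_rev, C.d_inv]
            group
          rw [e1]
          exact C.conj_d (mul_mem (mul_mem he h1) (inv_mem he))
      rw [show s * (s⁻¹ * d * s) * s⁻¹ = d by group] at h2
      exact C.nmem h2
    · rw [show s⁻¹ * d * s * (s⁻¹ * d * s) = s⁻¹ * (d * d) * s by group, C.dd]
      group
  obtain ⟨z, hz, hzd, hdz⟩ := key
  have h3 : x * (d * z) = d * z * x := by
    have hz' : z * x = x * z := C.F_comm (C.le hz) hzd hx h
    calc x * (d * z) = x * d * z := by group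
      _ = d * (x * z) := by rw [h]; group
      _ = d * z * x := by rw [← hz']; group
  rw [← hdz] at h3
  calc s * x * s⁻¹ * d = s * (x * (s⁻¹ * d * s)) * s⁻¹ := by group
    _ = s * ((s⁻¹ * d * s) * x) * s⁻¹ := by rw [h3]
    _ = d * (s * x * s⁻¹) := by group

theorem S_cent_Z {s z : G} (hs : s ∈ S) (hz : z ∈ E) (hzd : z * d = d * z) : s * z = z * s := by
  by_cases hsE : s ∈ E
  · exact C.comm hsE hz
  · obtain ⟨e, he, rfl⟩ := C.d_mul hs hsE
    calc d * e * z = d * (e * z) := by group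
      _ = d * (z * e) := by rw [C.comm he hz]
      _ = d * z * e := by group
      _ = z * (d * e) := by rw [← hzd]; group

/-- conjugation into `S`, extremal form -/
theorem exists_ext [Finite G] (P : Sylow 2 G) (hPS : (P : Subgroup G) = S) {g : G} (h0 : g * d * g⁻¹ ∈ E) :
    ∃ h : G, (∀ x ∈ S, x * d = d * x → h * x * h⁻¹ ∈ S) ∧ h * d * h⁻¹ ∈ E := by
  have : Fact (Nat.Prime 2) := ⟨Nat.prime_two⟩
  subst hPS
  have hE2 : IsPGroup 2 E := P.isPGroup'.to_le C.le
  have hF2 : IsPGroup 2 ((P : Subgroup G) ⊓ centralizer ({d} : Set G) : Subgroup G) :=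
    P.isPGroup'.to_le inf_le_left
  obtain ⟨c, hc, k, hk1, hk2⟩ := conj_two P (H := centralizer ({g * d * g⁻¹} : Set G)) (A := E)
    (P := ((P : Subgroup G) ⊓ centralizer ({d} : Set G) : Subgroup G).map (MulAut.conj g).toMonoidHom) hE2
    (fun e he => by
      rw [mem_centralizer_singleton_iff]
      exact C.comm he h0) (hF2.map _) (by
      rintro _ ⟨x, hx, rfl⟩
      have e0 : (MulAut.conj g).toMonoidHom x = g * x * g⁻¹ := rfl
      rw [e0, mem_centralizer_singleton_iff]
      have h1 : x * d = d * x := (C.mem_F.1 hx).2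
      calc g * x * g⁻¹ * (g * d * g⁻¹) = g * (x * d) * g⁻¹ := by group
        _ = g * (d * x) * g⁻¹ := by rw [h1]
        _ = _ := by group)
  rw [mem_centralizer_singleton_iff] at hc
  refine ⟨k * c * g, fun x hx hxd => ?_, ?_⟩
  · have h1 := hk2 (g * x * g⁻¹) ⟨x, C.mem_F.2 ⟨hx, hxd⟩, rfl⟩
    rw [show k * c * g * x * (k * c * g)⁻¹ = k * c * (g * x * g⁻¹) * (k * c)⁻¹ by group]
    exact h1
  · have h1 := C.unique hk1 _ h0
    have e1 : k * c * g * d * (k * c * g)⁻¹ = k * (c * (g * d * g⁻¹) * c⁻¹) * k⁻¹ := by group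
    have e2 : c * (g * d * g⁻¹) * c⁻¹ = g * d * g⁻¹ := by
      rw [hc]
      group
    rw [e1, e2]
    exact h1

/-- **[SX1]** `d` is not conjugate to an element of `E`. -/
theorem not_conj [Finite G] (P : Sylow 2 G) (hPS : (P : Subgroup G) = S) (g : G) : g * d * g⁻¹ ∉ E := by
  intro h0
  have : Fact (Nat.Prime 2) := ⟨Nat.prime_two⟩
  obtain ⟨h, hF, hdE⟩ := C.exists_ext P hPS h0
  set F : Subgroup G := S ⊓ centralizer ({d} : Set G) with hFdef
  have hS2 : IsPGroup 2 S := hPS ▸ P.isPGroup'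
  have mF : ∀ {x : G}, x ∈ F ↔ x ∈ S ∧ x * d = d * x := fun {x} => C.mem_F
  have hE2 : IsPGroup 2 E := hS2.to_le C.le
  have hF8 : Nat.card F ≤ 8 := C.card_le F (fun a ha => mF.1 ha)
  -- `S` normalises `F`
  have hSN : S ≤ normalizer (F : Set G) := by
    intro s hs
    rw [mem_normalizer_iff]
    intro x
    constructor
    · intro hx
      have h1 := mF.1 hx
      exact mF.2 ⟨mul_mem (mul_mem hs h1.1) (inv_mem hs), C.F_normal hs h1.1 h1.2⟩
    · intro hx
      have h1 := mF.1 hx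
      have h2 := C.F_normal (inv_mem hs) h1.1 h1.2
      have e1 : s⁻¹ * (s * x * s⁻¹) * s⁻¹⁻¹ = x := by group
      rw [e1] at h2
      refine mF.2 ⟨?_, h2⟩
      have h3 := mul_mem (mul_mem (inv_mem hs) h1.1) hs
      rwa [show s⁻¹ * (s * x * s⁻¹) * s = x by group] at h3
  -- some element of `F` is moved out of `E`
  have hout : ∃ x ∈ F, h * x * h⁻¹ ∉ E := by
    by_contra hcon
    push Not at hcon
    have hcen : ∀ e ∈ E, ∀ x ∈ F, h⁻¹ * e * h * x = x * (h⁻¹ * e * h) := by
      intro e he x hx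
      have h1 := C.comm he (hcon x hx)
      calc h⁻¹ * e * h * x = h⁻¹ * (e * (h * x * h⁻¹)) * h := by group
        _ = h⁻¹ * ((h * x * h⁻¹) * e) * h := by rw [h1]
        _ = x * (h⁻¹ * e * h) := by group
    obtain ⟨n, hn, hn'⟩ := conj_into P (H := normalizer (F : Set G))
      (P := E.map (MulAut.conj h⁻¹).toMonoidHom) (hPS ▸ hSN) (hE2.map _) (by
        rintro _ ⟨e, he, rfl⟩
        have e0 : (MulAut.conj h⁻¹).toMonoidHom e = h⁻¹ * e * h := by
          change h⁻¹ * e * h⁻¹⁻¹ = _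
          rw [inv_inv]
        rw [e0, mem_normalizer_iff]
        intro x
        constructor
        · intro hx
          have h1 := hcen e he x hx
          rw [h1]
          rw [show x * (h⁻¹ * e * h) * (h⁻¹ * e * h)⁻¹ = x by group]
          exact hx
        · intro hx
          have h1 := hcen e⁻¹ (inv_mem he) _ hx
          have e2 : h⁻¹ * e⁻¹ * h = (h⁻¹ * e * h)⁻¹ := by group
          rw [e2] at h1
          have h3 : (h⁻¹ * e * h)⁻¹ * (h⁻¹ * e * h * x * (h⁻¹ * e * h)⁻¹) * (h⁻¹ * e * h) = x := by group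
          rw [h1] at h3
          rw [← h3]
          rw [show h⁻¹ * e * h * x * (h⁻¹ * e * h)⁻¹ * (h⁻¹ * e * h)⁻¹ * (h⁻¹ * e * h) =
            h⁻¹ * e * h * x * (h⁻¹ * e * h)⁻¹ by group]
          exact hx)
    rw [hPS] at hn'
    rw [mem_normalizer_iff] at hn
    have hdF : d ∈ F := mF.2 ⟨C.mem, rfl⟩
    have hle : (E.map (MulAut.conj h⁻¹).toMonoidHom).map (MulAut.conj n).toMonoidHom ≤ F := by
      rintro _ ⟨_, ⟨e, he, rfl⟩, rfl⟩
      have e0 : (MulAut.conj n).toMonoidHom ((MulAut.conj h⁻¹).toMonoidHom e) = n * (h⁻¹ * e * h) * n⁻¹ := by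
        change n * (h⁻¹ * e * h⁻¹⁻¹) * n⁻¹ = _
        rw [inv_inv]
      rw [e0]
      have h1 : n * (h⁻¹ * e * h) * n⁻¹ ∈ S := by
        have := hn' _ ⟨e, he, rfl⟩
        change n * (h⁻¹ * e * h⁻¹⁻¹) * n⁻¹ ∈ _ at this
        rwa [inv_inv] at this
      refine mF.2 ⟨h1, ?_⟩
      have h2 : n⁻¹ * d * n ∈ F := by
        rw [hn]
        rwa [show n * (n⁻¹ * d * n) * n⁻¹ = d by group]
      have h3 := hcen e he _ h2
      calc n * (h⁻¹ * e * h) * n⁻¹ * d = n * ((h⁻¹ * e * h) * (n⁻¹ * d * n)) * n⁻¹ := by group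
        _ = n * ((n⁻¹ * d * n) * (h⁻¹ * e * h)) * n⁻¹ := by rw [h3]
        _ = d * (n * (h⁻¹ * e * h) * n⁻¹) := by group
    have h4 := Nat.card_le_card_of_injective _ (Subgroup.inclusion_injective hle)
    rw [Nat.card_congr ((E.map (MulAut.conj h⁻¹).toMonoidHom).equivMapOfInjective _
      (MulAut.conj n).injective).toEquiv.symm,
      Nat.card_congr (E.equivMapOfInjective _ (MulAut.conj h⁻¹).injective).toEquiv.symm, C.card] at h4
    omega
  obtain ⟨x1, hx1, hx1E⟩ := hout
  have hx1' := mF.1 hx1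
  obtain ⟨z1, hz1, hz1d, hy⟩ := C.inv_out (hF x1 hx1'.1 hx1'.2) hx1E (by
    rw [show h * x1 * h⁻¹ * (h * x1 * h⁻¹) = h * (x1 * x1) * h⁻¹ by group, C.F_sq hx1'.1 hx1'.2]
    group)
  -- `h` maps `F` into `F`
  have hFF : ∀ x ∈ F, h * x * h⁻¹ ∈ F := by
    intro x hx
    have hx' := mF.1 hx
    refine mF.2 ⟨hF x hx'.1 hx'.2, C.cent_dz (hF x hx'.1 hx'.2) hz1 hz1d ?_⟩
    rw [← hy]
    calc h * x * h⁻¹ * (h * x1 * h⁻¹) = h * (x * x1) * h⁻¹ := by group
      _ = h * (x1 * x) * h⁻¹ := by rw [C.F_comm hx'.1 hx'.2 hx1'.1 hx1'.2]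
      _ = _ := by group
  have hFmap : F.map (MulAut.conj h).toMonoidHom = F := by
    apply Subgroup.eq_of_le_of_card_ge
    · rintro _ ⟨x, hx, rfl⟩
      exact hFF x hx
    · rw [Nat.card_congr (F.equivMapOfInjective _ (MulAut.conj h).injective).toEquiv.symm]
  have hFF' : ∀ x ∈ F, h⁻¹ * x * h ∈ F := by
    intro x hx
    rw [← hFmap] at hx
    exact mem_map_conj.1 hx
  -- `e = h d h⁻¹` is in `Z`
  have hdF : d ∈ F := mF.2 ⟨C.mem, rfl⟩
  have hed : h * d * h⁻¹ * d = d * (h * d * h⁻¹) := (mF.1 (hFF d hdF)).2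
  -- an element `a ≠ 1` of `Z ∩ h Z h⁻¹`
  set Z : Subgroup G := E ⊓ centralizer ({d} : Set G) with hZdef
  have mZ : ∀ {x : G}, x ∈ Z ↔ x ∈ E ∧ x * d = d * x := fun {x} => C.mem_Z
  have hZF : Z ≤ F := fun x hx => mF.2 ⟨C.le (mZ.1 hx).1, (mZ.1 hx).2⟩
  have ha : ∃ a, a ∈ Z ∧ a ∈ Z.map (MulAut.conj h).toMonoidHom ∧ a ≠ 1 := by
    by_contra hcon
    push Not at hcon
    have hdis : Disjoint Z (Z.map (MulAut.conj h).toMonoidHom) := by
      rw [disjoint_iff_inf_le]
      intro a ha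
      exact mem_bot.2 (hcon a ha.1 ha.2)
    have hinj := mul_injective_of_disjoint hdis
    let f : Z × (Z.map (MulAut.conj h).toMonoidHom : Subgroup G) → F := fun p =>
      ⟨p.1 * p.2, mul_mem (hZF p.1.2) (by
        obtain ⟨q, ⟨y, hy1, hy2⟩⟩ := p.2
        change q ∈ F
        rw [← hy2]
        exact hFF y (hZF hy1))⟩
    have hf : Function.Injective f := by
      intro p q hpq
      exact hinj (congrArg Subtype.val hpq)
    have h5 := Nat.card_le_card_of_injective f hf
    rw [Nat.card_prod, Nat.card_congr (Z.equivMapOfInjective _ (MulAut.conj h).injective).toEquiv.symm,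
      C.cent] at h5
    omega
  obtain ⟨a, haZ, ⟨z', hz'Z, hz'a⟩, ha1⟩ := ha
  change h * z' * h⁻¹ = a at hz'a
  obtain ⟨e2, he2, hn2⟩ := C.exists_n (mZ.1 hz'Z).1 (mZ.1 hz'Z).2
  have he2i := C.inv_eq he2
  -- `x = h e₂ h⁻¹`
  have hxx : (h * e2 * h⁻¹) * (h * e2 * h⁻¹) = 1 := by
    rw [show (h * e2 * h⁻¹) * (h * e2 * h⁻¹) = h * (e2 * e2) * h⁻¹ by group, C.sq e2 he2]
    group
  have hxinv : (h * e2 * h⁻¹)⁻¹ = h * e2 * h⁻¹ := inv_eq_iff_mul_eq_one.mpr hxx
  have hact : ∀ z ∈ Z, (h * e2 * h⁻¹) * z * (h * e2 * h⁻¹)⁻¹ ∈ Z := by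
    intro z hz
    have h1 := mF.1 (hFF' z (hZF hz))
    rcases C.F_cases h1.1 h1.2 with ⟨h2, -⟩ | ⟨z2, hz2, hz2d, h2⟩
    · have e1 : (h * e2 * h⁻¹) * z * (h * e2 * h⁻¹)⁻¹ = h * (e2 * (h⁻¹ * z * h)) * e2⁻¹ * h⁻¹ := by group
      rw [e1, C.comm he2 h2]
      rw [show h * (h⁻¹ * z * h * e2) * e2⁻¹ * h⁻¹ = z by group]
      exact hz
    · have e1 : (h * e2 * h⁻¹) * z * (h * e2 * h⁻¹)⁻¹ = h * (e2 * (h⁻¹ * z * h) * e2⁻¹) * h⁻¹ := by group
      have e2' : e2 * (d * z2) * e2⁻¹ = z' * (d * z2) := by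
        rw [he2i]
        calc e2 * (d * z2) * e2 = e2 * d * (z2 * e2) := by group
          _ = e2 * d * (e2 * z2) := by rw [C.comm hz2 he2]
          _ = e2 * (d * e2 * 1) * z2 := by group
          _ = e2 * (d * e2 * (d * d)) * z2 := by rw [C.dd]
          _ = e2 * (d * e2 * d) * (d * z2) := by group
          _ = z' * (d * z2) := by rw [hn2]
      have e3 : (h * e2 * h⁻¹) * z * (h * e2 * h⁻¹)⁻¹ = a * z := by
        rw [e1, h2, e2', ← h2, ← hz'a]
        group
      rw [e3]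
      exact mul_mem haZ hz
  have hxN : h * e2 * h⁻¹ ∈ normalizer (Z : Set G) := by
    rw [mem_normalizer_iff]
    intro z
    refine ⟨hact z, fun hz => ?_⟩
    have h1 := hact _ hz
    have e1 : h * e2 * h⁻¹ * (h * e2 * h⁻¹ * z * (h * e2 * h⁻¹)⁻¹) * (h * e2 * h⁻¹)⁻¹ =
        ((h * e2 * h⁻¹) * (h * e2 * h⁻¹)) * z * ((h * e2 * h⁻¹) * (h * e2 * h⁻¹))⁻¹ := by group
    rw [e1, hxx, one_mul, inv_one, mul_one] at h1
    exact h1
  have hSZ : S ≤ normalizer (Z : Set G) := by
    intro s hs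
    rw [mem_normalizer_iff]
    intro z
    constructor
    · intro hz
      rw [C.S_cent_Z hs (mZ.1 hz).1 (mZ.1 hz).2]
      rw [show z * s * s⁻¹ = z by group]
      exact hz
    · intro hz
      have h1 := C.S_cent_Z (inv_mem hs) (mZ.1 hz).1 (mZ.1 hz).2
      have h2 : s⁻¹ * (s * z * s⁻¹) * s = z := by group
      rw [h1] at h2
      rw [show s * z * s⁻¹ * s⁻¹ * s = s * z * s⁻¹ by group] at h2
      rw [h2] at hz
      exact hz
  obtain ⟨n, hn, hn'⟩ := conj_into P (H := normalizer (Z : Set G)) (P := zpowers (h * e2 * h⁻¹)) (hPS ▸ hSZ)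
    (by
      refine IsPGroup.of_card (n := (Nat.log 2 (Nat.card (zpowers (h * e2 * h⁻¹))))) ?_
      have h1 : orderOf (h * e2 * h⁻¹) ∣ 2 := orderOf_dvd_of_pow_eq_one (by rw [pow_two, hxx])
      rw [Nat.card_zpowers]
      rcases (Nat.dvd_prime Nat.prime_two).1 h1 with h2 | h2 <;> rw [h2] <;> norm_num)
    (by
      rw [zpowers_le]
      exact hxN)
  rw [hPS] at hn'
  have h6 := hn' _ (mem_zpowers _)
  have heZ : h * d * h⁻¹ ∈ Z := mZ.2 ⟨hdE, hed⟩
  have h7 : n * (h * d * h⁻¹) * n⁻¹ ∈ Z := by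
    rw [mem_normalizer_iff] at hn
    exact (hn _).1 heZ
  have h8 := C.S_cent_Z h6 (mZ.1 h7).1 (mZ.1 h7).2
  have h9 : (h * e2 * h⁻¹) * (h * d * h⁻¹) = (h * d * h⁻¹) * (h * e2 * h⁻¹) := by
    calc (h * e2 * h⁻¹) * (h * d * h⁻¹) = n⁻¹ * ((n * (h * e2 * h⁻¹) * n⁻¹) * (n * (h * d * h⁻¹) * n⁻¹)) * n := by
          group
      _ = n⁻¹ * ((n * (h * d * h⁻¹) * n⁻¹) * (n * (h * e2 * h⁻¹) * n⁻¹)) * n := by rw [h8]
      _ = _ := by group
  have h10 : e2 * d = d * e2 := by
    have : h⁻¹ * ((h * e2 * h⁻¹) * (h * d * h⁻¹)) * h = h⁻¹ * ((h * d * h⁻¹) * (h * e2 * h⁻¹)) * h := by rw [h9]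
    calc e2 * d = h⁻¹ * ((h * e2 * h⁻¹) * (h * d * h⁻¹)) * h := by group
      _ = h⁻¹ * ((h * d * h⁻¹) * (h * e2 * h⁻¹)) * h := this
      _ = d * e2 := by group
  apply ha1
  rw [← hz'a, ← hn2]
  rw [show d * e2 * d = e2 * d * d by rw [h10], show e2 * (e2 * d * d) = (e2 * e2) * (d * d) by group, C.sq e2 he2,
    C.dd]
  group

/-- A finite group with Sylow 2-subgroup `V₄ wr 2` has a subgroup of index two. -/
theorem false_of_no_index_two [Finite G] (P : Sylow 2 G) (hPS : (P : Subgroup G) = S)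
    (hG : ∀ H : Subgroup G, H.index ≠ 2) : False := by
  have hrel : E.relIndex S = 2 := by
    have h1 : (E.subgroupOf S).index = 2 := by
      rw [Subgroup.index_eq_two_iff]
      refine ⟨⟨d, C.mem⟩, fun s => ?_⟩
      rw [mem_subgroupOf, mem_subgroupOf]
      change Xor (((s : G) * d) ∈ E) ((s : G) ∈ E)
      by_cases hs : (s : G) ∈ E
      · refine Or.inr ⟨hs, fun h => C.nmem ((mul_mem_cancel_left hs).1 h)⟩
      · refine Or.inl ⟨?_, hs⟩
        obtain ⟨e, he, h⟩ := C.d_mul s.2 hs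
        rw [h]
        exact C.conj_d he
    exact h1
  rcases Cfsg.Agent.Transfer.ThompsonTransfer.thompson_transfer P E (hPS ▸ C.le) (hPS ▸ hrel) d
    (by rw [pow_two, C.dd]) with
    ⟨M, -, hM, -⟩ | ⟨g, hg⟩
  · exact hG M hM
  · exact C.not_conj P hPS g hg

/-- relative form: `M` is a Sylow 2-subgroup of the subgroup `D` -/
theorem not_conj_rel [Finite G] {D : Subgroup G} (hSD : S ≤ D) (hS2 : IsPGroup 2 S)
    (hmax : ∀ T : Subgroup G, IsPGroup 2 T → S ≤ T → T ≤ D → Nat.card T ≤ Nat.card S) {g : G} (hg : g ∈ D) :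
    g * d * g⁻¹ ∉ E := by
  have : Fact (Nat.Prime 2) := ⟨Nat.prime_two⟩
  intro hgd
  have hS' : IsPGroup 2 (S.subgroupOf D) := hS2.comap_subtype
  obtain ⟨P, hP⟩ := hS'.exists_le_sylow
  have hle : S ≤ (P : Subgroup D).map D.subtype := fun x hx =>
    ⟨⟨x, hSD hx⟩, hP (mem_subgroupOf.mpr hx), rfl⟩
  have heq : S = (P : Subgroup D).map D.subtype := by
    apply Subgroup.eq_of_le_of_card_ge hle
    refine hmax _ (P.isPGroup'.map _) hle ?_
    rintro _ ⟨y, -, rfl⟩
    exact y.2
  have hPS : (P : Subgroup D) = S.subgroupOf D := by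
    ext x
    rw [mem_subgroupOf]
    constructor
    · intro hx
      rw [heq]
      exact ⟨x, hx, rfl⟩
    · intro hx
      rw [heq] at hx
      obtain ⟨y, hy, hyx⟩ := hx
      rw [← Subtype.ext hyx]
      exact hy
  have hED : E ≤ D := C.le.trans hSD
  have hdD : d ∈ D := hSD C.mem
  have C' : Cfg (S.subgroupOf D) (E.subgroupOf D) (⟨d, hdD⟩ : D) :=
    { le := fun x hx => mem_subgroupOf.2 (C.le (mem_subgroupOf.1 hx))
      card := by rw [Nat.card_congr (subgroupOfEquivOfLe hED).toEquiv, C.card]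
      sq := fun e he => Subtype.ext (C.sq _ (mem_subgroupOf.1 he))
      mem := mem_subgroupOf.2 C.mem
      nmem := fun h => C.nmem (mem_subgroupOf.1 h)
      dd := Subtype.ext C.dd
      cent := by
        rw [← C.cent]
        refine Nat.card_congr
          { toFun := fun x => ⟨x.1.1, C.mem_Z.2 ⟨mem_subgroupOf.1 (mem_inf.1 x.2).1,
              congrArg Subtype.val (mem_centralizer_singleton_iff.1 (mem_inf.1 x.2).2)⟩⟩
            invFun := fun y => ⟨⟨y.1, hED (C.mem_Z.1 y.2).1⟩, mem_inf.2 ⟨mem_subgroupOf.2 (C.mem_Z.1 y.2).1,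
              mem_centralizer_singleton_iff.2 (Subtype.ext (C.mem_Z.1 y.2).2)⟩⟩
            left_inv := fun x => rfl
            right_inv := fun y => rfl }
      cov := fun s hs => by
        rcases C.cov _ (mem_subgroupOf.1 hs) with h | h
        · exact Or.inl (mem_subgroupOf.2 h)
        · exact Or.inr (mem_subgroupOf.2 h) }
  exact C'.not_conj P hPS ⟨g, hg⟩ (mem_subgroupOf.2 hgd)

end Cfg

end Cfsg.Agent.GH.L2.WrFour
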