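import Cfsg.Agent.GH.L2.TFourBase
import Cfsg.Agent.GH.L2.WrFour

/-!
# Project GH, branch GH-L2, case (T4): `UT3(4)⟨t⟩` with `t` trivial on the centre

`t` swaps `X` and `Y`.  Facts on the group of order 128, and: `t` is not fused into `R` in `C_G(U)`.
-/

set_option autoImplicit false

namespace Cfsg.Agent.GH.L2.TFour

open Subgroup Cfsg.Agent.J2Sylow.Model Tool

variable {G : Type*} [Group G]

/-- `UT3(4)⟨t⟩` -/
structure UTt (X Y Z : F4 → G) (t : G) : Prop extends UT X Y Z where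
  tt : t * t = 1
  tX : ∀ a, t * X a = Y a * t
  tZ : ∀ c, t * Z c = Z c * t

namespace UTt

variable {X Y Z : F4 → G} {t : G} (h : UTt X Y Z t)
include h

theorem tY (b : F4) : t * Y b = X b * t := by
  calc t * Y b = t * (Y b * t) * t := by rw [mul_assoc, mul_assoc, h.tt, mul_one]
    _ = t * (t * X b) * t := by rw [h.tX]
    _ = (t * t) * X b * t := by group
    _ = X b * t := by rw [h.tt, one_mul]

theorem t_el (b a c : F4) : t * el X Y Z b a c = el X Y Z a b (c + a * b) * t := by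
  have h1 : X b * (Y a * Z c) = el X Y Z a b (c + a * b) := by
    have := h.el_mul 0 b 0 a 0 c
    have e1 : el X Y Z 0 b 0 = X b := h.el_X b
    have e2 : el X Y Z a 0 c = Y a * Z c := by unfold el; rw [h.X0, mul_one]
    rw [e1, e2] at this
    rw [this, zero_add, add_zero]
    congr 1
    ring
  calc t * el X Y Z b a c = (t * Y b) * X a * Z c := by unfold el; group
    _ = X b * (t * X a) * Z c := by rw [h.tY]; group
    _ = X b * Y a * (t * Z c) := by rw [h.tX]; group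
    _ = X b * (Y a * Z c) * t := by rw [h.tZ]; group
    _ = _ := by rw [h1]

theorem t_inv : t⁻¹ = t := inv_eq_iff_mul_eq_one.mpr h.tt

theorem t_el_t (b a c : F4) : t * el X Y Z b a c * t = el X Y Z a b (c + a * b) := by
  rw [h.t_el, mul_assoc, h.tt, mul_one]

/-- `t ∉ R` -/
theorem t_nmem : t ∉ h.R := by
  rintro ⟨b, a, c, ht⟩
  -- `R` preserves `E`
  have h1 : t * X 1 * t = Y 1 := by rw [h.tX, mul_assoc, h.tt, mul_one]
  have h2 : t * X 1 = Y 1 * t := h.tX 1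
  rw [← h.el_X, ← h.el_Y] at h2
  have h3 : el X Y Z b a c * el X Y Z 0 1 0 = el X Y Z 1 0 0 * el X Y Z b a c := by rw [← ht]; exact h2
  rw [h.el_mul, h.el_mul] at h3
  obtain ⟨h4, -, -⟩ := h.el_inj h3
  revert h4
  clear * -
  revert b
  decide

/-- the group `R⟨t⟩` -/
def RT : Subgroup G where
  carrier := {g | ∃ b a c, g = el X Y Z b a c ∨ g = el X Y Z b a c * t}
  mul_mem' := by
    rintro _ _ ⟨b, a, c, rfl | rfl⟩ ⟨b', a', c', rfl | rfl⟩
    · exact ⟨_, _, _, Or.inl (h.el_mul _ _ _ _ _ _)⟩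
    · exact ⟨b + b', a + a', c + c' + a * b', Or.inr (by rw [← mul_assoc, h.el_mul])⟩
    · refine ⟨b + a', a + b', c + (c' + a' * b') + a * a', Or.inr ?_⟩
      rw [mul_assoc, h.t_el, ← mul_assoc, h.el_mul]
    · refine ⟨b + a', a + b', c + (c' + a' * b') + a * a', Or.inl ?_⟩
      calc el X Y Z b a c * t * (el X Y Z b' a' c' * t) = el X Y Z b a c * (t * el X Y Z b' a' c' * t) := by
            group
        _ = _ := by rw [h.t_el_t, h.el_mul]
  one_mem' := ⟨0, 0, 0, Or.inl h.el_zero.symm⟩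
  inv_mem' := by
    rintro _ ⟨b, a, c, rfl | rfl⟩
    · exact ⟨_, _, _, Or.inl (h.el_inv _ _ _)⟩
    · refine ⟨a, b, c + a * b + a * b, Or.inr ?_⟩
      rw [mul_inv_rev, h.t_inv, h.el_inv, h.t_el]

theorem mem_RT {g : G} : g ∈ h.RT ↔ ∃ b a c, g = el X Y Z b a c ∨ g = el X Y Z b a c * t := Iff.rfl

theorem mem_RT' {g : G} : g ∈ h.RT ↔ g ∈ h.R ∨ ∃ b a c, g = el X Y Z b a c * t := by
  constructor
  · rintro ⟨b, a, c, h1 | h1⟩
    · exact Or.inl ⟨_, _, _, h1⟩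
    · exact Or.inr ⟨_, _, _, h1⟩
  · rintro (⟨b, a, c, h1⟩ | ⟨b, a, c, h1⟩)
    · exact ⟨_, _, _, Or.inl h1⟩
    · exact ⟨_, _, _, Or.inr h1⟩

theorem R_le : h.R ≤ h.RT := fun _ hx => h.mem_RT'.2 (Or.inl hx)

theorem t_mem : t ∈ h.RT := ⟨0, 0, 0, Or.inr (by rw [h.el_zero, one_mul])⟩

theorem elt_nmem (b a c : F4) : el X Y Z b a c * t ∉ h.R := fun hc =>
  h.t_nmem ((mul_mem_cancel_left (show el X Y Z b a c ∈ h.R from ⟨_, _, _, rfl⟩)).1 hc)

theorem RT_diff {g : G} (hg : g ∈ h.RT) (h1 : g ∉ h.R) : ∃ b a c, g = el X Y Z b a c * t :=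
  (h.mem_RT'.1 hg).resolve_left h1

/-- conjugates of `t` under `R` -/
theorem conj_t (b a c : F4) : el X Y Z b a c * t * (el X Y Z b a c)⁻¹ = el X Y Z (a + b) (a + b) (a * a) * t := by
  rw [h.el_inv, mul_assoc, h.t_el, ← mul_assoc, h.el_mul]
  congr 1
  have e1 : b + a = a + b := add_comm _ _
  have e3 : c + (c + a * b + a * b) + a * a = a * a := by clear * -; revert a b c; decide
  rw [e1, e3]

/-- every element `el s s c * t` is conjugate to `t` under `R` -/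
theorem exists_conj_t (s c : F4) : ∃ r ∈ h.R, r * t * r⁻¹ = el X Y Z s s c * t := by
  refine ⟨el X Y Z (s + F4.fr c) (F4.fr c) 0, ⟨_, _, _, rfl⟩, ?_⟩
  rw [h.conj_t, F4.fr_mul_fr]
  congr 1
  have e : F4.fr c + (s + F4.fr c) = s := by clear * -; revert s c; decide
  rw [e]

/-- involutions of `R⟨t⟩` outside `R` -/
theorem inv_out {g : G} (hg : g ∈ h.RT) (h1 : g ∉ h.R) (h2 : g * g = 1) : ∃ s c, g = el X Y Z s s c * t := by
  obtain ⟨b, a, c, rfl⟩ := h.RT_diff hg h1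
  have h3 : el X Y Z b a c * t * (el X Y Z b a c * t) = el X Y Z b a c * (t * el X Y Z b a c * t) := by group
  rw [h3, h.t_el_t, h.el_mul] at h2
  obtain ⟨h4, -, -⟩ := h.el_eq_one h2
  have h5 := F4.eq_of_add h4
  exact ⟨a, c, by rw [h5]⟩

theorem exists_conj_of_inv {g : G} (hg : g ∈ h.RT) (h1 : g ∉ h.R) (h2 : g * g = 1) :
    ∃ r ∈ h.R, r * g * r⁻¹ = t := by
  obtain ⟨s, c, hs⟩ := h.inv_out hg h1 h2
  obtain ⟨r, hr, h3⟩ := h.exists_conj_t s c
  refine ⟨r⁻¹, inv_mem hr, ?_⟩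
  rw [hs, ← h3]
  group

/-- `C_{R⟨t⟩}(t) = U⟨t⟩` -/
theorem cent_t {g : G} (hg : g ∈ h.RT) (h1 : g * t = t * g) : ∃ c, g = Z c ∨ g = Z c * t := by
  have key : ∀ b a c, el X Y Z b a c * t = t * el X Y Z b a c → ∃ c', el X Y Z b a c = Z c' := by
    intro b a c h2
    rw [h.t_el] at h2
    obtain ⟨h3, -, h5⟩ := h.el_inj (mul_right_cancel h2)
    subst h3
    have h6 : b = 0 := by
      clear * - h5
      revert b c
      decide
    subst h6
    exact ⟨c, h.el_Z c⟩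
  obtain ⟨b, a, c, rfl | rfl⟩ := hg
  · obtain ⟨c', hc'⟩ := key b a c h1
    exact ⟨c', Or.inl hc'⟩
  · obtain ⟨c', hc'⟩ := key b a c (mul_right_cancel (h1.trans (mul_assoc _ _ _).symm))
    exact ⟨c', Or.inr (by rw [hc'])⟩

/-- `B = U⟨t⟩` -/
def B : Subgroup G where
  carrier := {g | ∃ c, g = Z c ∨ g = Z c * t}
  mul_mem' := by
    rintro _ _ ⟨c, rfl | rfl⟩ ⟨c', rfl | rfl⟩
    · exact ⟨_, Or.inl (h.ZZ _ _)⟩
    · exact ⟨_, Or.inr (by rw [← mul_assoc, h.ZZ])⟩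
    · exact ⟨c + c', Or.inr (by rw [mul_assoc, h.tZ, ← mul_assoc, h.ZZ])⟩
    · refine ⟨c + c', Or.inl ?_⟩
      calc Z c * t * (Z c' * t) = Z c * (t * Z c') * t := by group
        _ = Z c * Z c' * (t * t) := by rw [h.tZ]; group
        _ = _ := by rw [h.tt, mul_one, h.ZZ]
  one_mem' := ⟨0, Or.inl h.Z0.symm⟩
  inv_mem' := by
    rintro _ ⟨c, rfl | rfl⟩
    · exact ⟨c, Or.inl (inv_eq_iff_mul_eq_one.mpr (h.Zsq c))⟩
    · refine ⟨c, Or.inr ?_⟩
      rw [mul_inv_rev, h.t_inv, inv_eq_iff_mul_eq_one.mpr (h.Zsq c), h.tZ]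

theorem mem_B {g : G} : g ∈ h.B ↔ ∃ c, g = Z c ∨ g = Z c * t := Iff.rfl

theorem U_le_B : h.U ≤ h.B := by
  rintro _ ⟨c, rfl⟩
  exact ⟨c, Or.inl rfl⟩

theorem t_mem_B : t ∈ h.B := ⟨0, Or.inr (by rw [h.Z0, one_mul])⟩

theorem B_comm {x y : G} (hx : x ∈ h.B) (hy : y ∈ h.B) : x * y = y * x := by
  have key : ∀ c, ∀ y ∈ h.B, Z c * y = y * Z c := by
    rintro c _ ⟨c', rfl | rfl⟩
    · rw [h.ZZ, h.ZZ, add_comm]
    · calc Z c * (Z c' * t) = (Z c * Z c') * t := by group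
        _ = (Z c' * Z c) * t := by rw [h.ZZ, h.ZZ, add_comm]
        _ = Z c' * (Z c * t) := by group
        _ = Z c' * t * Z c := by rw [← h.tZ]; group
  have key2 : ∀ y ∈ h.B, t * y = y * t := by
    rintro _ ⟨c', rfl | rfl⟩
    · exact h.tZ c'
    · rw [← mul_assoc, h.tZ]
  obtain ⟨c, rfl | rfl⟩ := hx
  · exact key c y hy
  · rw [mul_assoc, key2 y hy, ← mul_assoc, key c y hy, mul_assoc]

theorem B_sq {x : G} (hx : x ∈ h.B) : x * x = 1 := by
  obtain ⟨c, rfl | rfl⟩ := hx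
  · exact h.Zsq c
  · calc Z c * t * (Z c * t) = Z c * (t * Z c) * t := by group
      _ = Z c * Z c * (t * t) := by rw [h.tZ]; group
      _ = 1 := by rw [h.tt, h.Zsq, one_mul]

theorem B_le : h.B ≤ h.RT := by
  rintro _ ⟨c, rfl | rfl⟩
  · exact ⟨0, 0, c, Or.inl (h.el_Z c).symm⟩
  · exact ⟨0, 0, c, Or.inr (by rw [h.el_Z])⟩

theorem B_R {x : G} (hx : x ∈ h.B) (h1 : x ∈ h.R) : x ∈ h.U := by
  obtain ⟨c, rfl | rfl⟩ := hx
  · exact ⟨c, rfl⟩
  · exact absurd h1 (by rw [← h.el_Z]; exact h.elt_nmem 0 0 c)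

/-- `Y4 = {el a a c}`: conjugation of `t` by `el a a c` multiplies by `Z (a * a)` -/
theorem conj_y (a : F4) : el X Y Z a a 0 * t * (el X Y Z a a 0)⁻¹ = Z (a * a) * t := by
  rw [h.conj_t, F4.add_self, h.el_Z]

theorem card_B_lt [Finite G] : Nat.card h.B ≤ 8 := by
  classical
  have f : Function.Surjective (fun x : F4 × Bool => (⟨Z x.1 * (if x.2 then t else 1), x.1, by
      cases x.2 <;> simp⟩ : h.B)) := by
    rintro ⟨_, c, rfl | rfl⟩
    · exact ⟨(c, false), by simp⟩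
    · exact ⟨(c, true), by simp⟩
  have := Nat.card_le_card_of_surjective _ f
  rw [Nat.card_prod, card_F4] at this
  have hb : Nat.card Bool = 2 := by rw [Nat.card_eq_fintype_card, Fintype.card_bool]
  rw [hb] at this
  exact this

/-- `R` is normal in `R⟨t⟩` -/
theorem conj_R {g x : G} (hg : g ∈ h.RT) (hx : x ∈ h.R) : g * x * g⁻¹ ∈ h.R := by
  obtain ⟨b, a, c, rfl | rfl⟩ := hg
  · exact mul_mem (mul_mem ⟨_, _, _, rfl⟩ hx) (inv_mem ⟨_, _, _, rfl⟩)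
  · obtain ⟨b', a', c', rfl⟩ := hx
    have e : el X Y Z b a c * t * el X Y Z b' a' c' * (el X Y Z b a c * t)⁻¹ =
        el X Y Z b a c * (t * el X Y Z b' a' c' * t) * (el X Y Z b a c)⁻¹ := by
      rw [mul_inv_rev, h.t_inv]; group
    rw [e, h.t_el_t]
    exact mul_mem (mul_mem ⟨_, _, _, rfl⟩ ⟨_, _, _, rfl⟩) (inv_mem ⟨_, _, _, rfl⟩)

/-- `R⟨t⟩ ≤ C(U)` -/
theorem RT_cent {g : G} (hg : g ∈ h.RT) (c : F4) : g * Z c = Z c * g := by
  obtain ⟨b, a, c', rfl | rfl⟩ := hg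
  · exact h.comm_Z ⟨_, _, _, rfl⟩ c
  · rw [mul_assoc, h.tZ, ← mul_assoc, h.comm_Z ⟨_, _, _, rfl⟩ c, mul_assoc]

end UTt

end Cfsg.Agent.GH.L2.TFour
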