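import Mathlib
import Cfsg.Agent.GH.Q2.Rel

/-!
# GH-L2: two commuting dihedral groups swapped by `s`, with a common `PGL`-involution `a`: the relations of type `PSp₄`

`DD n ρ c ρ' c' a s e e'`: `⟨ρ, c⟩` and `⟨ρ', c'⟩` are commuting dihedral groups of order `2 ^ (n + 2)`, swapped by the
involution `s`; the involution `a` commutes with `s`, inverts `ρ` and maps `c` to `ρ c`.  The elements
`r₁ = e e' a c ρ' c'`, `r₂ = e e' a c c'`, `y₁ = e s`, `y₂ = e' c c' s`, `t = e c'` satisfy the relations of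
`(Q * Q)⟨t⟩`.
-/

set_option autoImplicit false
set_option linter.unusedSimpArgs false

open Subgroup

namespace Cfsg.Agent.GH.L2.TypeSp4Rel

variable {G : Type*} [Group G]

/-- The relations. -/
structure DD (n : ℕ) (ρ c ρ' c' a s e e' : G) : Prop where
  ss : s * s = 1
  aa : a * a = 1
  sa : s * a = a * s
  sρ : s * ρ = ρ' * s
  sc : s * c = c' * s
  cc : c * c = 1
  cρ : c * ρ = ρ⁻¹ * c
  ac : a * c = ρ * c * a
  ρρ' : ρ' * ρ = ρ * ρ'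
  ρc' : c' * ρ = ρ * c'
  cc' : c' * c = c * c'
  he : e = ρ ^ 2 ^ n
  he' : e' = ρ' ^ 2 ^ n
  ee : e * e = 1

namespace DD

variable {n : ℕ} {ρ c ρ' c' a s e e' : G}

theorem sρ' (h : DD n ρ c ρ' c' a s e e') : s * ρ' = ρ * s := by
  have h1 := h.sρ
  have h2 : ρ' = s * ρ * s⁻¹ := by rw [h1]; group
  have h3 : s⁻¹ = s := inv_eq_of_mul_eq_one_left h.ss
  calc s * ρ' = s * s * ρ * s⁻¹ := by rw [h2]; group
    _ = ρ * s := by rw [h.ss, h3, one_mul]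

theorem sc' (h : DD n ρ c ρ' c' a s e e') : s * c' = c * s := by
  have h1 := h.sc
  have h2 : c' = s * c * s⁻¹ := by rw [h1]; group
  have h3 : s⁻¹ = s := inv_eq_of_mul_eq_one_left h.ss
  calc s * c' = s * s * c * s⁻¹ := by rw [h2]; group
    _ = c * s := by rw [h.ss, h3, one_mul]

theorem aρ (h : DD n ρ c ρ' c' a s e e') : a * ρ = ρ⁻¹ * a := by
  have h2 : a * ρ * c * a = c := by
    calc a * ρ * c * a = a * (ρ * c * a) := by group
      _ = a * (a * c) := by rw [← h.ac]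
      _ = c := by rw [← mul_assoc, h.aa, one_mul]
  have h4 : a * ρ * c = c * a := by
    calc a * ρ * c = a * ρ * c * a * a := by rw [mul_assoc _ a a, h.aa, mul_one]
      _ = c * a := by rw [h2]
  calc a * ρ = a * ρ * c * c := by rw [mul_assoc _ c c, h.cc, mul_one]
    _ = c * a * c := by rw [h4]
    _ = c * (ρ * c * a) := by rw [mul_assoc, h.ac]
    _ = c * ρ * c * a := by group
    _ = ρ⁻¹ * a := by rw [h.cρ, mul_assoc ρ⁻¹ c c, h.cc, mul_one]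

theorem c'c' (h : DD n ρ c ρ' c' a s e e') : c' * c' = 1 := by
  have h2 : c' = s * c * s⁻¹ := by rw [h.sc]; group
  rw [h2]
  calc s * c * s⁻¹ * (s * c * s⁻¹) = s * (c * c) * s⁻¹ := by group
    _ = 1 := by rw [h.cc]; group

theorem c'ρ' (h : DD n ρ c ρ' c' a s e e') : c' * ρ' = ρ'⁻¹ * c' := by
  have h2 : c' = s * c * s⁻¹ := by rw [h.sc]; group
  have h3 : ρ' = s * ρ * s⁻¹ := by rw [h.sρ]; group
  rw [h2, h3]
  calc s * c * s⁻¹ * (s * ρ * s⁻¹) = s * (c * ρ) * s⁻¹ := by group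
    _ = _ := by rw [h.cρ]; group

theorem ac' (h : DD n ρ c ρ' c' a s e e') : a * c' = ρ' * c' * a := by
  have h2 : c' = s * c * s⁻¹ := by rw [h.sc]; group
  have h3 : ρ' = s * ρ * s⁻¹ := by rw [h.sρ]; group
  have h4 : a * s⁻¹ = s⁻¹ * a := by
    rw [eq_inv_mul_iff_mul_eq, ← mul_assoc, h.sa]; group
  rw [h2, h3]
  calc a * (s * c * s⁻¹) = (a * s) * c * s⁻¹ := by group
    _ = s * (a * c) * s⁻¹ := by rw [← h.sa]; group
    _ = s * ρ * c * (a * s⁻¹) := by rw [h.ac]; group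
    _ = _ := by rw [h4]; group

theorem aρ' (h : DD n ρ c ρ' c' a s e e') : a * ρ' = ρ'⁻¹ * a := by
  have h3 : ρ' = s * ρ * s⁻¹ := by rw [h.sρ]; group
  have h4 : a * s⁻¹ = s⁻¹ * a := by
    rw [eq_inv_mul_iff_mul_eq, ← mul_assoc, h.sa]; group
  rw [h3]
  calc a * (s * ρ * s⁻¹) = (a * s) * ρ * s⁻¹ := by group
    _ = s * (a * ρ) * s⁻¹ := by rw [← h.sa]; group
    _ = s * ρ⁻¹ * (a * s⁻¹) := by rw [h.aρ]; group
    _ = _ := by rw [h4]; group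

theorem cρ' (h : DD n ρ c ρ' c' a s e e') : ρ' * c = c * ρ' := by
  -- conjugate of `c' ρ = ρ c'`
  have h1 : s * (c' * ρ) = s * (ρ * c') := by rw [h.ρc']
  have h2 : c * ρ' * s = ρ' * c * s := by
    calc c * ρ' * s = c * (s * ρ) := by rw [h.sρ]; group
      _ = s * (c' * ρ) := by rw [← mul_assoc, ← h.sc', mul_assoc]
      _ = s * (ρ * c') := h1
      _ = ρ' * (s * c') := by rw [← mul_assoc, h.sρ, mul_assoc]
      _ = _ := by rw [h.sc']; group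
  exact (mul_right_cancel h2).symm

end DD

/-- moving powers -/
theorem pow_move {x y z : G} (h : x * y = z * x) (k : ℕ) : x * y ^ k = z ^ k * x := by
  have h1 : x * y * x⁻¹ = z := by rw [h]; group
  calc x * y ^ k = (x * y * x⁻¹) ^ k * x := by rw [conj_pow]; group
    _ = z ^ k * x := by rw [h1]

namespace DD

variable {n : ℕ} {ρ c ρ' c' a s e e' : G}

theorem e'e' (h : DD n ρ c ρ' c' a s e e') : e' * e' = 1 := by
  have h1 := pow_move h.sρ (2 ^ n)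
  rw [← h.he, ← h.he'] at h1
  have h2 : e' = s * e * s⁻¹ := by rw [h1]; group
  rw [h2]
  calc s * e * s⁻¹ * (s * e * s⁻¹) = s * (e * e) * s⁻¹ := by group
    _ = 1 := by rw [h.ee]; group

theorem einv (h : DD n ρ c ρ' c' a s e e') : e⁻¹ = e := inv_eq_of_mul_eq_one_left h.ee

theorem e'inv (h : DD n ρ c ρ' c' a s e e') : e'⁻¹ = e' := inv_eq_of_mul_eq_one_left h.e'e'

theorem se (h : DD n ρ c ρ' c' a s e e') : s * e = e' * s := by
  have h1 := pow_move h.sρ (2 ^ n)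
  rwa [← h.he, ← h.he'] at h1

theorem se' (h : DD n ρ c ρ' c' a s e e') : s * e' = e * s := by
  have h1 := pow_move h.sρ' (2 ^ n)
  rwa [← h.he, ← h.he'] at h1

theorem ae (h : DD n ρ c ρ' c' a s e e') : a * e = e * a := by
  have h1 := pow_move h.aρ (2 ^ n)
  rwa [inv_pow, ← h.he, h.einv] at h1

theorem ae' (h : DD n ρ c ρ' c' a s e e') : a * e' = e' * a := by
  have h1 := pow_move h.aρ' (2 ^ n)
  rwa [inv_pow, ← h.he', h.e'inv] at h1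

theorem ce (h : DD n ρ c ρ' c' a s e e') : c * e = e * c := by
  have h1 := pow_move h.cρ (2 ^ n)
  rwa [inv_pow, ← h.he, h.einv] at h1

theorem c'e' (h : DD n ρ c ρ' c' a s e e') : c' * e' = e' * c' := by
  have h1 := pow_move h.c'ρ' (2 ^ n)
  rwa [inv_pow, ← h.he', h.e'inv] at h1

theorem c'e (h : DD n ρ c ρ' c' a s e e') : c' * e = e * c' := by
  have h1 := pow_move h.ρc' (2 ^ n)
  rwa [← h.he] at h1

theorem ce' (h : DD n ρ c ρ' c' a s e e') : c * e' = e' * c := by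
  have h1 := pow_move h.cρ'.symm (2 ^ n)
  rwa [← h.he'] at h1

theorem ρe (h : DD n ρ c ρ' c' a s e e') : ρ * e = e * ρ := by
  rw [h.he]; exact (pow_succ' ρ _).symm.trans (pow_succ ρ _)

theorem ρ'e' (h : DD n ρ c ρ' c' a s e e') : ρ' * e' = e' * ρ' := by
  rw [h.he']; exact (pow_succ' ρ' _).symm.trans (pow_succ ρ' _)

theorem ρ'e (h : DD n ρ c ρ' c' a s e e') : ρ' * e = e * ρ' := by
  have h1 := pow_move h.ρρ' (2 ^ n)
  rwa [← h.he] at h1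

theorem ρe' (h : DD n ρ c ρ' c' a s e e') : ρ * e' = e' * ρ := by
  have h1 := pow_move h.ρρ'.symm (2 ^ n)
  rwa [← h.he'] at h1

theorem e'e (h : DD n ρ c ρ' c' a s e e') : e' * e = e * e' := by
  have h1 := pow_move h.ρ'e.symm (2 ^ n)
  rw [← h.he'] at h1
  exact h1.symm

end DD

/-- reassociated rules -/
theorem re {x y z : G} (h : x * y = z) (w : G) : x * (y * w) = z * w := by rw [← mul_assoc, h]

theorem inv_rule {x y z : G} (h : x * y = z * x) : x * y⁻¹ = z⁻¹ * x := by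
  have h1 : x * y * x⁻¹ = z := by rw [h]; group
  calc x * y⁻¹ = (x * y * x⁻¹)⁻¹ * x := by group
    _ = z⁻¹ * x := by rw [h1]

section rel

variable {n : ℕ} {ρ c ρ' c' a s e e' : G}

theorem R_sq1 (h : DD n ρ c ρ' c' a s e e') :
    (e * e' * a * c * ρ' * c') * (e * e' * a * c * ρ' * c') = ρ * ρ'⁻¹ := by
    have hA : e⁻¹ = e := h.einv
    have hB : e'⁻¹ = e' := h.e'inv
    have hC : ρ⁻¹ * e = e * ρ⁻¹ := by
      rw [inv_mul_eq_iff_eq_mul, ← mul_assoc, h.ρe]; group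
    have hD : ρ'⁻¹ * ρ = ρ * ρ'⁻¹ := by
      rw [inv_mul_eq_iff_eq_mul, ← mul_assoc, h.ρρ']; group
    simp only [mul_assoc, h.ss, h.aa, h.sa, h.sρ, h.sc, h.cc, h.cρ, h.ac, h.ρρ', h.ρc', h.cc', h.ee, h.sρ',
      h.sc', h.aρ, h.c'c', h.c'ρ', h.ac', h.aρ', h.cρ', h.e'e', h.se, h.se', h.ae, h.ae', h.ce, h.c'e',
      h.c'e, h.ce', h.ρe, h.ρ'e', h.ρ'e, h.ρe', h.e'e, re h.ss, re h.aa, re h.sa, re h.sρ, re h.sc, re h.cc,
      re h.cρ, re h.ac, re h.ρρ', re h.ρc', re h.cc', re h.ee, re h.sρ', re h.sc', re h.aρ, re h.c'c',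
      re h.c'ρ', re h.ac', re h.aρ', re h.cρ', re h.e'e', re h.se, re h.se', re h.ae, re h.ae', re h.ce,
      re h.c'e', re h.c'e, re h.ce', re h.ρe, re h.ρ'e', re h.ρ'e, re h.ρe', re h.e'e, inv_rule h.sρ,
      inv_rule h.cρ, inv_rule h.ρρ', inv_rule h.ρc', inv_rule h.sρ', inv_rule h.aρ, inv_rule h.c'ρ',
      inv_rule h.aρ', re (inv_rule h.sρ), re (inv_rule h.cρ), re (inv_rule h.ρρ'), re (inv_rule h.ρc'),
      re (inv_rule h.sρ'), re (inv_rule h.aρ), re (inv_rule h.c'ρ'), re (inv_rule h.aρ'), hA, hB, hC, re hC, hD, re hD, one_mul, mul_one, inv_mul_cancel, mul_inv_cancel, inv_mul_cancel_left,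
      mul_inv_cancel_left, inv_inv]

theorem R_sq2 (h : DD n ρ c ρ' c' a s e e') :
    (e * e' * a * c * c') * (e * e' * a * c * c') = ρ * ρ' := by
    have hA : e⁻¹ = e := h.einv
    have hB : e'⁻¹ = e' := h.e'inv
    have hC : ρ⁻¹ * e = e * ρ⁻¹ := by
      rw [inv_mul_eq_iff_eq_mul, ← mul_assoc, h.ρe]; group
    have hD : ρ'⁻¹ * ρ = ρ * ρ'⁻¹ := by
      rw [inv_mul_eq_iff_eq_mul, ← mul_assoc, h.ρρ']; group
    simp only [mul_assoc, h.ss, h.aa, h.sa, h.sρ, h.sc, h.cc, h.cρ, h.ac, h.ρρ', h.ρc', h.cc', h.ee, h.sρ',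
      h.sc', h.aρ, h.c'c', h.c'ρ', h.ac', h.aρ', h.cρ', h.e'e', h.se, h.se', h.ae, h.ae', h.ce, h.c'e',
      h.c'e, h.ce', h.ρe, h.ρ'e', h.ρ'e, h.ρe', h.e'e, re h.ss, re h.aa, re h.sa, re h.sρ, re h.sc, re h.cc,
      re h.cρ, re h.ac, re h.ρρ', re h.ρc', re h.cc', re h.ee, re h.sρ', re h.sc', re h.aρ, re h.c'c',
      re h.c'ρ', re h.ac', re h.aρ', re h.cρ', re h.e'e', re h.se, re h.se', re h.ae, re h.ae', re h.ce,
      re h.c'e', re h.c'e, re h.ce', re h.ρe, re h.ρ'e', re h.ρ'e, re h.ρe', re h.e'e, inv_rule h.sρ,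
      inv_rule h.cρ, inv_rule h.ρρ', inv_rule h.ρc', inv_rule h.sρ', inv_rule h.aρ, inv_rule h.c'ρ',
      inv_rule h.aρ', re (inv_rule h.sρ), re (inv_rule h.cρ), re (inv_rule h.ρρ'), re (inv_rule h.ρc'),
      re (inv_rule h.sρ'), re (inv_rule h.aρ), re (inv_rule h.c'ρ'), re (inv_rule h.aρ'), hA, hB, hC, re hC, hD, re hD, one_mul, mul_one, inv_mul_cancel, mul_inv_cancel, inv_mul_cancel_left,
      mul_inv_cancel_left, inv_inv]

theorem R_y₁y (h : DD n ρ c ρ' c' a s e e') :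
    (e * s) * (e * s) = e * e' := by
    have hA : e⁻¹ = e := h.einv
    have hB : e'⁻¹ = e' := h.e'inv
    have hC : ρ⁻¹ * e = e * ρ⁻¹ := by
      rw [inv_mul_eq_iff_eq_mul, ← mul_assoc, h.ρe]; group
    have hD : ρ'⁻¹ * ρ = ρ * ρ'⁻¹ := by
      rw [inv_mul_eq_iff_eq_mul, ← mul_assoc, h.ρρ']; group
    simp only [mul_assoc, h.ss, h.aa, h.sa, h.sρ, h.sc, h.cc, h.cρ, h.ac, h.ρρ', h.ρc', h.cc', h.ee, h.sρ',
      h.sc', h.aρ, h.c'c', h.c'ρ', h.ac', h.aρ', h.cρ', h.e'e', h.se, h.se', h.ae, h.ae', h.ce, h.c'e',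
      h.c'e, h.ce', h.ρe, h.ρ'e', h.ρ'e, h.ρe', h.e'e, re h.ss, re h.aa, re h.sa, re h.sρ, re h.sc, re h.cc,
      re h.cρ, re h.ac, re h.ρρ', re h.ρc', re h.cc', re h.ee, re h.sρ', re h.sc', re h.aρ, re h.c'c',
      re h.c'ρ', re h.ac', re h.aρ', re h.cρ', re h.e'e', re h.se, re h.se', re h.ae, re h.ae', re h.ce,
      re h.c'e', re h.c'e, re h.ce', re h.ρe, re h.ρ'e', re h.ρ'e, re h.ρe', re h.e'e, inv_rule h.sρ,
      inv_rule h.cρ, inv_rule h.ρρ', inv_rule h.ρc', inv_rule h.sρ', inv_rule h.aρ, inv_rule h.c'ρ',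
      inv_rule h.aρ', re (inv_rule h.sρ), re (inv_rule h.cρ), re (inv_rule h.ρρ'), re (inv_rule h.ρc'),
      re (inv_rule h.sρ'), re (inv_rule h.aρ), re (inv_rule h.c'ρ'), re (inv_rule h.aρ'), hA, hB, hC, re hC, hD, re hD, one_mul, mul_one, inv_mul_cancel, mul_inv_cancel, inv_mul_cancel_left,
      mul_inv_cancel_left, inv_inv]

theorem R_y₂y (h : DD n ρ c ρ' c' a s e e') :
    (e' * c * c' * s) * (e' * c * c' * s) = e * e' := by
    have hA : e⁻¹ = e := h.einv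
    have hB : e'⁻¹ = e' := h.e'inv
    have hC : ρ⁻¹ * e = e * ρ⁻¹ := by
      rw [inv_mul_eq_iff_eq_mul, ← mul_assoc, h.ρe]; group
    have hD : ρ'⁻¹ * ρ = ρ * ρ'⁻¹ := by
      rw [inv_mul_eq_iff_eq_mul, ← mul_assoc, h.ρρ']; group
    simp only [mul_assoc, h.ss, h.aa, h.sa, h.sρ, h.sc, h.cc, h.cρ, h.ac, h.ρρ', h.ρc', h.cc', h.ee, h.sρ',
      h.sc', h.aρ, h.c'c', h.c'ρ', h.ac', h.aρ', h.cρ', h.e'e', h.se, h.se', h.ae, h.ae', h.ce, h.c'e',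
      h.c'e, h.ce', h.ρe, h.ρ'e', h.ρ'e, h.ρe', h.e'e, re h.ss, re h.aa, re h.sa, re h.sρ, re h.sc, re h.cc,
      re h.cρ, re h.ac, re h.ρρ', re h.ρc', re h.cc', re h.ee, re h.sρ', re h.sc', re h.aρ, re h.c'c',
      re h.c'ρ', re h.ac', re h.aρ', re h.cρ', re h.e'e', re h.se, re h.se', re h.ae, re h.ae', re h.ce,
      re h.c'e', re h.c'e, re h.ce', re h.ρe, re h.ρ'e', re h.ρ'e, re h.ρe', re h.e'e, inv_rule h.sρ,
      inv_rule h.cρ, inv_rule h.ρρ', inv_rule h.ρc', inv_rule h.sρ', inv_rule h.aρ, inv_rule h.c'ρ',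
      inv_rule h.aρ', re (inv_rule h.sρ), re (inv_rule h.cρ), re (inv_rule h.ρρ'), re (inv_rule h.ρc'),
      re (inv_rule h.sρ'), re (inv_rule h.aρ), re (inv_rule h.c'ρ'), re (inv_rule h.aρ'), hA, hB, hC, re hC, hD, re hD, one_mul, mul_one, inv_mul_cancel, mul_inv_cancel, inv_mul_cancel_left,
      mul_inv_cancel_left, inv_inv]

theorem R_prod (h : DD n ρ c ρ' c' a s e e') :
    (e * e' * a * c * ρ' * c') * (e * e' * a * c * c') = ρ := by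
    have hA : e⁻¹ = e := h.einv
    have hB : e'⁻¹ = e' := h.e'inv
    have hC : ρ⁻¹ * e = e * ρ⁻¹ := by
      rw [inv_mul_eq_iff_eq_mul, ← mul_assoc, h.ρe]; group
    have hD : ρ'⁻¹ * ρ = ρ * ρ'⁻¹ := by
      rw [inv_mul_eq_iff_eq_mul, ← mul_assoc, h.ρρ']; group
    simp only [mul_assoc, h.ss, h.aa, h.sa, h.sρ, h.sc, h.cc, h.cρ, h.ac, h.ρρ', h.ρc', h.cc', h.ee, h.sρ',
      h.sc', h.aρ, h.c'c', h.c'ρ', h.ac', h.aρ', h.cρ', h.e'e', h.se, h.se', h.ae, h.ae', h.ce, h.c'e',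
      h.c'e, h.ce', h.ρe, h.ρ'e', h.ρ'e, h.ρe', h.e'e, re h.ss, re h.aa, re h.sa, re h.sρ, re h.sc, re h.cc,
      re h.cρ, re h.ac, re h.ρρ', re h.ρc', re h.cc', re h.ee, re h.sρ', re h.sc', re h.aρ, re h.c'c',
      re h.c'ρ', re h.ac', re h.aρ', re h.cρ', re h.e'e', re h.se, re h.se', re h.ae, re h.ae', re h.ce,
      re h.c'e', re h.c'e, re h.ce', re h.ρe, re h.ρ'e', re h.ρ'e, re h.ρe', re h.e'e, inv_rule h.sρ,
      inv_rule h.cρ, inv_rule h.ρρ', inv_rule h.ρc', inv_rule h.sρ', inv_rule h.aρ, inv_rule h.c'ρ',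
      inv_rule h.aρ', re (inv_rule h.sρ), re (inv_rule h.cρ), re (inv_rule h.ρρ'), re (inv_rule h.ρc'),
      re (inv_rule h.sρ'), re (inv_rule h.aρ), re (inv_rule h.c'ρ'), re (inv_rule h.aρ'), hA, hB, hC, re hC, hD, re hD, one_mul, mul_one, inv_mul_cancel, mul_inv_cancel, inv_mul_cancel_left,
      mul_inv_cancel_left, inv_inv]

theorem R_prod' (h : DD n ρ c ρ' c' a s e e') :
    (e * e' * a * c * c') * (e * e' * a * c * ρ' * c') = ρ := by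
    have hA : e⁻¹ = e := h.einv
    have hB : e'⁻¹ = e' := h.e'inv
    have hC : ρ⁻¹ * e = e * ρ⁻¹ := by
      rw [inv_mul_eq_iff_eq_mul, ← mul_assoc, h.ρe]; group
    have hD : ρ'⁻¹ * ρ = ρ * ρ'⁻¹ := by
      rw [inv_mul_eq_iff_eq_mul, ← mul_assoc, h.ρρ']; group
    simp only [mul_assoc, h.ss, h.aa, h.sa, h.sρ, h.sc, h.cc, h.cρ, h.ac, h.ρρ', h.ρc', h.cc', h.ee, h.sρ',
      h.sc', h.aρ, h.c'c', h.c'ρ', h.ac', h.aρ', h.cρ', h.e'e', h.se, h.se', h.ae, h.ae', h.ce, h.c'e',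
      h.c'e, h.ce', h.ρe, h.ρ'e', h.ρ'e, h.ρe', h.e'e, re h.ss, re h.aa, re h.sa, re h.sρ, re h.sc, re h.cc,
      re h.cρ, re h.ac, re h.ρρ', re h.ρc', re h.cc', re h.ee, re h.sρ', re h.sc', re h.aρ, re h.c'c',
      re h.c'ρ', re h.ac', re h.aρ', re h.cρ', re h.e'e', re h.se, re h.se', re h.ae, re h.ae', re h.ce,
      re h.c'e', re h.c'e, re h.ce', re h.ρe, re h.ρ'e', re h.ρ'e, re h.ρe', re h.e'e, inv_rule h.sρ,
      inv_rule h.cρ, inv_rule h.ρρ', inv_rule h.ρc', inv_rule h.sρ', inv_rule h.aρ, inv_rule h.c'ρ',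
      inv_rule h.aρ', re (inv_rule h.sρ), re (inv_rule h.cρ), re (inv_rule h.ρρ'), re (inv_rule h.ρc'),
      re (inv_rule h.sρ'), re (inv_rule h.aρ), re (inv_rule h.c'ρ'), re (inv_rule h.aρ'), hA, hB, hC, re hC, hD, re hD, one_mul, mul_one, inv_mul_cancel, mul_inv_cancel, inv_mul_cancel_left,
      mul_inv_cancel_left, inv_inv]

theorem R_ry1 (h : DD n ρ c ρ' c' a s e e') :
    (e * e' * a * c * ρ' * c') * (e * s) * (e * e' * a * c * ρ' * c') = e * s := by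
    have hA : e⁻¹ = e := h.einv
    have hB : e'⁻¹ = e' := h.e'inv
    have hC : ρ⁻¹ * e = e * ρ⁻¹ := by
      rw [inv_mul_eq_iff_eq_mul, ← mul_assoc, h.ρe]; group
    have hD : ρ'⁻¹ * ρ = ρ * ρ'⁻¹ := by
      rw [inv_mul_eq_iff_eq_mul, ← mul_assoc, h.ρρ']; group
    simp only [mul_assoc, h.ss, h.aa, h.sa, h.sρ, h.sc, h.cc, h.cρ, h.ac, h.ρρ', h.ρc', h.cc', h.ee, h.sρ',
      h.sc', h.aρ, h.c'c', h.c'ρ', h.ac', h.aρ', h.cρ', h.e'e', h.se, h.se', h.ae, h.ae', h.ce, h.c'e',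
      h.c'e, h.ce', h.ρe, h.ρ'e', h.ρ'e, h.ρe', h.e'e, re h.ss, re h.aa, re h.sa, re h.sρ, re h.sc, re h.cc,
      re h.cρ, re h.ac, re h.ρρ', re h.ρc', re h.cc', re h.ee, re h.sρ', re h.sc', re h.aρ, re h.c'c',
      re h.c'ρ', re h.ac', re h.aρ', re h.cρ', re h.e'e', re h.se, re h.se', re h.ae, re h.ae', re h.ce,
      re h.c'e', re h.c'e, re h.ce', re h.ρe, re h.ρ'e', re h.ρ'e, re h.ρe', re h.e'e, inv_rule h.sρ,
      inv_rule h.cρ, inv_rule h.ρρ', inv_rule h.ρc', inv_rule h.sρ', inv_rule h.aρ, inv_rule h.c'ρ',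
      inv_rule h.aρ', re (inv_rule h.sρ), re (inv_rule h.cρ), re (inv_rule h.ρρ'), re (inv_rule h.ρc'),
      re (inv_rule h.sρ'), re (inv_rule h.aρ), re (inv_rule h.c'ρ'), re (inv_rule h.aρ'), hA, hB, hC, re hC, hD, re hD, one_mul, mul_one, inv_mul_cancel, mul_inv_cancel, inv_mul_cancel_left,
      mul_inv_cancel_left, inv_inv]

theorem R_ry2 (h : DD n ρ c ρ' c' a s e e') :
    (e * e' * a * c * c') * (e' * c * c' * s) * (e * e' * a * c * c') = e' * c * c' * s := by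
    have hA : e⁻¹ = e := h.einv
    have hB : e'⁻¹ = e' := h.e'inv
    have hC : ρ⁻¹ * e = e * ρ⁻¹ := by
      rw [inv_mul_eq_iff_eq_mul, ← mul_assoc, h.ρe]; group
    have hD : ρ'⁻¹ * ρ = ρ * ρ'⁻¹ := by
      rw [inv_mul_eq_iff_eq_mul, ← mul_assoc, h.ρρ']; group
    simp only [mul_assoc, h.ss, h.aa, h.sa, h.sρ, h.sc, h.cc, h.cρ, h.ac, h.ρρ', h.ρc', h.cc', h.ee, h.sρ',
      h.sc', h.aρ, h.c'c', h.c'ρ', h.ac', h.aρ', h.cρ', h.e'e', h.se, h.se', h.ae, h.ae', h.ce, h.c'e',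
      h.c'e, h.ce', h.ρe, h.ρ'e', h.ρ'e, h.ρe', h.e'e, re h.ss, re h.aa, re h.sa, re h.sρ, re h.sc, re h.cc,
      re h.cρ, re h.ac, re h.ρρ', re h.ρc', re h.cc', re h.ee, re h.sρ', re h.sc', re h.aρ, re h.c'c',
      re h.c'ρ', re h.ac', re h.aρ', re h.cρ', re h.e'e', re h.se, re h.se', re h.ae, re h.ae', re h.ce,
      re h.c'e', re h.c'e, re h.ce', re h.ρe, re h.ρ'e', re h.ρ'e, re h.ρe', re h.e'e, inv_rule h.sρ,
      inv_rule h.cρ, inv_rule h.ρρ', inv_rule h.ρc', inv_rule h.sρ', inv_rule h.aρ, inv_rule h.c'ρ',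
      inv_rule h.aρ', re (inv_rule h.sρ), re (inv_rule h.cρ), re (inv_rule h.ρρ'), re (inv_rule h.ρc'),
      re (inv_rule h.sρ'), re (inv_rule h.aρ), re (inv_rule h.c'ρ'), re (inv_rule h.aρ'), hA, hB, hC, re hC, hD, re hD, one_mul, mul_one, inv_mul_cancel, mul_inv_cancel, inv_mul_cancel_left,
      mul_inv_cancel_left, inv_inv]

theorem R_ry (h : DD n ρ c ρ' c' a s e e') :
    (e * e' * a * c * ρ' * c') * (e' * c * c' * s) = (e' * c * c' * s) * (e * e' * a * c * ρ' * c') := by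
    have hA : e⁻¹ = e := h.einv
    have hB : e'⁻¹ = e' := h.e'inv
    have hC : ρ⁻¹ * e = e * ρ⁻¹ := by
      rw [inv_mul_eq_iff_eq_mul, ← mul_assoc, h.ρe]; group
    have hD : ρ'⁻¹ * ρ = ρ * ρ'⁻¹ := by
      rw [inv_mul_eq_iff_eq_mul, ← mul_assoc, h.ρρ']; group
    simp only [mul_assoc, h.ss, h.aa, h.sa, h.sρ, h.sc, h.cc, h.cρ, h.ac, h.ρρ', h.ρc', h.cc', h.ee, h.sρ',
      h.sc', h.aρ, h.c'c', h.c'ρ', h.ac', h.aρ', h.cρ', h.e'e', h.se, h.se', h.ae, h.ae', h.ce, h.c'e',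
      h.c'e, h.ce', h.ρe, h.ρ'e', h.ρ'e, h.ρe', h.e'e, re h.ss, re h.aa, re h.sa, re h.sρ, re h.sc, re h.cc,
      re h.cρ, re h.ac, re h.ρρ', re h.ρc', re h.cc', re h.ee, re h.sρ', re h.sc', re h.aρ, re h.c'c',
      re h.c'ρ', re h.ac', re h.aρ', re h.cρ', re h.e'e', re h.se, re h.se', re h.ae, re h.ae', re h.ce,
      re h.c'e', re h.c'e, re h.ce', re h.ρe, re h.ρ'e', re h.ρ'e, re h.ρe', re h.e'e, inv_rule h.sρ,
      inv_rule h.cρ, inv_rule h.ρρ', inv_rule h.ρc', inv_rule h.sρ', inv_rule h.aρ, inv_rule h.c'ρ',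
      inv_rule h.aρ', re (inv_rule h.sρ), re (inv_rule h.cρ), re (inv_rule h.ρρ'), re (inv_rule h.ρc'),
      re (inv_rule h.sρ'), re (inv_rule h.aρ), re (inv_rule h.c'ρ'), re (inv_rule h.aρ'), hA, hB, hC, re hC, hD, re hD, one_mul, mul_one, inv_mul_cancel, mul_inv_cancel, inv_mul_cancel_left,
      mul_inv_cancel_left, inv_inv]

theorem R_yr (h : DD n ρ c ρ' c' a s e e') :
    (e * s) * (e * e' * a * c * c') = (e * e' * a * c * c') * (e * s) := by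
    have hA : e⁻¹ = e := h.einv
    have hB : e'⁻¹ = e' := h.e'inv
    have hC : ρ⁻¹ * e = e * ρ⁻¹ := by
      rw [inv_mul_eq_iff_eq_mul, ← mul_assoc, h.ρe]; group
    have hD : ρ'⁻¹ * ρ = ρ * ρ'⁻¹ := by
      rw [inv_mul_eq_iff_eq_mul, ← mul_assoc, h.ρρ']; group
    simp only [mul_assoc, h.ss, h.aa, h.sa, h.sρ, h.sc, h.cc, h.cρ, h.ac, h.ρρ', h.ρc', h.cc', h.ee, h.sρ',
      h.sc', h.aρ, h.c'c', h.c'ρ', h.ac', h.aρ', h.cρ', h.e'e', h.se, h.se', h.ae, h.ae', h.ce, h.c'e',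
      h.c'e, h.ce', h.ρe, h.ρ'e', h.ρ'e, h.ρe', h.e'e, re h.ss, re h.aa, re h.sa, re h.sρ, re h.sc, re h.cc,
      re h.cρ, re h.ac, re h.ρρ', re h.ρc', re h.cc', re h.ee, re h.sρ', re h.sc', re h.aρ, re h.c'c',
      re h.c'ρ', re h.ac', re h.aρ', re h.cρ', re h.e'e', re h.se, re h.se', re h.ae, re h.ae', re h.ce,
      re h.c'e', re h.c'e, re h.ce', re h.ρe, re h.ρ'e', re h.ρ'e, re h.ρe', re h.e'e, inv_rule h.sρ,
      inv_rule h.cρ, inv_rule h.ρρ', inv_rule h.ρc', inv_rule h.sρ', inv_rule h.aρ, inv_rule h.c'ρ',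
      inv_rule h.aρ', re (inv_rule h.sρ), re (inv_rule h.cρ), re (inv_rule h.ρρ'), re (inv_rule h.ρc'),
      re (inv_rule h.sρ'), re (inv_rule h.aρ), re (inv_rule h.c'ρ'), re (inv_rule h.aρ'), hA, hB, hC, re hC, hD, re hD, one_mul, mul_one, inv_mul_cancel, mul_inv_cancel, inv_mul_cancel_left,
      mul_inv_cancel_left, inv_inv]

theorem R_yy (h : DD n ρ c ρ' c' a s e e') :
    (e * s) * (e' * c * c' * s) = (e' * c * c' * s) * (e * s) := by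
    have hA : e⁻¹ = e := h.einv
    have hB : e'⁻¹ = e' := h.e'inv
    have hC : ρ⁻¹ * e = e * ρ⁻¹ := by
      rw [inv_mul_eq_iff_eq_mul, ← mul_assoc, h.ρe]; group
    have hD : ρ'⁻¹ * ρ = ρ * ρ'⁻¹ := by
      rw [inv_mul_eq_iff_eq_mul, ← mul_assoc, h.ρρ']; group
    simp only [mul_assoc, h.ss, h.aa, h.sa, h.sρ, h.sc, h.cc, h.cρ, h.ac, h.ρρ', h.ρc', h.cc', h.ee, h.sρ',
      h.sc', h.aρ, h.c'c', h.c'ρ', h.ac', h.aρ', h.cρ', h.e'e', h.se, h.se', h.ae, h.ae', h.ce, h.c'e',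
      h.c'e, h.ce', h.ρe, h.ρ'e', h.ρ'e, h.ρe', h.e'e, re h.ss, re h.aa, re h.sa, re h.sρ, re h.sc, re h.cc,
      re h.cρ, re h.ac, re h.ρρ', re h.ρc', re h.cc', re h.ee, re h.sρ', re h.sc', re h.aρ, re h.c'c',
      re h.c'ρ', re h.ac', re h.aρ', re h.cρ', re h.e'e', re h.se, re h.se', re h.ae, re h.ae', re h.ce,
      re h.c'e', re h.c'e, re h.ce', re h.ρe, re h.ρ'e', re h.ρ'e, re h.ρe', re h.e'e, inv_rule h.sρ,
      inv_rule h.cρ, inv_rule h.ρρ', inv_rule h.ρc', inv_rule h.sρ', inv_rule h.aρ, inv_rule h.c'ρ',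
      inv_rule h.aρ', re (inv_rule h.sρ), re (inv_rule h.cρ), re (inv_rule h.ρρ'), re (inv_rule h.ρc'),
      re (inv_rule h.sρ'), re (inv_rule h.aρ), re (inv_rule h.c'ρ'), re (inv_rule h.aρ'), hA, hB, hC, re hC, hD, re hD, one_mul, mul_one, inv_mul_cancel, mul_inv_cancel, inv_mul_cancel_left,
      mul_inv_cancel_left, inv_inv]

theorem R_tt (h : DD n ρ c ρ' c' a s e e') :
    (e * c') * (e * c') = 1 := by
    have hA : e⁻¹ = e := h.einv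
    have hB : e'⁻¹ = e' := h.e'inv
    have hC : ρ⁻¹ * e = e * ρ⁻¹ := by
      rw [inv_mul_eq_iff_eq_mul, ← mul_assoc, h.ρe]; group
    have hD : ρ'⁻¹ * ρ = ρ * ρ'⁻¹ := by
      rw [inv_mul_eq_iff_eq_mul, ← mul_assoc, h.ρρ']; group
    simp only [mul_assoc, h.ss, h.aa, h.sa, h.sρ, h.sc, h.cc, h.cρ, h.ac, h.ρρ', h.ρc', h.cc', h.ee, h.sρ',
      h.sc', h.aρ, h.c'c', h.c'ρ', h.ac', h.aρ', h.cρ', h.e'e', h.se, h.se', h.ae, h.ae', h.ce, h.c'e',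
      h.c'e, h.ce', h.ρe, h.ρ'e', h.ρ'e, h.ρe', h.e'e, re h.ss, re h.aa, re h.sa, re h.sρ, re h.sc, re h.cc,
      re h.cρ, re h.ac, re h.ρρ', re h.ρc', re h.cc', re h.ee, re h.sρ', re h.sc', re h.aρ, re h.c'c',
      re h.c'ρ', re h.ac', re h.aρ', re h.cρ', re h.e'e', re h.se, re h.se', re h.ae, re h.ae', re h.ce,
      re h.c'e', re h.c'e, re h.ce', re h.ρe, re h.ρ'e', re h.ρ'e, re h.ρe', re h.e'e, inv_rule h.sρ,
      inv_rule h.cρ, inv_rule h.ρρ', inv_rule h.ρc', inv_rule h.sρ', inv_rule h.aρ, inv_rule h.c'ρ',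
      inv_rule h.aρ', re (inv_rule h.sρ), re (inv_rule h.cρ), re (inv_rule h.ρρ'), re (inv_rule h.ρc'),
      re (inv_rule h.sρ'), re (inv_rule h.aρ), re (inv_rule h.c'ρ'), re (inv_rule h.aρ'), hA, hB, hC, re hC, hD, re hD, one_mul, mul_one, inv_mul_cancel, mul_inv_cancel, inv_mul_cancel_left,
      mul_inv_cancel_left, inv_inv]

theorem R_tr (h : DD n ρ c ρ' c' a s e e') :
    (e * c') * (e * e' * a * c * ρ' * c') = (e * e' * a * c * c') * (e * c') := by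
    have hA : e⁻¹ = e := h.einv
    have hB : e'⁻¹ = e' := h.e'inv
    have hC : ρ⁻¹ * e = e * ρ⁻¹ := by
      rw [inv_mul_eq_iff_eq_mul, ← mul_assoc, h.ρe]; group
    have hD : ρ'⁻¹ * ρ = ρ * ρ'⁻¹ := by
      rw [inv_mul_eq_iff_eq_mul, ← mul_assoc, h.ρρ']; group
    simp only [mul_assoc, h.ss, h.aa, h.sa, h.sρ, h.sc, h.cc, h.cρ, h.ac, h.ρρ', h.ρc', h.cc', h.ee, h.sρ',
      h.sc', h.aρ, h.c'c', h.c'ρ', h.ac', h.aρ', h.cρ', h.e'e', h.se, h.se', h.ae, h.ae', h.ce, h.c'e',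
      h.c'e, h.ce', h.ρe, h.ρ'e', h.ρ'e, h.ρe', h.e'e, re h.ss, re h.aa, re h.sa, re h.sρ, re h.sc, re h.cc,
      re h.cρ, re h.ac, re h.ρρ', re h.ρc', re h.cc', re h.ee, re h.sρ', re h.sc', re h.aρ, re h.c'c',
      re h.c'ρ', re h.ac', re h.aρ', re h.cρ', re h.e'e', re h.se, re h.se', re h.ae, re h.ae', re h.ce,
      re h.c'e', re h.c'e, re h.ce', re h.ρe, re h.ρ'e', re h.ρ'e, re h.ρe', re h.e'e, inv_rule h.sρ,
      inv_rule h.cρ, inv_rule h.ρρ', inv_rule h.ρc', inv_rule h.sρ', inv_rule h.aρ, inv_rule h.c'ρ',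
      inv_rule h.aρ', re (inv_rule h.sρ), re (inv_rule h.cρ), re (inv_rule h.ρρ'), re (inv_rule h.ρc'),
      re (inv_rule h.sρ'), re (inv_rule h.aρ), re (inv_rule h.c'ρ'), re (inv_rule h.aρ'), hA, hB, hC, re hC, hD, re hD, one_mul, mul_one, inv_mul_cancel, mul_inv_cancel, inv_mul_cancel_left,
      mul_inv_cancel_left, inv_inv]

theorem R_ty (h : DD n ρ c ρ' c' a s e e') :
    (e * c') * (e * s) = (e' * c * c' * s) * (e * c') := by
    have hA : e⁻¹ = e := h.einv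
    have hB : e'⁻¹ = e' := h.e'inv
    have hC : ρ⁻¹ * e = e * ρ⁻¹ := by
      rw [inv_mul_eq_iff_eq_mul, ← mul_assoc, h.ρe]; group
    have hD : ρ'⁻¹ * ρ = ρ * ρ'⁻¹ := by
      rw [inv_mul_eq_iff_eq_mul, ← mul_assoc, h.ρρ']; group
    simp only [mul_assoc, h.ss, h.aa, h.sa, h.sρ, h.sc, h.cc, h.cρ, h.ac, h.ρρ', h.ρc', h.cc', h.ee, h.sρ',
      h.sc', h.aρ, h.c'c', h.c'ρ', h.ac', h.aρ', h.cρ', h.e'e', h.se, h.se', h.ae, h.ae', h.ce, h.c'e',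
      h.c'e, h.ce', h.ρe, h.ρ'e', h.ρ'e, h.ρe', h.e'e, re h.ss, re h.aa, re h.sa, re h.sρ, re h.sc, re h.cc,
      re h.cρ, re h.ac, re h.ρρ', re h.ρc', re h.cc', re h.ee, re h.sρ', re h.sc', re h.aρ, re h.c'c',
      re h.c'ρ', re h.ac', re h.aρ', re h.cρ', re h.e'e', re h.se, re h.se', re h.ae, re h.ae', re h.ce,
      re h.c'e', re h.c'e, re h.ce', re h.ρe, re h.ρ'e', re h.ρ'e, re h.ρe', re h.e'e, inv_rule h.sρ,
      inv_rule h.cρ, inv_rule h.ρρ', inv_rule h.ρc', inv_rule h.sρ', inv_rule h.aρ, inv_rule h.c'ρ',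
      inv_rule h.aρ', re (inv_rule h.sρ), re (inv_rule h.cρ), re (inv_rule h.ρρ'), re (inv_rule h.ρc'),
      re (inv_rule h.sρ'), re (inv_rule h.aρ), re (inv_rule h.c'ρ'), re (inv_rule h.aρ'), hA, hB, hC, re hC, hD, re hD, one_mul, mul_one, inv_mul_cancel, mul_inv_cancel, inv_mul_cancel_left,
      mul_inv_cancel_left, inv_inv]

theorem R_gs (h : DD n ρ c ρ' c' a s e e') :
    e * (e * s) = s := by
    have hA : e⁻¹ = e := h.einv
    have hB : e'⁻¹ = e' := h.e'inv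
    have hC : ρ⁻¹ * e = e * ρ⁻¹ := by
      rw [inv_mul_eq_iff_eq_mul, ← mul_assoc, h.ρe]; group
    have hD : ρ'⁻¹ * ρ = ρ * ρ'⁻¹ := by
      rw [inv_mul_eq_iff_eq_mul, ← mul_assoc, h.ρρ']; group
    simp only [mul_assoc, h.ss, h.aa, h.sa, h.sρ, h.sc, h.cc, h.cρ, h.ac, h.ρρ', h.ρc', h.cc', h.ee, h.sρ',
      h.sc', h.aρ, h.c'c', h.c'ρ', h.ac', h.aρ', h.cρ', h.e'e', h.se, h.se', h.ae, h.ae', h.ce, h.c'e',
      h.c'e, h.ce', h.ρe, h.ρ'e', h.ρ'e, h.ρe', h.e'e, re h.ss, re h.aa, re h.sa, re h.sρ, re h.sc, re h.cc,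
      re h.cρ, re h.ac, re h.ρρ', re h.ρc', re h.cc', re h.ee, re h.sρ', re h.sc', re h.aρ, re h.c'c',
      re h.c'ρ', re h.ac', re h.aρ', re h.cρ', re h.e'e', re h.se, re h.se', re h.ae, re h.ae', re h.ce,
      re h.c'e', re h.c'e, re h.ce', re h.ρe, re h.ρ'e', re h.ρ'e, re h.ρe', re h.e'e, inv_rule h.sρ,
      inv_rule h.cρ, inv_rule h.ρρ', inv_rule h.ρc', inv_rule h.sρ', inv_rule h.aρ, inv_rule h.c'ρ',
      inv_rule h.aρ', re (inv_rule h.sρ), re (inv_rule h.cρ), re (inv_rule h.ρρ'), re (inv_rule h.ρc'),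
      re (inv_rule h.sρ'), re (inv_rule h.aρ), re (inv_rule h.c'ρ'), re (inv_rule h.aρ'), hA, hB, hC, re hC, hD, re hD, one_mul, mul_one, inv_mul_cancel, mul_inv_cancel, inv_mul_cancel_left,
      mul_inv_cancel_left, inv_inv]

theorem R_gc' (h : DD n ρ c ρ' c' a s e e') :
    e * (e * c') = c' := by
    have hA : e⁻¹ = e := h.einv
    have hB : e'⁻¹ = e' := h.e'inv
    have hC : ρ⁻¹ * e = e * ρ⁻¹ := by
      rw [inv_mul_eq_iff_eq_mul, ← mul_assoc, h.ρe]; group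
    have hD : ρ'⁻¹ * ρ = ρ * ρ'⁻¹ := by
      rw [inv_mul_eq_iff_eq_mul, ← mul_assoc, h.ρρ']; group
    simp only [mul_assoc, h.ss, h.aa, h.sa, h.sρ, h.sc, h.cc, h.cρ, h.ac, h.ρρ', h.ρc', h.cc', h.ee, h.sρ',
      h.sc', h.aρ, h.c'c', h.c'ρ', h.ac', h.aρ', h.cρ', h.e'e', h.se, h.se', h.ae, h.ae', h.ce, h.c'e',
      h.c'e, h.ce', h.ρe, h.ρ'e', h.ρ'e, h.ρe', h.e'e, re h.ss, re h.aa, re h.sa, re h.sρ, re h.sc, re h.cc,
      re h.cρ, re h.ac, re h.ρρ', re h.ρc', re h.cc', re h.ee, re h.sρ', re h.sc', re h.aρ, re h.c'c',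
      re h.c'ρ', re h.ac', re h.aρ', re h.cρ', re h.e'e', re h.se, re h.se', re h.ae, re h.ae', re h.ce,
      re h.c'e', re h.c'e, re h.ce', re h.ρe, re h.ρ'e', re h.ρ'e, re h.ρe', re h.e'e, inv_rule h.sρ,
      inv_rule h.cρ, inv_rule h.ρρ', inv_rule h.ρc', inv_rule h.sρ', inv_rule h.aρ, inv_rule h.c'ρ',
      inv_rule h.aρ', re (inv_rule h.sρ), re (inv_rule h.cρ), re (inv_rule h.ρρ'), re (inv_rule h.ρc'),
      re (inv_rule h.sρ'), re (inv_rule h.aρ), re (inv_rule h.c'ρ'), re (inv_rule h.aρ'), hA, hB, hC, re hC, hD, re hD, one_mul, mul_one, inv_mul_cancel, mul_inv_cancel, inv_mul_cancel_left,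
      mul_inv_cancel_left, inv_inv]

theorem R_ga (h : DD n ρ c ρ' c' a s e e') :
    (e * e' * a * c * c') * (c' * c) * (e * e') = a := by
    have hA : e⁻¹ = e := h.einv
    have hB : e'⁻¹ = e' := h.e'inv
    have hC : ρ⁻¹ * e = e * ρ⁻¹ := by
      rw [inv_mul_eq_iff_eq_mul, ← mul_assoc, h.ρe]; group
    have hD : ρ'⁻¹ * ρ = ρ * ρ'⁻¹ := by
      rw [inv_mul_eq_iff_eq_mul, ← mul_assoc, h.ρρ']; group
    simp only [mul_assoc, h.ss, h.aa, h.sa, h.sρ, h.sc, h.cc, h.cρ, h.ac, h.ρρ', h.ρc', h.cc', h.ee, h.sρ',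
      h.sc', h.aρ, h.c'c', h.c'ρ', h.ac', h.aρ', h.cρ', h.e'e', h.se, h.se', h.ae, h.ae', h.ce, h.c'e',
      h.c'e, h.ce', h.ρe, h.ρ'e', h.ρ'e, h.ρe', h.e'e, re h.ss, re h.aa, re h.sa, re h.sρ, re h.sc, re h.cc,
      re h.cρ, re h.ac, re h.ρρ', re h.ρc', re h.cc', re h.ee, re h.sρ', re h.sc', re h.aρ, re h.c'c',
      re h.c'ρ', re h.ac', re h.aρ', re h.cρ', re h.e'e', re h.se, re h.se', re h.ae, re h.ae', re h.ce,
      re h.c'e', re h.c'e, re h.ce', re h.ρe, re h.ρ'e', re h.ρ'e, re h.ρe', re h.e'e, inv_rule h.sρ,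
      inv_rule h.cρ, inv_rule h.ρρ', inv_rule h.ρc', inv_rule h.sρ', inv_rule h.aρ, inv_rule h.c'ρ',
      inv_rule h.aρ', re (inv_rule h.sρ), re (inv_rule h.cρ), re (inv_rule h.ρρ'), re (inv_rule h.ρc'),
      re (inv_rule h.sρ'), re (inv_rule h.aρ), re (inv_rule h.c'ρ'), re (inv_rule h.aρ'), hA, hB, hC, re hC, hD, re hD, one_mul, mul_one, inv_mul_cancel, mul_inv_cancel, inv_mul_cancel_left,
      mul_inv_cancel_left, inv_inv]

end rel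

end Cfsg.Agent.GH.L2.TypeSp4Rel
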