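import Cfsg.Agent.GH.L2.WrFour
import Cfsg.Agent.TwoFusion.IndexTwo

/-!
# Project GH, branch GH-L2: Sylow 2-subgroups `Z₂ wr Z₄`

`E = V × U` elementary abelian of order 16, `S = E⟨s⟩` a Sylow 2-subgroup, `s` of order 4 swapping `V` and `U`, `s²`
nontrivial on `V`; `N_G(E)` preserves `V ∪ U` and is transitive on the pairs `(v, u)`.  Then `G` has a subgroup of
index two.
-/

set_option autoImplicit false

namespace Cfsg.Agent.GH.L2.WrCyc

open Subgroup Tool

variable {G : Type*} [Group G]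

structure Cyc (S E V U : Subgroup G) (s : G) : Prop where
  memE : ∀ x, x ∈ E ↔ ∃ v ∈ V, ∃ u ∈ U, x = v * u
  cardE : Nat.card E = 16
  sqV : ∀ v ∈ V, v * v = 1
  sqU : ∀ u ∈ U, u * u = 1
  comm : ∀ v ∈ V, ∀ u ∈ U, v * u = u * v
  disj : ∀ x ∈ V, x ∈ U → x = 1
  E_le : E ≤ S
  s_mem : s ∈ S
  sV : ∀ v ∈ V, s * v * s⁻¹ ∈ U
  sU : ∀ u ∈ U, s * u * s⁻¹ ∈ V
  s4 : s * s * (s * s) = 1
  cardCV : Nat.card (V ⊓ centralizer ({s * s} : Set G) : Subgroup G) = 2
  cov : ∀ x ∈ S, (x ∈ E ∨ s * s * x ∈ E) ∨ (s * x ∈ E ∨ s * (s * s * x) ∈ E)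
  part : ∀ n, (∀ e ∈ E, n * e * n⁻¹ ∈ E) → ∀ v, v ∈ V ∨ v ∈ U → n * v * n⁻¹ ∈ V ∨ n * v * n⁻¹ ∈ U
  trans : ∀ v ∈ V, ∀ v' ∈ V, ∀ u ∈ U, ∀ u' ∈ U, v ≠ 1 → v' ≠ 1 → u ≠ 1 → u' ≠ 1 →
    ∃ n, (∀ e ∈ E, n * e * n⁻¹ ∈ E) ∧ n * v * n⁻¹ = v' ∧ n * u * n⁻¹ = u'

namespace Cyc

variable {S E V U : Subgroup G} {s : G} (C : Cyc S E V U s)
include C

theorem VE {v : G} (hv : v ∈ V) : v ∈ E := (C.memE v).2 ⟨v, hv, 1, U.one_mem, (mul_one v).symm⟩

theorem UE {u : G} (hu : u ∈ U) : u ∈ E := (C.memE u).2 ⟨1, V.one_mem, u, hu, (one_mul u).symm⟩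

theorem sqE {e : G} (he : e ∈ E) : e * e = 1 := by
  obtain ⟨v, hv, u, hu, rfl⟩ := (C.memE e).1 he
  calc v * u * (v * u) = v * (u * v) * u := by group
    _ = v * (v * u) * u := by rw [C.comm v hv u hu]
    _ = (v * v) * (u * u) := by group
    _ = 1 := by rw [C.sqV v hv, C.sqU u hu, one_mul]

theorem commE {a b : G} (ha : a ∈ E) (hb : b ∈ E) : a * b = b * a := by
  have h := C.sqE (mul_mem ha hb)
  calc a * b = a * b * (b * a * (b * a)) := by rw [C.sqE (mul_mem hb ha), mul_one]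
    _ = (a * (b * b) * a) * (b * a) := by group
    _ = b * a := by rw [C.sqE hb, mul_one, C.sqE ha, one_mul]

theorem s_inv : s⁻¹ = s * s * s := by
  rw [inv_eq_iff_mul_eq_one]
  calc s * (s * s * s) = s * s * (s * s) := by group
    _ = 1 := C.s4

theorem sE {e : G} (he : e ∈ E) : s * e * s⁻¹ ∈ E := by
  obtain ⟨v, hv, u, hu, rfl⟩ := (C.memE e).1 he
  have e1 : s * (v * u) * s⁻¹ = (s * v * s⁻¹) * (s * u * s⁻¹) := by group
  rw [e1]
  exact mul_mem (C.UE (C.sV v hv)) (C.VE (C.sU u hu))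

theorem rV {v : G} (hv : v ∈ V) : s * s * v * (s * s) ∈ V := by
  have h := C.sU _ (C.sV v hv)
  have e1 : s * (s * v * s⁻¹) * s⁻¹ = s * s * v * (s * s)⁻¹ := by group
  have e2 : (s * s)⁻¹ = s * s := inv_eq_iff_mul_eq_one.mpr C.s4
  rw [e1, e2] at h
  exact h

theorem rU {u : G} (hu : u ∈ U) : s * s * u * (s * s) ∈ U := by
  have h := C.sV _ (C.sU u hu)
  have e1 : s * (s * u * s⁻¹) * s⁻¹ = s * s * u * (s * s)⁻¹ := by group
  have e2 : (s * s)⁻¹ = s * s := inv_eq_iff_mul_eq_one.mpr C.s4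
  rw [e1, e2] at h
  exact h

theorem rE {e : G} (he : e ∈ E) : s * s * e * (s * s) ∈ E := by
  have h := C.sE (C.sE he)
  have e1 : s * (s * e * s⁻¹) * s⁻¹ = s * s * e * (s * s)⁻¹ := by group
  have e2 : (s * s)⁻¹ = s * s := inv_eq_iff_mul_eq_one.mpr C.s4
  rw [e1, e2] at h
  exact h

/-- explicit elements -/
theorem exists_v0 [Finite G] : ∃ v ∈ V, v ≠ 1 ∧ v * (s * s) = s * s * v ∧
    ∀ x ∈ V, x * (s * s) = s * s * x → x = 1 ∨ x = v := by
  have hfin : Finite (V ⊓ centralizer ({s * s} : Set G) : Subgroup G) := inferInstance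
  have h2 := C.cardCV
  have hnt : Nontrivial (V ⊓ centralizer ({s * s} : Set G) : Subgroup G) := by
    rw [← Finite.one_lt_card_iff_nontrivial, h2]
    norm_num
  obtain ⟨v, hv⟩ := exists_ne (1 : (V ⊓ centralizer ({s * s} : Set G) : Subgroup G))
  refine ⟨v, (mem_inf.1 v.2).1, fun h => hv (Subtype.ext h), mem_centralizer_singleton_iff.1 (mem_inf.1 v.2).2,
    fun x hx hxs => ?_⟩
  by_contra hcon
  push Not at hcon
  let x' : (V ⊓ centralizer ({s * s} : Set G) : Subgroup G) :=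
    ⟨x, mem_inf.2 ⟨hx, mem_centralizer_singleton_iff.2 hxs⟩⟩
  have hx1 : x' ≠ 1 := fun h => hcon.1 (congrArg Subtype.val h)
  have hx2 : x' ≠ v := fun h => hcon.2 (congrArg Subtype.val h)
  have : Fintype (V ⊓ centralizer ({s * s} : Set G) : Subgroup G) := Fintype.ofFinite _
  have h3 : 3 ≤ Nat.card (V ⊓ centralizer ({s * s} : Set G) : Subgroup G) := by
    rw [Nat.card_eq_fintype_card]
    classical
    have h4 : ({1, v, x'} : Finset _).card ≤ Fintype.card (V ⊓ centralizer ({s * s} : Set G) : Subgroup G) :=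
      Finset.card_le_univ _
    rwa [Finset.card_eq_three.2 ⟨1, v, x', hv.symm, hx1.symm, hx2.symm, rfl⟩] at h4
  omega

theorem r_nmem : s * s ∉ E := by
  intro h
  have h1 : V ⊓ centralizer ({s * s} : Set G) = V := by
    apply le_antisymm inf_le_left
    intro v hv
    exact mem_inf.2 ⟨hv, mem_centralizer_singleton_iff.2 (C.commE (C.VE hv) h)⟩
  have h2 := C.cardCV
  rw [h1] at h2
  -- then `|E| ≤ 4`
  have h3 : U ⊓ centralizer ({s * s} : Set G) = U := by
    apply le_antisymm inf_le_left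
    intro v hv
    exact mem_inf.2 ⟨hv, mem_centralizer_singleton_iff.2 (C.commE (C.UE hv) h)⟩
  have hU : Nat.card U ≤ Nat.card V := by
    have : Finite V := Nat.finite_of_card_ne_zero (by rw [h2]; norm_num)
    refine Nat.card_le_card_of_injective (fun u : U => (⟨s * u * s⁻¹, C.sU u u.2⟩ : V)) ?_
    intro a b hab
    have := congrArg Subtype.val hab
    exact Subtype.ext (mul_left_cancel (mul_right_cancel this))
  have hfU : Finite U := by
    have : Finite V := Nat.finite_of_card_ne_zero (by rw [h2]; norm_num)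
    exact Finite.of_injective (fun u : U => (⟨s * u * s⁻¹, C.sU u u.2⟩ : V)) (by
      intro a b hab
      have := congrArg Subtype.val hab
      exact Subtype.ext (mul_left_cancel (mul_right_cancel this)))
  have hfV : Finite V := Nat.finite_of_card_ne_zero (by rw [h2]; norm_num)
  have hE : Nat.card E ≤ Nat.card (V × U) := by
    refine Nat.card_le_card_of_surjective (fun p : V × U => (⟨p.1 * p.2, mul_mem (C.VE p.1.2) (C.UE p.2.2)⟩ : E)) ?_
    intro e
    obtain ⟨v, hv, u, hu, h⟩ := (C.memE e).1 e.2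
    exact ⟨(⟨v, hv⟩, ⟨u, hu⟩), Subtype.ext h.symm⟩
  rw [C.cardE, Nat.card_prod, h2] at hE
  omega

end Cyc

/-- the subgroup `M = E⟨s²⟩` -/
def MM (E : Subgroup G) (r : G) (hr : r * r = 1) (hE : ∀ e ∈ E, r * e * r ∈ E) : Subgroup G where
  carrier := {x | x ∈ E ∨ r * x ∈ E}
  one_mem' := Or.inl E.one_mem
  mul_mem' := by
    rintro a b ha hb
    simp only [Set.mem_setOf_eq] at ha hb ⊢
    rcases ha with ha | ha <;> rcases hb with hb | hb
    · exact Or.inl (mul_mem ha hb)
    · right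
      have e1 : r * (a * b) = (r * a * r) * (r * b) := by
        calc r * (a * b) = r * a * 1 * b := by group
          _ = r * a * (r * r) * b := by rw [hr]
          _ = (r * a * r) * (r * b) := by group
      rw [e1]
      exact mul_mem (hE a ha) hb
    · right
      rw [← mul_assoc]
      exact mul_mem ha hb
    · left
      have h1 := hE _ ha
      have e1 : a * b = (r * (r * a) * r) * (r * b) := by
        calc a * b = 1 * a * 1 * b := by group
          _ = (r * r) * a * (r * r) * b := by rw [hr]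
          _ = (r * (r * a) * r) * (r * b) := by group
      rw [e1]
      exact mul_mem h1 hb
  inv_mem' := by
    rintro a ha
    simp only [Set.mem_setOf_eq] at ha ⊢
    rcases ha with ha | ha
    · exact Or.inl (inv_mem ha)
    · right
      have h1 := hE _ (inv_mem ha)
      have hri : r⁻¹ = r := inv_eq_iff_mul_eq_one.mpr hr
      have e1 : r * (r * a)⁻¹ * r = r * a⁻¹ := by
        rw [mul_inv_rev, hri]
        calc r * (a⁻¹ * r) * r = r * a⁻¹ * (r * r) := by group
          _ = r * a⁻¹ := by rw [hr, mul_one]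
      rw [e1] at h1
      exact h1

theorem mem_MM {E : Subgroup G} {r : G} {hr : r * r = 1} {hE : ∀ e ∈ E, r * e * r ∈ E} {x : G} :
    x ∈ MM E r hr hE ↔ x ∈ E ∨ r * x ∈ E := Iff.rfl

/-- explicit elements -/
structure Dat (E V U : Subgroup G) (s v u : G) : Prop where
  vV : v ∈ V
  uU : u ∈ U
  v1 : v ≠ 1
  u1 : u ≠ 1
  sv : s * v * s⁻¹ = u
  su : s * u * s⁻¹ = v
  rv : v * (s * s) = s * s * v
  ru : u * (s * s) = s * s * u
  W : ∀ x ∈ E, x * (s * s) = s * s * x → x = 1 ∨ x = v ∨ x = u ∨ x = v * u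

namespace Cyc

variable {S E V U : Subgroup G} {s : G} (C : Cyc S E V U s)
include C

theorem cardCU [Finite G] : Nat.card (U ⊓ centralizer ({s * s} : Set G) : Subgroup G) = 2 := by
  have hs : ∀ x : G, x * (s * s) = s * s * x → s * x * s⁻¹ * (s * s) = s * s * (s * x * s⁻¹) := by
    intro x hx
    calc s * x * s⁻¹ * (s * s) = s * (x * (s * s)) * s⁻¹ := by group
      _ = s * (s * s * x) * s⁻¹ := by rw [hx]
      _ = s * s * (s * x * s⁻¹) := by group
  apply le_antisymm
  · rw [← C.cardCV]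
    refine Nat.card_le_card_of_injective (fun u : (U ⊓ centralizer ({s * s} : Set G) : Subgroup G) =>
      (⟨s * u * s⁻¹, mem_inf.2 ⟨C.sU _ (mem_inf.1 u.2).1, mem_centralizer_singleton_iff.2
        (hs _ (mem_centralizer_singleton_iff.1 (mem_inf.1 u.2).2))⟩⟩ :
          (V ⊓ centralizer ({s * s} : Set G) : Subgroup G))) ?_
    intro a b hab
    have := congrArg Subtype.val hab
    exact Subtype.ext (mul_left_cancel (mul_right_cancel this))
  · rw [← C.cardCV]
    refine Nat.card_le_card_of_injective (fun u : (V ⊓ centralizer ({s * s} : Set G) : Subgroup G) =>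
      (⟨s * u * s⁻¹, mem_inf.2 ⟨C.sV _ (mem_inf.1 u.2).1, mem_centralizer_singleton_iff.2
        (hs _ (mem_centralizer_singleton_iff.1 (mem_inf.1 u.2).2))⟩⟩ :
          (U ⊓ centralizer ({s * s} : Set G) : Subgroup G))) ?_
    intro a b hab
    have := congrArg Subtype.val hab
    exact Subtype.ext (mul_left_cancel (mul_right_cancel this))

/-- components of an element of `E` commuting with `s²` -/
theorem split {v u : G} (hv : v ∈ V) (hu : u ∈ U) (h : v * u * (s * s) = s * s * (v * u)) :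
    v * (s * s) = s * s * v ∧ u * (s * s) = s * s * u := by
  have hr := C.s4
  -- `v⁻¹ (r v r) = u (r u r)⁻¹`
  have h1 : (s * s * v * (s * s)) * (s * s * u * (s * s)) = v * u := by
    calc (s * s * v * (s * s)) * (s * s * u * (s * s)) = s * s * v * ((s * s) * (s * s)) * u * (s * s) := by group
      _ = s * s * (v * u) * (s * s) := by rw [hr]; group
      _ = v * u * (s * s) * (s * s) := by rw [h]
      _ = v * u * ((s * s) * (s * s)) := by group
      _ = v * u := by rw [hr, mul_one]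
  have h2 : v⁻¹ * (s * s * v * (s * s)) = u * (s * s * u * (s * s))⁻¹ := by
    rw [eq_mul_inv_iff_mul_eq, mul_assoc, h1]
    group
  have h3 : v⁻¹ * (s * s * v * (s * s)) = 1 := by
    refine C.disj _ (mul_mem (inv_mem hv) (C.rV hv)) ?_
    rw [h2]
    exact mul_mem hu (inv_mem (C.rU hu))
  have h4 : s * s * v * (s * s) = v := (inv_mul_eq_one.1 h3).symm
  have h5 : s * s * u * (s * s) = u := by
    rw [h4] at h1
    exact mul_left_cancel h1
  constructor
  · calc v * (s * s) = s * s * v * (s * s) * (s * s) := by rw [h4]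
      _ = s * s * v * ((s * s) * (s * s)) := by group
      _ = s * s * v := by rw [hr, mul_one]
  · calc u * (s * s) = s * s * u * (s * s) * (s * s) := by rw [h5]
      _ = s * s * u * ((s * s) * (s * s)) := by group
      _ = s * s * u := by rw [hr, mul_one]

theorem exists_dat [Finite G] : ∃ v u, Dat E V U s v u := by
  obtain ⟨v, hv, hv1, hvr, hvW⟩ := C.exists_v0
  have hr := C.s4
  have hs : ∀ x : G, x * (s * s) = s * s * x → s * x * s⁻¹ * (s * s) = s * s * (s * x * s⁻¹) := by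
    intro x hx
    calc s * x * s⁻¹ * (s * s) = s * (x * (s * s)) * s⁻¹ := by group
      _ = s * (s * s * x) * s⁻¹ := by rw [hx]
      _ = s * s * (s * x * s⁻¹) := by group
  have hss : s * (s * v * s⁻¹) * s⁻¹ = v := by
    have e1 : s * (s * v * s⁻¹) * s⁻¹ = s * s * v * (s * s)⁻¹ := by group
    rw [e1, ← hvr]
    group
  refine ⟨v, s * v * s⁻¹, hv, C.sV v hv, hv1, ?_, rfl, hss, hvr, hs v hvr, ?_⟩
  · intro h
    apply hv1
    rw [← hss, h]
    group
  · intro x hx hxr
    obtain ⟨a, ha, b, hb, rfl⟩ := (C.memE x).1 hx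
    obtain ⟨h1, h2⟩ := C.split ha hb hxr
    have h3 := hvW _ (C.sU b hb) (hs b h2)
    have h4 : b = 1 ∨ b = s * v * s⁻¹ := by
      have hb' : b = s * s * b * (s * s) := by
        rw [← h2, mul_assoc, hr, mul_one]
      have hb2 : b = s * (s * b * s⁻¹) * s⁻¹ := by
        have e1 : s * (s * b * s⁻¹) * s⁻¹ = s * s * b * (s * s)⁻¹ := by group
        rw [e1, inv_eq_iff_mul_eq_one.mpr hr]
        exact hb'
      rcases h3 with h3 | h3
      · left
        rw [hb2, h3]
        group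
      · right
        rw [hb2, h3]
    rcases hvW a ha h1 with rfl | rfl <;> rcases h4 with rfl | rfl <;> simp

/-- `M = E⟨s²⟩` as a configuration of the file `WrFour` -/
theorem cfg [Finite G] : WrFour.Cfg (MM E (s * s) C.s4 (fun _ he => C.rE he)) E (s * s) where
  le := fun x hx => Or.inl hx
  card := C.cardE
  sq := fun e he => C.sqE he
  mem := Or.inr (by rw [C.s4]; exact E.one_mem)
  nmem := C.r_nmem
  dd := C.s4
  cent := by
    have hcV := C.cardCV
    have hcU := C.cardCU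
    have : Nat.card ((V ⊓ centralizer ({s * s} : Set G) : Subgroup G) ×
        (U ⊓ centralizer ({s * s} : Set G) : Subgroup G)) = 4 := by
      rw [Nat.card_prod, hcV, hcU]
    rw [← this]
    let f : (V ⊓ centralizer ({s * s} : Set G) : Subgroup G) × (U ⊓ centralizer ({s * s} : Set G) : Subgroup G) →
        (E ⊓ centralizer ({s * s} : Set G) : Subgroup G) := fun p => ⟨p.1 * p.2,
          mem_inf.2 ⟨mul_mem (C.VE (mem_inf.1 p.1.2).1) (C.UE (mem_inf.1 p.2.2).1),
            mul_mem (mem_inf.1 p.1.2).2 (mem_inf.1 p.2.2).2⟩⟩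
    refine (Nat.card_congr (Equiv.ofBijective f ⟨?_, ?_⟩)).symm
    · rintro ⟨⟨a, ha⟩, ⟨b, hb⟩⟩ ⟨⟨a', ha'⟩, ⟨b', hb'⟩⟩ hab
      have h1 : a * b = a' * b' := congrArg Subtype.val hab
      have h2 : a'⁻¹ * a = b' * b⁻¹ := by
        rw [eq_mul_inv_iff_mul_eq, mul_assoc, h1]
        group
      have h3 : a'⁻¹ * a = 1 := C.disj _ (mul_mem (inv_mem (mem_inf.1 ha').1) (mem_inf.1 ha).1) (by
        rw [h2]
        exact mul_mem (mem_inf.1 hb').1 (inv_mem (mem_inf.1 hb).1))
      have h4 : a' = a := inv_mul_eq_one.1 h3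
      subst h4
      have h5 : b = b' := mul_left_cancel h1
      subst h5
      rfl
    · rintro ⟨x, hx⟩
      obtain ⟨a, ha, b, hb, rfl⟩ := (C.memE x).1 (mem_inf.1 hx).1
      obtain ⟨h1, h2⟩ := C.split ha hb (mem_centralizer_singleton_iff.1 (mem_inf.1 hx).2)
      exact ⟨(⟨a, mem_inf.2 ⟨ha, mem_centralizer_singleton_iff.2 h1⟩⟩,
        ⟨b, mem_inf.2 ⟨hb, mem_centralizer_singleton_iff.2 h2⟩⟩), rfl⟩
  cov := fun x hx => hx

/-- the set `M` -/
theorem cov' {x : G} (hx : x ∈ S) (h : ¬ (x ∈ E ∨ s * s * x ∈ E)) : ∃ e ∈ E, x = s⁻¹ * e ∨ x = s * e := by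
  rcases (C.cov x hx).resolve_left h with h1 | h1
  · exact ⟨s * x, h1, Or.inl (by group)⟩
  · refine ⟨_, h1, Or.inr ?_⟩
    calc x = 1 * x := by group
      _ = (s * s * (s * s)) * x := by rw [C.s4]
      _ = s * (s * (s * s * x)) := by group

theorem sE' {e : G} (he : e ∈ E) : s⁻¹ * e * s ∈ E := by
  have h1 := C.sE (C.rE he)
  have e1 : s * (s * s * e * (s * s)) * s⁻¹ = (s * s * s) * e * s := by group
  rw [e1, ← C.s_inv] at h1
  exact h1

theorem inv_mem_M {x : G} (hx : x ∈ S) (h : x * x = 1) : x ∈ E ∨ s * s * x ∈ E := by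
  by_contra hcon
  obtain ⟨e, he, h1 | h1⟩ := C.cov' hx hcon
  · have h2 : x * x = (s * s)⁻¹ * ((s * e * s⁻¹) * e) := by
      rw [h1]
      group
    rw [h, inv_eq_iff_mul_eq_one.mpr C.s4] at h2
    have h3 : s * s = (s * e * s⁻¹) * e := by
      calc s * s = s * s * 1 := by group
        _ = s * s * (s * s * ((s * e * s⁻¹) * e)) := by rw [← h2]
        _ = (s * s * (s * s)) * ((s * e * s⁻¹) * e) := by group
        _ = _ := by rw [C.s4, one_mul]
    apply C.r_nmem
    rw [h3]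
    exact mul_mem (C.sE he) he
  · have h2 : x * x = (s * s) * ((s⁻¹ * e * s) * e) := by
      rw [h1]
      group
    rw [h] at h2
    have h3 : s * s = (s⁻¹ * e * s) * e := by
      calc s * s = s * s * 1 := by group
        _ = s * s * (s * s * ((s⁻¹ * e * s) * e)) := by rw [← h2]
        _ = (s * s * (s * s)) * ((s⁻¹ * e * s) * e) := by group
        _ = _ := by rw [C.s4, one_mul]
    apply C.r_nmem
    rw [h3]
    exact mul_mem (C.sE' he) he

/-- `E` is the only elementary abelian subgroup of order 16 of `S` -/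
theorem unique [Finite G] {k : G} (hk : ∀ e ∈ E, k * e * k⁻¹ ∈ S) : ∀ e ∈ E, k * e * k⁻¹ ∈ E := by
  refine C.cfg.unique (k := k) (fun e he => ?_)
  refine C.inv_mem_M (hk e he) ?_
  calc k * e * k⁻¹ * (k * e * k⁻¹) = k * (e * e) * k⁻¹ := by group
    _ = 1 := by rw [C.sqE he]; group

/-- fusion in `E` -/
theorem control [Finite G] (P : Sylow 2 G) (hPS : (P : Subgroup G) = S) {a g : G} (ha : a ∈ E)
    (hb : g * a * g⁻¹ ∈ E) : ∃ n, (∀ e ∈ E, n * e * n⁻¹ ∈ E) ∧ n * a * n⁻¹ = g * a * g⁻¹ := by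
  have : Fact (Nat.Prime 2) := ⟨Nat.prime_two⟩
  obtain ⟨h, h1, h2⟩ := TwoFusion.IndexTwo.exists_normalizer_conj P E (hPS ▸ C.E_le)
    (fun k hk => C.unique (fun e he => hPS ▸ hk e he)) (g * a * g⁻¹) g
    (fun u hu => C.commE hu hb) (fun u hu => by
      rw [show g⁻¹ * (g * a * g⁻¹) * g = a by group]
      exact C.commE hu ha)
  rw [show g⁻¹ * (g * a * g⁻¹) * g = a by group] at h2
  refine ⟨h, h1, ?_⟩
  calc h * a * h⁻¹ = h * (h⁻¹ * (g * a * g⁻¹) * h) * h⁻¹ := by rw [← h2]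
    _ = g * a * g⁻¹ := by group

end Cyc

end Cfsg.Agent.GH.L2.WrCyc
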