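import Cfsg.Agent.GH.L2.WrCyc

/-!
# Project GH, branch GH-L2: Sylow 2-subgroups `Z₂ wr Z₄`, main theorem
-/

set_option autoImplicit false

namespace Cfsg.Agent.GH.L2.WrCyc

open Subgroup Tool

variable {G : Type*} [Group G]

namespace Cyc

variable {S E V U : Subgroup G} {s v u : G} (C : Cyc S E V U s) (D : Dat E V U s v u)
include C

theorem w_notV (D : Dat E V U s v u) : v * u ∉ V := fun h =>
  D.u1 (C.disj u ((mul_mem_cancel_left D.vV).1 h) D.uU)

theorem w_notU (D : Dat E V U s v u) : v * u ∉ U := fun h =>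
  D.v1 (C.disj v D.vV ((mul_mem_cancel_right D.uU).1 h))

theorem v_ne_u (D : Dat E V U s v u) : v ≠ u := fun h => D.v1 (C.disj v D.vV (h ▸ D.uU))

theorem T_iff [Finite G] (D : Dat E V U s v u) (P : Sylow 2 G) (hPS : (P : Subgroup G) = S) {x : G} (hx : x ∈ E) :
    IsConj v x ↔ (x ∈ V ∨ x ∈ U) ∧ x ≠ 1 := by
  constructor
  · intro h
    obtain ⟨g, hg⟩ := isConj_iff.1 h
    have hx1 : x ≠ 1 := by
      rintro rfl
      apply D.v1
      have : v = g⁻¹ * (g * v * g⁻¹) * g := by group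
      rw [this, hg]
      group
    obtain ⟨n, hn, hn'⟩ := C.control P hPS (C.VE D.vV) (hg ▸ hx : g * v * g⁻¹ ∈ E)
    rw [hg] at hn'
    have h1 := C.part n hn v (Or.inl D.vV)
    rw [hn'] at h1
    exact ⟨h1, hx1⟩
  · rintro ⟨h | h, hx1⟩
    · obtain ⟨n, -, hn, -⟩ := C.trans v D.vV x h u D.uU u D.uU D.v1 hx1 D.u1 D.u1
      exact isConj_iff.2 ⟨n, hn⟩
    · have h1 : s * x * s⁻¹ ≠ 1 := by
        intro h2
        apply hx1
        have : x = s⁻¹ * (s * x * s⁻¹) * s := by group
        rw [this, h2]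
        group
      obtain ⟨n, -, hn, -⟩ := C.trans v D.vV (s * x * s⁻¹) (C.sU x h) u D.uU u D.uU D.v1 h1 D.u1 D.u1
      refine isConj_iff.2 ⟨s⁻¹ * n, ?_⟩
      calc s⁻¹ * n * v * (s⁻¹ * n)⁻¹ = s⁻¹ * (n * v * n⁻¹) * s := by group
        _ = x := by rw [hn]; group

/-- `s² z ~ s²` -/
theorem conj_rz [Finite G] {z : G} (hz : z ∈ E) (hzr : z * (s * s) = s * s * z) : IsConj (s * s) (s * s * z) := by
  obtain ⟨e, he, h⟩ := C.cfg.exists_n hz hzr
  refine isConj_iff.2 ⟨e, ?_⟩
  have he' : e⁻¹ = e := inv_eq_iff_mul_eq_one.mpr (C.sqE he)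
  rw [he', ← hzr, ← h]
  calc e * (s * s) * e = e * (s * s * e * 1) := by group
    _ = e * (s * s * e * (s * s * (s * s))) := by rw [C.s4]
    _ = e * (s * s * e * (s * s)) * (s * s) := by group

/-- an element commuting with `v` and `u` does not conjugate `s²` into `E` -/
theorem rel [Finite G] (D : Dat E V U s v u) (P : Sylow 2 G) (hPS : (P : Subgroup G) = S) {k : G}
    (hkv : k * v = v * k) (hku : k * u = u * k) : k * (s * s) * k⁻¹ ∉ E := by
  have : Fact (Nat.Prime 2) := ⟨Nat.prime_two⟩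
  set H : Subgroup G := centralizer ({v} : Set G) ⊓ centralizer ({u} : Set G) with hH
  have mH : ∀ {x : G}, x ∈ H ↔ x * v = v * x ∧ x * u = u * x := by
    intro x
    rw [hH, mem_inf, mem_centralizer_singleton_iff, mem_centralizer_singleton_iff]
  have hEH : ∀ e ∈ E, e ∈ H := fun e he => mH.2 ⟨C.commE he (C.VE D.vV), C.commE he (C.UE D.uU)⟩
  have hrH : s * s ∈ H := mH.2 ⟨D.rv.symm, D.ru.symm⟩
  have hMH : MM E (s * s) C.s4 (fun _ he => C.rE he) ≤ H := by
    intro x hx
    rcases mem_MM.1 hx with h | h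
    · exact hEH x h
    · exact (mul_mem_cancel_left hrH).1 (hEH _ h)
  have hMS : MM E (s * s) C.s4 (fun _ he => C.rE he) ≤ S := by
    intro x hx
    rcases mem_MM.1 hx with h | h
    · exact C.E_le h
    · exact (mul_mem_cancel_left (mul_mem C.s_mem C.s_mem)).1 (C.E_le h)
  have hS2 : IsPGroup 2 S := hPS ▸ P.isPGroup'
  have hsc : ∀ x, x ∈ H → s * x * s⁻¹ ∈ H := by
    intro x hx
    obtain ⟨h1, h2⟩ := mH.1 hx
    have h3 : s⁻¹ * v * s = u := by rw [← D.su]; group
    have h4 : s⁻¹ * u * s = v := by rw [← D.sv]; group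
    refine mH.2 ⟨?_, ?_⟩
    · calc s * x * s⁻¹ * v = s * (x * (s⁻¹ * v * s)) * s⁻¹ := by group
        _ = s * (s⁻¹ * v * s * x) * s⁻¹ := by rw [h3, h2]
        _ = v * (s * x * s⁻¹) := by group
    · calc s * x * s⁻¹ * u = s * (x * (s⁻¹ * u * s)) * s⁻¹ := by group
        _ = s * (s⁻¹ * u * s * x) * s⁻¹ := by rw [h4, h1]
        _ = u * (s * x * s⁻¹) := by group
  have hsN : s ∈ normalizer (H : Set G) := by
    rw [mem_normalizer_iff]
    intro x
    refine ⟨hsc x, fun h => ?_⟩
    have h1 := hsc _ (hsc _ (hsc _ h))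
    have e1 : s * (s * (s * (s * x * s⁻¹) * s⁻¹) * s⁻¹) * s⁻¹ =
        (s * s * (s * s)) * x * (s * s * (s * s))⁻¹ := by group
    rw [e1, C.s4, one_mul, inv_one, mul_one] at h1
    exact h1
  have hSN : S ≤ normalizer (H : Set G) := by
    intro x hx
    have hHN : H ≤ normalizer (H : Set G) := le_normalizer
    by_cases h : x ∈ E ∨ s * s * x ∈ E
    · exact hHN (hMH h)
    · obtain ⟨e, he, h1 | h1⟩ := C.cov' hx h
      · rw [h1]
        exact mul_mem (inv_mem hsN) (hHN (hEH e he))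
      · rw [h1]
        exact mul_mem hsN (hHN (hEH e he))
  refine C.cfg.not_conj_rel hMH (hS2.to_le hMS) ?_ (mH.2 ⟨hkv, hku⟩)
  intro T hT hMT hTH
  obtain ⟨n, hn, hn'⟩ := conj_into P (H := normalizer (H : Set G)) (P := T) (hPS ▸ hSN) hT
    (hTH.trans le_normalizer)
  rw [mem_normalizer_iff] at hn
  refine Nat.card_le_card_of_injective (fun t : T => (⟨n * t * n⁻¹, ?_⟩ :
    (MM E (s * s) C.s4 (fun _ he => C.rE he) : Subgroup G))) ?_
  · have h1 : n * t * n⁻¹ ∈ S := hPS ▸ hn' t t.2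
    have h2 : n * (t : G) * n⁻¹ ∈ H := (hn t).1 (hTH t.2)
    by_contra hcon
    obtain ⟨e, he, h3 | h3⟩ := C.cov' h1 hcon
    · have h4 : s⁻¹ ∈ H := by
        rw [h3] at h2
        exact (mul_mem_cancel_right (hEH e he)).1 h2
      have h5 := (mH.1 (inv_mem_iff.1 h4)).1
      apply C.v_ne_u D
      rw [← D.sv, h5]
      group
    · have h4 : s ∈ H := by
        rw [h3] at h2
        exact (mul_mem_cancel_right (hEH e he)).1 h2
      have h5 := (mH.1 h4).1
      apply C.v_ne_u D
      rw [← D.sv, h5]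
      group
  · intro a b hab
    have := congrArg Subtype.val hab
    exact Subtype.ext (mul_left_cancel (mul_right_cancel this))

/-- the elements of `C_M(s²)` -/
theorem F_cases [Finite G] (D : Dat E V U s v u) {x : G} (hx : x ∈ E ∨ s * s * x ∈ E)
    (h : x * (s * s) = s * s * x) : (x = 1 ∨ x = v ∨ x = u ∨ x = v * u) ∨
      ∃ z ∈ E, z * (s * s) = s * s * z ∧ x = s * s * z := by
  rcases C.cfg.F_cases (mem_MM.2 hx) h with ⟨h1, h2⟩ | ⟨z, hz, hzr, h1⟩
  · exact Or.inl (D.W x h1 h2)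
  · exact Or.inr ⟨z, hz, hzr, h1⟩

theorem not_T_w [Finite G] (D : Dat E V U s v u) (P : Sylow 2 G) (hPS : (P : Subgroup G) = S) :
    ¬ IsConj v (v * u) := by
  intro h
  rcases ((C.T_iff D P hPS (mul_mem (C.VE D.vV) (C.UE D.uU))).1 h).1 with h1 | h1
  · exact C.w_notV D h1
  · exact C.w_notU D h1

theorem conj_vu (D : Dat E V U s v u) : IsConj v u := isConj_iff.2 ⟨s, D.sv⟩

theorem w_ne_one (D : Dat E V U s v u) : v * u ≠ 1 := fun h => C.w_notV D (h ▸ V.one_mem)

omit C in
theorem conj_h {h a b : G} (hab : IsConj a b) : IsConj a (h * b * h⁻¹) :=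
  hab.trans (isConj_iff.2 ⟨h, rfl⟩)

theorem caseW [Finite G] (D : Dat E V U s v u) (P : Sylow 2 G) (hPS : (P : Subgroup G) = S)
    (hc : IsConj (s * s) (v * u)) : False := by
  have : Fact (Nat.Prime 2) := ⟨Nat.prime_two⟩
  have hnT := C.not_T_w D P hPS
  have hvE := C.VE D.vV
  have huE := C.UE D.uU
  have hwE := mul_mem hvE huE
  have hnTr : ¬ IsConj v (s * s) := fun h => hnT (h.trans hc)
  obtain ⟨g, hg⟩ := isConj_iff.1 hc
  -- `S` centralises `w`
  have hsw : s * (v * u) = v * u * s := by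
    have h1 : s * (v * u) * s⁻¹ = v * u := by
      calc s * (v * u) * s⁻¹ = (s * v * s⁻¹) * (s * u * s⁻¹) := by group
        _ = u * v := by rw [D.sv, D.su]
        _ = v * u := (C.comm v D.vV u D.uU).symm
    calc s * (v * u) = s * (v * u) * s⁻¹ * s := by group
      _ = v * u * s := by rw [h1]
  have hsC : s ∈ centralizer ({v * u} : Set G) := mem_centralizer_singleton_iff.2 hsw
  have hEC : ∀ e ∈ E, e ∈ centralizer ({v * u} : Set G) := fun e he =>
    mem_centralizer_singleton_iff.2 (C.commE he hwE)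
  have hSC : S ≤ centralizer ({v * u} : Set G) := by
    intro x hx
    by_cases h : x ∈ E ∨ s * s * x ∈ E
    · rcases h with h | h
      · exact hEC x h
      · exact (mul_mem_cancel_left (mul_mem hsC hsC)).1 (hEC _ h)
    · obtain ⟨e, he, h1 | h1⟩ := C.cov' hx h
      · rw [h1]
        exact mul_mem (inv_mem hsC) (hEC e he)
      · rw [h1]
        exact mul_mem hsC (hEC e he)
  have hS2 : IsPGroup 2 S := hPS ▸ P.isPGroup'
  have hQ2 : IsPGroup 2 (S ⊓ centralizer ({s * s} : Set G) : Subgroup G) := hS2.to_le inf_le_left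
  obtain ⟨n, hn, hn'⟩ := conj_into P (H := centralizer ({v * u} : Set G))
    (P := (S ⊓ centralizer ({s * s} : Set G) : Subgroup G).map (MulAut.conj g).toMonoidHom) (hPS ▸ hSC)
    (hQ2.map _) (by
      rintro _ ⟨x, hx, rfl⟩
      change g * x * g⁻¹ ∈ _
      rw [mem_centralizer_singleton_iff, ← hg]
      have h1 : x * (s * s) = s * s * x := mem_centralizer_singleton_iff.1 (mem_inf.1 hx).2
      calc g * x * g⁻¹ * (g * (s * s) * g⁻¹) = g * (x * (s * s)) * g⁻¹ := by group
        _ = g * (s * s * x) * g⁻¹ := by rw [h1]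
        _ = _ := by group)
  rw [mem_centralizer_singleton_iff] at hn
  set h := n * g with hh
  have hr : h * (s * s) * h⁻¹ = v * u := by
    calc h * (s * s) * h⁻¹ = n * (g * (s * s) * g⁻¹) * n⁻¹ := by rw [hh]; group
      _ = v * u := by rw [hg, hn]; group
  have hS : ∀ x ∈ S, x * (s * s) = s * s * x → h * x * h⁻¹ ∈ S := by
    intro x hx hxr
    have h1 := hn' _ ⟨x, mem_inf.2 ⟨hx, mem_centralizer_singleton_iff.2 hxr⟩, rfl⟩
    change n * (g * x * g⁻¹) * n⁻¹ ∈ _ at h1
    rw [hPS] at h1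
    have e1 : h * x * h⁻¹ = n * (g * x * g⁻¹) * n⁻¹ := by rw [hh]; group
    rw [e1]
    exact h1
  have hMS : ∀ x, x ∈ E ∨ s * s * x ∈ E → x ∈ S := by
    intro x hx
    rcases hx with h | h
    · exact C.E_le h
    · exact (mul_mem_cancel_left (mul_mem C.s_mem C.s_mem)).1 (C.E_le h)
  have hM : ∀ x, (x ∈ E ∨ s * s * x ∈ E) → x * (s * s) = s * s * x →
      (h * x * h⁻¹ ∈ E ∨ s * s * (h * x * h⁻¹) ∈ E) := by
    intro x hx hxr
    refine C.inv_mem_M (hS x (hMS x hx) hxr) ?_
    have h1 := C.cfg.F_sq (mem_MM.2 hx) hxr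
    calc h * x * h⁻¹ * (h * x * h⁻¹) = h * (x * x) * h⁻¹ := by group
      _ = 1 := by rw [h1]; group
  have hTv : IsConj v (h * v * h⁻¹) := conj_h (IsConj.refl v)
  have hTu : IsConj v (h * u * h⁻¹) := conj_h (C.conj_vu D)
  have hprod : h * v * h⁻¹ * (h * u * h⁻¹) = h * (v * u) * h⁻¹ := by group
  have hprod1 : h * (v * u) * h⁻¹ ≠ 1 := by
    intro h1
    apply C.w_ne_one D
    have : v * u = h⁻¹ * (h * (v * u) * h⁻¹) * h := by group
    rw [this, h1]
    group
  have hnTw : ¬ IsConj v (h * (v * u) * h⁻¹) := by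
    intro h1
    exact hnT (h1.trans (isConj_iff.2 ⟨h⁻¹, by group⟩))
  by_cases hall : ∀ x, (x ∈ E ∨ s * s * x ∈ E) → x * (s * s) = s * s * x → h * x * h⁻¹ ∈ E
  · have hv' : h * v * h⁻¹ ∈ E := hall v (Or.inl hvE) D.rv
    have hu' : h * u * h⁻¹ ∈ E := hall u (Or.inl huE) D.ru
    obtain ⟨hv1, hv2⟩ := (C.T_iff D P hPS hv').1 hTv
    obtain ⟨hu1, hu2⟩ := (C.T_iff D P hPS hu').1 hTu
    have hno : ∀ X : Subgroup G, (X = V ∨ X = U) → h * v * h⁻¹ ∈ X → h * u * h⁻¹ ∈ X → False := by
      intro X hX h1 h2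
      apply hnTw
      rw [← hprod]
      refine (C.T_iff D P hPS (mul_mem hv' hu')).2 ⟨?_, by rw [hprod]; exact hprod1⟩
      rcases hX with rfl | rfl
      · exact Or.inl (mul_mem h1 h2)
      · exact Or.inr (mul_mem h1 h2)
    rcases hv1 with hv1 | hv1 <;> rcases hu1 with hu1 | hu1
    · exact hno V (Or.inl rfl) hv1 hu1
    · obtain ⟨m, hmE, hm1, hm2⟩ := C.trans _ hv1 v D.vV _ hu1 u D.uU hv2 D.v1 hu2 D.u1
      refine C.rel D P hPS (k := m * h) ?_ ?_ ?_
      · rw [← eq_mul_inv_iff_mul_eq]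
        calc m * h = m * (h * v * h⁻¹) * m⁻¹ * (m * h) * v⁻¹ := by group
          _ = v * (m * h) * v⁻¹ := by rw [hm1]
      · rw [← eq_mul_inv_iff_mul_eq]
        calc m * h = m * (h * u * h⁻¹) * m⁻¹ * (m * h) * u⁻¹ := by group
          _ = u * (m * h) * u⁻¹ := by rw [hm2]
      · have e1 : m * h * (s * s) * (m * h)⁻¹ = m * (h * (s * s) * h⁻¹) * m⁻¹ := by group
        rw [e1, hr]
        exact hmE _ hwE
    · have hv3 : s * (h * v * h⁻¹) * s⁻¹ ≠ 1 := by
        intro h1
        apply hv2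
        have : h * v * h⁻¹ = s⁻¹ * (s * (h * v * h⁻¹) * s⁻¹) * s := by group
        rw [this, h1]
        group
      have hu3 : s * (h * u * h⁻¹) * s⁻¹ ≠ 1 := by
        intro h1
        apply hu2
        have : h * u * h⁻¹ = s⁻¹ * (s * (h * u * h⁻¹) * s⁻¹) * s := by group
        rw [this, h1]
        group
      obtain ⟨m, hmE, hm1, hm2⟩ := C.trans _ (C.sU _ hv1) v D.vV _ (C.sV _ hu1) u D.uU hv3 D.v1 hu3 D.u1
      refine C.rel D P hPS (k := m * s * h) ?_ ?_ ?_
      · rw [← eq_mul_inv_iff_mul_eq]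
        calc m * s * h = m * (s * (h * v * h⁻¹) * s⁻¹) * m⁻¹ * (m * s * h) * v⁻¹ := by group
          _ = v * (m * s * h) * v⁻¹ := by rw [hm1]
      · rw [← eq_mul_inv_iff_mul_eq]
        calc m * s * h = m * (s * (h * u * h⁻¹) * s⁻¹) * m⁻¹ * (m * s * h) * u⁻¹ := by group
          _ = u * (m * s * h) * u⁻¹ := by rw [hm2]
      · have e1 : m * s * h * (s * s) * (m * s * h)⁻¹ = m * (s * (h * (s * s) * h⁻¹) * s⁻¹) * m⁻¹ := by group
        rw [e1, hr]
        exact hmE _ (C.sE hwE)
    · exact hno U (Or.inr rfl) hv1 hu1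
  · push Not at hall
    obtain ⟨x1, hx1, hx1r, hx1E⟩ := hall
    obtain ⟨z1, hz1, hz1r, hy⟩ := C.cfg.inv_out (mem_MM.2 (hM x1 hx1 hx1r)) hx1E (by
      have h1 := C.cfg.F_sq (mem_MM.2 hx1) hx1r
      calc h * x1 * h⁻¹ * (h * x1 * h⁻¹) = h * (x1 * x1) * h⁻¹ := by group
        _ = 1 := by rw [h1]; group)
    have hFF : ∀ x, (x ∈ E ∨ s * s * x ∈ E) → x * (s * s) = s * s * x →
        h * x * h⁻¹ * (s * s) = s * s * (h * x * h⁻¹) := by
      intro x hx hxr
      refine C.cfg.cent_dz (mem_MM.2 (hM x hx hxr)) hz1 hz1r ?_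
      rw [← hy]
      calc h * x * h⁻¹ * (h * x1 * h⁻¹) = h * (x * x1) * h⁻¹ := by group
        _ = h * (x1 * x) * h⁻¹ := by rw [C.cfg.F_comm (mem_MM.2 hx) hxr (mem_MM.2 hx1) hx1r]
        _ = _ := by group
    have hT : ∀ x, (x ∈ E ∨ s * s * x ∈ E) → x * (s * s) = s * s * x → IsConj v x → x = v ∨ x = u := by
      intro x hx hxr hTx
      rcases C.F_cases D hx hxr with (h1 | h1 | h1 | h1) | ⟨z, hz, hzr, h1⟩
      · exfalso
        rw [h1] at hTx
        exact ((C.T_iff D P hPS E.one_mem).1 hTx).2 rfl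
      · exact Or.inl h1
      · exact Or.inr h1
      · exact absurd (h1 ▸ hTx) hnT
      · exfalso
        rw [h1] at hTx
        exact hnTr (hTx.trans (C.conj_rz hz hzr).symm)
    have h1 := hT _ (hM v (Or.inl hvE) D.rv) (hFF v (Or.inl hvE) D.rv) hTv
    have h2 := hT _ (hM u (Or.inl huE) D.ru) (hFF u (Or.inl huE) D.ru) hTu
    have hne : h * v * h⁻¹ ≠ h * u * h⁻¹ := fun h3 => C.v_ne_u D (mul_left_cancel (mul_right_cancel h3))
    have h3 : h * (v * u) * h⁻¹ = v * u := by
      rw [← hprod]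
      rcases h1 with h1 | h1 <;> rcases h2 with h2 | h2
      · exact absurd (h1.trans h2.symm) hne
      · rw [h1, h2]
      · rw [h1, h2]
        exact (C.comm v D.vV u D.uU).symm
      · exact absurd (h1.trans h2.symm) hne
    have h4 : s * s = v * u := by
      have : h * (s * s) * h⁻¹ = h * (v * u) * h⁻¹ := by rw [hr, h3]
      exact mul_left_cancel (mul_right_cancel this)
    exact C.r_nmem (h4 ▸ hwE)

theorem caseV [Finite G] (D : Dat E V U s v u) (P : Sylow 2 G) (hPS : (P : Subgroup G) = S)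
    (hc : IsConj (s * s) v) : False := by
  have : Fact (Nat.Prime 2) := ⟨Nat.prime_two⟩
  have hnT := C.not_T_w D P hPS
  have hvE := C.VE D.vV
  have huE := C.UE D.uU
  have hwE := mul_mem hvE huE
  obtain ⟨g, hg⟩ := isConj_iff.1 hc
  set M := MM E (s * s) C.s4 (fun _ he => C.rE he) with hMdef
  have mM : ∀ {x : G}, x ∈ M ↔ x ∈ E ∨ s * s * x ∈ E := Iff.rfl
  have hMS : M ≤ S := by
    intro x hx
    rcases hx with h | h
    · exact C.E_le h
    · exact (mul_mem_cancel_left (mul_mem C.s_mem C.s_mem)).1 (C.E_le h)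
  have hS2 : IsPGroup 2 S := hPS ▸ P.isPGroup'
  have hM2 : IsPGroup 2 M := hS2.to_le hMS
  have hrC : s * s ∈ centralizer ({v} : Set G) := mem_centralizer_singleton_iff.2 D.rv.symm
  have hEC : ∀ e ∈ E, e ∈ centralizer ({v} : Set G) := fun e he =>
    mem_centralizer_singleton_iff.2 (C.commE he hvE)
  have hMC : M ≤ centralizer ({v} : Set G) := by
    intro x hx
    rcases hx with h | h
    · exact hEC x h
    · exact (mul_mem_cancel_left hrC).1 (hEC _ h)
  -- `M` is a Sylow subgroup of `C(v)`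
  have hmax : ∀ T : Subgroup G, IsPGroup 2 T → M ≤ T → T ≤ centralizer ({v} : Set G) →
      Nat.card T ≤ Nat.card M := by
    intro T hT hMT hTC
    obtain ⟨k, hk⟩ := conj_sylow P hT
    rw [hPS] at hk
    have hkE : ∀ e ∈ E, k * e * k⁻¹ ∈ E := C.unique (fun e he => hk e (hMT (Or.inl he)))
    have hv2 := hkE v hvE
    obtain ⟨hv3, hv4⟩ := (C.T_iff D P hPS hv2).1 (conj_h (IsConj.refl v))
    refine Nat.card_le_card_of_injective (fun t : T => (⟨k * t * k⁻¹, ?_⟩ : M)) ?_
    · by_contra hcon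
      have hcom : k * (t : G) * k⁻¹ * (k * v * k⁻¹) = k * v * k⁻¹ * (k * t * k⁻¹) := by
        have h1 : (t : G) * v = v * t := mem_centralizer_singleton_iff.1 (hTC t.2)
        calc k * (t : G) * k⁻¹ * (k * v * k⁻¹) = k * (t * v) * k⁻¹ := by group
          _ = k * (v * t) * k⁻¹ := by rw [h1]
          _ = _ := by group
      -- `s` commutes with `v₂`
      have hs2 : s * (k * v * k⁻¹) = k * v * k⁻¹ * s := by
        obtain ⟨e, he, h1 | h1⟩ := C.cov' (hk t t.2) hcon
        · rw [h1] at hcom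
          have h2 : s⁻¹ * (k * v * k⁻¹) * e = (k * v * k⁻¹) * s⁻¹ * e := by
            calc s⁻¹ * (k * v * k⁻¹) * e = s⁻¹ * ((k * v * k⁻¹) * e) := by group
              _ = s⁻¹ * (e * (k * v * k⁻¹)) := by rw [C.commE hv2 he]
              _ = s⁻¹ * e * (k * v * k⁻¹) := by group
              _ = _ := by rw [hcom]; group
          have h3 := mul_right_cancel h2
          calc s * (k * v * k⁻¹) = s * ((k * v * k⁻¹) * s⁻¹) * s := by group
            _ = s * (s⁻¹ * (k * v * k⁻¹)) * s := by rw [h3]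
            _ = _ := by group
        · rw [h1] at hcom
          have h2 : s * (k * v * k⁻¹) * e = (k * v * k⁻¹) * s * e := by
            calc s * (k * v * k⁻¹) * e = s * ((k * v * k⁻¹) * e) := by group
              _ = s * (e * (k * v * k⁻¹)) := by rw [C.commE hv2 he]
              _ = s * e * (k * v * k⁻¹) := by group
              _ = _ := by rw [hcom]; group
          exact mul_right_cancel h2
      have hs3 : s * (k * v * k⁻¹) * s⁻¹ = k * v * k⁻¹ := by
        rw [hs2]
        group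
      apply hv4
      rcases hv3 with hv3 | hv3
      · refine C.disj _ hv3 ?_
        have h5 := C.sV _ hv3
        rwa [hs3] at h5
      · refine C.disj _ ?_ hv3
        have h5 := C.sU _ hv3
        rwa [hs3] at h5
    · intro a b hab
      have := congrArg Subtype.val hab
      exact Subtype.ext (mul_left_cancel (mul_right_cancel this))
  have hQ2 : IsPGroup 2 (S ⊓ centralizer ({s * s} : Set G) : Subgroup G) := hS2.to_le inf_le_left
  obtain ⟨n, hn, hn'⟩ := conj_into_max (D := centralizer ({v} : Set G)) (M := M)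
    (P := (S ⊓ centralizer ({s * s} : Set G) : Subgroup G).map (MulAut.conj g).toMonoidHom) hMC hM2 hmax
    (hQ2.map _) (by
      rintro _ ⟨x, hx, rfl⟩
      change g * x * g⁻¹ ∈ _
      rw [mem_centralizer_singleton_iff, ← hg]
      have h1 : x * (s * s) = s * s * x := mem_centralizer_singleton_iff.1 (mem_inf.1 hx).2
      calc g * x * g⁻¹ * (g * (s * s) * g⁻¹) = g * (x * (s * s)) * g⁻¹ := by group
        _ = g * (s * s * x) * g⁻¹ := by rw [h1]
        _ = _ := by group)
  rw [mem_centralizer_singleton_iff] at hn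
  set h := n * g with hh
  have hr : h * (s * s) * h⁻¹ = v := by
    calc h * (s * s) * h⁻¹ = n * (g * (s * s) * g⁻¹) * n⁻¹ := by rw [hh]; group
      _ = v := by rw [hg, hn]; group
  have hSM : ∀ x ∈ S, x * (s * s) = s * s * x → h * x * h⁻¹ ∈ M := by
    intro x hx hxr
    have h1 := hn' _ ⟨x, mem_inf.2 ⟨hx, mem_centralizer_singleton_iff.2 hxr⟩, rfl⟩
    change n * (g * x * g⁻¹) * n⁻¹ ∈ _ at h1
    have e1 : h * x * h⁻¹ = n * (g * x * g⁻¹) * n⁻¹ := by rw [hh]; group
    rw [e1]
    exact h1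
  have hTr : IsConj v (s * s) := hc.symm
  have hTv : IsConj v (h * v * h⁻¹) := conj_h (IsConj.refl v)
  have hTu : IsConj v (h * u * h⁻¹) := conj_h (C.conj_vu D)
  have hprod : h * v * h⁻¹ * (h * u * h⁻¹) = h * (v * u) * h⁻¹ := by group
  have hprod1 : h * (v * u) * h⁻¹ ≠ 1 := by
    intro h1
    apply C.w_ne_one D
    have : v * u = h⁻¹ * (h * (v * u) * h⁻¹) * h := by group
    rw [this, h1]
    group
  have hnTw : ¬ IsConj v (h * (v * u) * h⁻¹) := by
    intro h1
    exact hnT (h1.trans (isConj_iff.2 ⟨h⁻¹, by group⟩))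
  by_cases hall : ∀ x, x ∈ M → x * (s * s) = s * s * x → h * x * h⁻¹ ∈ E
  · have hv' : h * v * h⁻¹ ∈ E := hall v (Or.inl hvE) D.rv
    have hu' : h * u * h⁻¹ ∈ E := hall u (Or.inl huE) D.ru
    obtain ⟨hv1, hv2⟩ := (C.T_iff D P hPS hv').1 hTv
    obtain ⟨hu1, hu2⟩ := (C.T_iff D P hPS hu').1 hTu
    have hno : ∀ X : Subgroup G, (X = V ∨ X = U) → h * v * h⁻¹ ∈ X → h * u * h⁻¹ ∈ X → False := by
      intro X hX h1 h2
      apply hnTw
      rw [← hprod]
      refine (C.T_iff D P hPS (mul_mem hv' hu')).2 ⟨?_, by rw [hprod]; exact hprod1⟩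
      rcases hX with rfl | rfl
      · exact Or.inl (mul_mem h1 h2)
      · exact Or.inr (mul_mem h1 h2)
    -- products with `v = h s² h⁻¹`
    have hp : ∀ a, a ∈ E → a * (s * s) = s * s * a → (h * a * h⁻¹) ∈ E →
        (h * a * h⁻¹) * v ∈ V ∨ (h * a * h⁻¹) * v ∈ U := by
      intro a ha har haE
      have h1 : IsConj v (h * (s * s * a) * h⁻¹) := conj_h (hTr.trans (C.conj_rz ha har))
      have h2 : h * (s * s * a) * h⁻¹ = (h * a * h⁻¹) * v := by
        rw [← har]
        calc h * (a * (s * s)) * h⁻¹ = (h * a * h⁻¹) * (h * (s * s) * h⁻¹) := by group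
          _ = _ := by rw [hr]
      rw [h2] at h1
      exact ((C.T_iff D P hPS (mul_mem haE hvE)).1 h1).1
    rcases hv1 with hv1 | hv1 <;> rcases hu1 with hu1 | hu1
    · exact hno V (Or.inl rfl) hv1 hu1
    · rcases hp u huE D.ru hu' with h1 | h1
      · exact hu2 (C.disj _ ((mul_mem_cancel_right D.vV).1 h1) hu1)
      · exact D.v1 (C.disj v D.vV ((mul_mem_cancel_left hu1).1 h1))
    · rcases hp v hvE D.rv hv' with h1 | h1
      · exact hv2 (C.disj _ ((mul_mem_cancel_right D.vV).1 h1) hv1)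
      · exact D.v1 (C.disj v D.vV ((mul_mem_cancel_left hv1).1 h1))
    · exact hno U (Or.inr rfl) hv1 hu1
  · push Not at hall
    obtain ⟨x1, hx1, hx1r, hx1E⟩ := hall
    have hx1S := hMS hx1
    obtain ⟨z1, hz1, hz1r, hy⟩ := C.cfg.inv_out (hSM x1 hx1S hx1r) hx1E (by
      have h1 := C.cfg.F_sq hx1 hx1r
      calc h * x1 * h⁻¹ * (h * x1 * h⁻¹) = h * (x1 * x1) * h⁻¹ := by group
        _ = 1 := by rw [h1]; group)
    have hFF : ∀ x, x ∈ M → x * (s * s) = s * s * x →
        h * x * h⁻¹ * (s * s) = s * s * (h * x * h⁻¹) := by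
      intro x hx hxr
      refine C.cfg.cent_dz (hSM x (hMS hx) hxr) hz1 hz1r ?_
      rw [← hy]
      calc h * x * h⁻¹ * (h * x1 * h⁻¹) = h * (x * x1) * h⁻¹ := by group
        _ = h * (x1 * x) * h⁻¹ := by rw [C.cfg.F_comm hx hxr hx1 hx1r]
        _ = _ := by group
    have hwr : v * u * (s * s) = s * s * (v * u) := by
      calc v * u * (s * s) = v * (u * (s * s)) := by group
        _ = v * (s * s) * u := by rw [D.ru]; group
        _ = s * s * (v * u) := by rw [D.rv]; group
    -- `h` centralises `w`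
    have hw : h * (v * u) * h⁻¹ = v * u := by
      have h1 := hSM (v * u) (C.E_le hwE) hwr
      have h2 := hFF (v * u) (Or.inl hwE) hwr
      rcases C.F_cases D h1 h2 with (h3 | h3 | h3 | h3) | ⟨z, hz, hzr, h3⟩
      · exact absurd h3 hprod1
      · have h4 : IsConj v (h * (v * u) * h⁻¹) := by rw [h3]
        exact absurd h4 hnTw
      · have h4 : IsConj v (h * (v * u) * h⁻¹) := by rw [h3]; exact C.conj_vu D
        exact absurd h4 hnTw
      · exact h3
      · have h4 : IsConj v (h * (v * u) * h⁻¹) := by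
          rw [h3]; exact hTr.trans (C.conj_rz hz hzr)
        exact absurd h4 hnTw
    -- surjectivity on `C_M(s²)`
    set F : Subgroup G := M ⊓ centralizer ({s * s} : Set G) with hF
    have mF : ∀ {x : G}, x ∈ F ↔ x ∈ M ∧ x * (s * s) = s * s * x := by
      intro x
      rw [hF, mem_inf, mem_centralizer_singleton_iff]
    have hFmap : F.map (MulAut.conj h).toMonoidHom = F := by
      apply Subgroup.eq_of_le_of_card_ge
      · rintro _ ⟨x, hx, rfl⟩
        obtain ⟨h1, h2⟩ := mF.1 hx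
        exact mF.2 ⟨hSM x (hMS h1) h2, hFF x h1 h2⟩
      · rw [Nat.card_congr (F.equivMapOfInjective _ (MulAut.conj h).injective).toEquiv.symm]
    have hrF : s * s ∈ F := mF.2 ⟨C.cfg.mem, rfl⟩
    rw [← hFmap] at hrF
    obtain ⟨x, hx, hxr0⟩ := hrF
    change h * x * h⁻¹ = s * s at hxr0
    obtain ⟨hxM, hxr⟩ := mF.1 hx
    have hsx : s * x * s⁻¹ = x ∨ s * x * s⁻¹ = x * (v * u) := by
      have hvv := C.sqE hvE
      have huu := C.sqE huE
      have hvu := C.comm v D.vV u D.uU
      have key : ∀ z, z ∈ E → z * (s * s) = s * s * z → s * z * s⁻¹ = z ∨ s * z * s⁻¹ = z * (v * u) := by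
        intro z hz hzr
        rcases D.W z hz hzr with rfl | rfl | rfl | rfl
        · left; group
        · right
          rw [D.sv, ← mul_assoc, hvv, one_mul]
        · right
          rw [D.su, hvu, ← mul_assoc, huu, one_mul]
        · left
          calc s * (v * u) * s⁻¹ = (s * v * s⁻¹) * (s * u * s⁻¹) := by group
            _ = u * v := by rw [D.sv, D.su]
            _ = v * u := hvu.symm
      by_cases hxE : x ∈ E
      · exact key x hxE hxr
      · rcases C.cfg.F_cases hxM hxr with ⟨h1, -⟩ | ⟨z, hz, hzr, h1⟩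
        · exact absurd h1 hxE
        · rcases key z hz hzr with h2 | h2
          · left
            rw [h1]
            calc s * (s * s * z) * s⁻¹ = s * s * (s * z * s⁻¹) := by group
              _ = s * s * z := by rw [h2]
          · right
            rw [h1]
            calc s * (s * s * z) * s⁻¹ = s * s * (s * z * s⁻¹) := by group
              _ = s * s * z * (v * u) := by rw [h2]; group
    -- `s' = h s h⁻¹`
    have hs'M : h * s * h⁻¹ ∈ M := hSM s C.s_mem (by group)
    have hs'2 : h * s * h⁻¹ * (h * s * h⁻¹) = v := by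
      calc h * s * h⁻¹ * (h * s * h⁻¹) = h * (s * s) * h⁻¹ := by group
        _ = v := hr
    have hs'E : h * s * h⁻¹ ∉ E := by
      intro h1
      apply D.v1
      rw [← hs'2]
      exact C.sqE h1
    obtain ⟨e, he, hs'⟩ := C.cfg.d_mul hs'M hs'E
    have hri : (s * s)⁻¹ = s * s := inv_eq_iff_mul_eq_one.mpr C.s4
    have hei : e⁻¹ = e := inv_eq_iff_mul_eq_one.mpr (C.sqE he)
    have h5 : (h * s * h⁻¹) * (s * s) * (h * s * h⁻¹)⁻¹ = v * (s * s) := by
      have h6 : s * s * e * (s * s * e) = v := by rw [← hs', hs'2]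
      have h7 : s * s * e * (s * s) = v * e := by
        calc s * s * e * (s * s) = s * s * e * (s * s * e) * e⁻¹ := by group
          _ = v * e := by rw [h6, hei]
      rw [hs', mul_inv_rev, hri, hei]
      calc s * s * e * (s * s) * (e * (s * s)) = v * e * (e * (s * s)) := by rw [h7]
        _ = v * (e * e) * (s * s) := by group
        _ = v * (s * s) := by rw [C.sqE he, mul_one]
    have h8 : (h * s * h⁻¹) * (s * s) * (h * s * h⁻¹)⁻¹ = h * (s * x * s⁻¹) * h⁻¹ := by
      rw [← hxr0]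
      group
    have h9 : (h * s * h⁻¹) * (s * s) * (h * s * h⁻¹)⁻¹ = s * s ∨
        (h * s * h⁻¹) * (s * s) * (h * s * h⁻¹)⁻¹ = s * s * (v * u) := by
      rw [h8]
      rcases hsx with h6 | h6
      · left
        rw [h6, hxr0]
      · right
        rw [h6]
        calc h * (x * (v * u)) * h⁻¹ = (h * x * h⁻¹) * (h * (v * u) * h⁻¹) := by group
          _ = s * s * (v * u) := by rw [hxr0, hw]
    rw [h5, D.rv] at h9
    rcases h9 with h6 | h6
    · exact D.v1 (mul_left_cancel (h6.trans (mul_one _).symm))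
    · have h7 := mul_left_cancel h6
      exact D.u1 (mul_left_cancel (h7.symm.trans (mul_one v).symm))

/-- `s²` is fused into `E` -/
theorem exists_conj_W [Finite G] (P : Sylow 2 G) (hPS : (P : Subgroup G) = S)
    (hG : ∀ H : Subgroup G, H.index ≠ 2) :
    ∃ z ∈ E, z * (s * s) = s * s * z ∧ z ≠ 1 ∧ IsConj (s * s) z := by
  by_contra hcon
  push Not at hcon
  set M := MM E (s * s) C.s4 (fun _ he => C.rE he) with hMdef
  have mM : ∀ {x : G}, x ∈ M ↔ x ∈ E ∨ s * s * x ∈ E := Iff.rfl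
  have hMS : M ≤ S := by
    intro x hx
    rcases hx with h | h
    · exact C.E_le h
    · exact (mul_mem_cancel_left (mul_mem C.s_mem C.s_mem)).1 (C.E_le h)
  have hsM : s ∉ M := by
    rintro (h | h)
    · exact C.r_nmem (mul_mem h h)
    · -- `s³ ∈ E`
      have h1 : s⁻¹ ∈ E := by rw [C.s_inv]; exact h
      have h2 : s ∈ E := inv_mem_iff.1 h1
      exact C.r_nmem (mul_mem h2 h2)
  have hr1 : s * s ≠ 1 := fun h => C.r_nmem (h ▸ E.one_mem)
  have hrM : s * s ∈ M := C.cfg.mem
  have hind : (M.subgroupOf S).index = 2 := by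
    rw [Subgroup.index_eq_two_iff]
    refine ⟨⟨s, C.s_mem⟩, fun x => ?_⟩
    rw [mem_subgroupOf, mem_subgroupOf]
    change Xor (((x : G) * s) ∈ M) ((x : G) ∈ M)
    by_cases hx : (x : G) ∈ M
    · exact Or.inr ⟨hx, fun h => hsM ((mul_mem_cancel_left hx).1 h)⟩
    · refine Or.inl ⟨?_, hx⟩
      obtain ⟨e, he, h1 | h1⟩ := C.cov' x.2 hx
      · rw [h1]
        exact Or.inl (C.sE' he)
      · rw [h1]
        have e1 : s * e * s = (s * s) * (s⁻¹ * e * s) := by group
        rw [e1]
        exact mul_mem hrM (Or.inl (C.sE' he))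
  obtain ⟨H, hH⟩ := TwoFusion.IndexTwo.exists_index_two S (hPS ▸ TwoFusion.IndexTwo.odd_index_sylow P)
    (M.subgroupOf S) hind ⟨s, C.s_mem⟩ (fun h => hsM (mem_subgroupOf.1 h)) (by
    intro k g₀ h
    rw [mem_subgroupOf, mem_subgroupOf]
    change g₀⁻¹ * s ^ k * g₀ ∈ M ↔ s ^ k ∈ M
    change g₀⁻¹ * s ^ k * g₀ ∈ S at h
    have hs2k : ∀ m : ℕ, s ^ (2 * m) = 1 ∨ s ^ (2 * m) = s * s := by
      intro m
      rw [pow_mul, pow_two]
      rcases Nat.even_or_odd m with ⟨j, hj⟩ | ⟨j, hj⟩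
      · left
        rw [hj, ← two_mul, pow_mul, pow_two, C.s4, one_pow]
      · right
        rw [hj, pow_succ, pow_mul, pow_two, C.s4, one_pow, one_mul]
    rcases Nat.even_or_odd k with ⟨m, hm⟩ | ⟨m, hm⟩
    · rw [← two_mul] at hm
      subst hm
      have hsq : s ^ (2 * m) * s ^ (2 * m) = 1 := by
        rcases hs2k m with h1 | h1 <;> rw [h1]
        · rw [one_mul]
        · exact C.s4
      constructor
      · intro _
        rcases hs2k m with h1 | h1 <;> rw [h1]
        · exact M.one_mem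
        · exact hrM
      · intro _
        refine C.inv_mem_M h ?_
        calc g₀⁻¹ * s ^ (2 * m) * g₀ * (g₀⁻¹ * s ^ (2 * m) * g₀) = g₀⁻¹ * (s ^ (2 * m) * s ^ (2 * m)) * g₀ := by
              group
          _ = 1 := by rw [hsq]; group
    · subst hm
      constructor
      · intro hy
        exfalso
        set y := g₀⁻¹ * s ^ (2 * m + 1) * g₀ with hydef
        have hyy : y * y = g₀⁻¹ * (s * s) * g₀ := by
          have h1 : s ^ (2 * m + 1) * s ^ (2 * m + 1) = s * s := by
            rw [pow_succ]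
            rcases hs2k m with h2 | h2 <;> rw [h2]
            · group
            · calc s * s * s * (s * s * s) = (s * s * (s * s)) * (s * s) := by group
                _ = s * s := by rw [C.s4, one_mul]
          calc y * y = g₀⁻¹ * (s ^ (2 * m + 1) * s ^ (2 * m + 1)) * g₀ := by rw [hydef]; group
            _ = _ := by rw [h1]
        have hyy1 : y * y ≠ 1 := by
          rw [hyy]
          intro h1
          apply hr1
          have : s * s = g₀ * (g₀⁻¹ * (s * s) * g₀) * g₀⁻¹ := by group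
          rw [this, h1]
          group
        have hyE : y ∉ E := fun h1 => hyy1 (C.sqE h1)
        obtain ⟨e, he, hye⟩ := C.cfg.d_mul hy hyE
        have hyyE : y * y ∈ E := by
          have : y * y = (s * s * e * (s * s)) * e := by rw [hye]; group
          rw [this]
          exact mul_mem (C.rE he) he
        have hyyr : y * y * (s * s) = s * s * (y * y) := by
          rw [hye]
          have h1 : s * s * e * (s * s * e) = e * (s * s * e * (s * s)) := by
            calc s * s * e * (s * s * e) = (s * s * e * (s * s)) * e := by group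
              _ = e * (s * s * e * (s * s)) := C.commE (C.rE he) he
          calc s * s * e * (s * s * e) * (s * s) = s * s * (e * (s * s * e * (s * s))) := by group
            _ = s * s * (s * s * e * (s * s * e)) := by rw [← h1]
        refine hcon _ hyyE hyyr hyy1 ?_
        rw [hyy]
        exact isConj_iff.2 ⟨g₀⁻¹, by group⟩
      · intro h1
        exfalso
        apply hsM
        have h2 : s ^ (2 * m) ∈ M := by
          rcases hs2k m with h3 | h3 <;> rw [h3]
          · exact M.one_mem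
          · exact hrM
        rw [pow_succ] at h1
        exact (mul_mem_cancel_left h2).1 h1)
  exact hG H hH

/-- **[SX2]** No Sylow 2-subgroup `Z₂ wr Z₄` of this kind in a group without subgroups of index two. -/
theorem false_of_no_index_two [Finite G] (P : Sylow 2 G) (hPS : (P : Subgroup G) = S)
    (hG : ∀ H : Subgroup G, H.index ≠ 2) : False := by
  obtain ⟨v, u, D⟩ := C.exists_dat
  obtain ⟨z, hz, hzr, hz1, hc⟩ := C.exists_conj_W P hPS hG
  rcases D.W z hz hzr with h | h | h | h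
  · exact hz1 h
  · exact C.caseV D P hPS (h ▸ hc)
  · exact C.caseV D P hPS ((h ▸ hc : IsConj (s * s) u).trans (C.conj_vu D).symm)
  · exact C.caseW D P hPS (h ▸ hc)

end Cyc

end Cfsg.Agent.GH.L2.WrCyc
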